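import Cfsg.Agent.Lib.Char.EvenClass.Gauss
import Cfsg.Agent.Lib.IsometryConj.SympCharpoly

/-!
# Blocks with a prescribed symmetrised characteristic polynomial

For `h` monic of degree `d` without root zero there are a quadratic space of dimension `2d` with an isometry of
characteristic polynomial `symmetrize d h`, of sign `psi (h₁ / h₀)`; for `h` with root zero both signs occur.
-/

set_option autoImplicit false
set_option linter.unusedSectionVars false

open scoped Classical

namespace CfsgLib.Char.EvenClass

open Module Polynomial CfsgLib.IsometryConj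

variable {F : Type*} [Field F] [CharP F 2] [Finite F]

section Triv

variable {V W : Type*} [AddCommGroup V] [Module F V] [AddCommGroup W] [Module F W]

theorem QUni.N_eq_zero_of_g {x : QUni F V} (h : x.g = 1) : x.N = 0 := by
  rw [QUni.N, h, add_self_end]

theorem QUni.g_pull {x : QUni F V} (h : x.g = 1) (φ : W ≃ₗ[F] V) : (x.pull φ).g = 1 := by
  refine LinearMap.ext fun u => ?_
  simp [QUni.pull, h, LinearEquiv.conj_apply]

variable [FiniteDimensional F V]

theorem pieces_of_N_eq_zero : ∀ (s : Multiset Piece) (d : ℕ) (x : QUni F (Fin d → F)), x.N = 0 →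
    val F s = cls x → (∀ p ∈ s, Real F p) → ∀ p ∈ s, ∃ b, p = Piece.o 0 b := by
  intro s
  induction s using Multiset.induction_on with
  | empty => intro d x _ _ _ p hp; exact absurd hp (Multiset.notMem_zero p)
  | cons p t ih =>
    intro d x hN hv hr q hq
    obtain ⟨e, z, hz, hzc⟩ := (hr p (Multiset.mem_cons_self p t)).exists_rep
    obtain ⟨e', R, hR⟩ := exists_cls_eq (val F t)
    have h1 : x.Iso (z.prod R) := by
      refine cls_eq_iff.1 ?_
      rw [← hv, ← cls_prod, hzc, hR]
      simp [val]
    obtain ⟨φ, hg, -⟩ := h1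
    have hzero : ∀ u, (z.prod R).N u = 0 := fun u => by
      rw [← φ.apply_symm_apply u, ← QUni.map_N hg, hN, LinearMap.zero_apply, map_zero]
    have hzN : z.N = 0 := LinearMap.ext fun u => congrArg Prod.fst (hzero (u, 0))
    have hRN : R.N = 0 := LinearMap.ext fun u => congrArg Prod.snd (hzero (0, u))
    have hzT : ∀ u, z.T u = 0 := fun u => by
      have h := z.NN_apply u
      simp [hzN] at h
      exact h.symm
    rcases Multiset.mem_cons.1 hq with rfl | hq
    · rcases q with ⟨k, b⟩ | k | ⟨k, b⟩
      · obtain ⟨-, u, -, hl⟩ := hz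
        have h := hl (k + 1)
        rw [if_pos rfl, z.lev_succ, hzN, LinearMap.zero_apply, map_zero, LinearMap.zero_apply] at h
        exact absurd h.symm one_ne_zero
      · obtain ⟨-, u, v, -, -, -, -, -, hB⟩ := hz
        have h := hB k
        rw [if_pos rfl, hzN, LinearMap.zero_apply, map_zero, LinearMap.zero_apply] at h
        exact absurd h.symm one_ne_zero
      · rcases k with - | k
        · exact ⟨b, rfl⟩
        · obtain ⟨-, u, v, -, -, -, -, hB, -⟩ := hz
          have h := hB (k + 1)
          rw [if_pos rfl, pow_succ', Module.End.mul_apply, hzT, map_zero, LinearMap.zero_apply] at h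
          exact absurd h.symm one_ne_zero
    · exact ih _ R hRN hR.symm (fun r hr' => hr r (Multiset.mem_cons_of_mem hr')) q hq

theorem dec_of_g {x : QUni F V} (h : x.g = 1) {s : Multiset Piece} (hs : IsDec x s) (hg : Good s) :
    s.count (.o 0 true) + s.count (.o 0 false) = weight s ∧ par s = (s.count (.o 0 true) : ZMod 2) ∧
      s.count (.o 0 true) ≤ 1 ∧ ∀ p ∈ s, ∃ b, p = Piece.o 0 b := by
  have hp := pieces_of_N_eq_zero s _ (x.pull (Module.finBasis F V).equivFun.symm)
    (QUni.N_eq_zero_of_g (QUni.g_pull h _)) (hs.1.trans (cls_eq_iff.2 (x.pull_iso _)).symm) hs.2.1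
  refine ⟨?_, ?_, hg.oneO 0, hp⟩
  · clear hs hg
    induction s using Multiset.induction_on with
    | empty => simp [weight]
    | cons p t ih =>
      obtain ⟨b, rfl⟩ := hp p (Multiset.mem_cons_self p t)
      have := ih fun r hr => hp r (Multiset.mem_cons_of_mem hr)
      simp only [weight, Multiset.map_cons, Multiset.sum_cons] at this ⊢
      cases b <;> simp [Piece.half] <;> omega
  · clear hs hg
    induction s using Multiset.induction_on with
    | empty => simp [par]
    | cons p t ih =>
      obtain ⟨b, rfl⟩ := hp p (Multiset.mem_cons_self p t)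
      have := ih fun r hr => hp r (Multiset.mem_cons_of_mem hr)
      simp only [par, Multiset.map_cons, Multiset.sum_cons] at this ⊢
      cases b <;> simp [Piece.par, this, add_comm]

/-- Quadratic spaces of equal dimension and equal character sum are isometric. -/
theorem quad_iso [FiniteDimensional F W] {x : QUni F V} {y : QUni F W} (hx : x.g = 1) (hy : y.g = 1)
    (hd : finrank F V = finrank F W) (hgs : x.gs = y.gs) : x.Iso y := by
  obtain ⟨s, hs, hsg⟩ := exists_good x
  obtain ⟨t, ht, htg⟩ := exists_good y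
  have hw : weight s = weight t := by have := hs.2.2; have := ht.2.2; omega
  rw [gs_of_isDec hs, gs_of_isDec ht, hw] at hgs
  have hpar := parSign_injective (mul_left_cancel₀ (pow_ne_zero _ (Nat.cast_ne_zero.2 Nat.card_pos.ne')) hgs)
  obtain ⟨s1, s2, s3, s4⟩ := dec_of_g hx hs hsg
  obtain ⟨t1, t2, t3, t4⟩ := dec_of_g hy ht htg
  rw [s2, t2] at hpar
  have hct : s.count (.o 0 true) = t.count (.o 0 true) := by
    generalize hA : s.count (Piece.o 0 true) = A at *
    generalize hB : t.count (Piece.o 0 true) = B at *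
    interval_cases A <;> interval_cases B <;> simp_all
  have hst : s = t := by
    refine Multiset.ext.2 fun p => ?_
    by_cases hp : ∃ b, p = Piece.o 0 b
    · obtain ⟨b, rfl⟩ := hp
      cases b <;> omega
    · rw [Multiset.count_eq_zero.2 fun h => hp (s4 p h), Multiset.count_eq_zero.2 fun h => hp (t4 p h)]
  exact iso_of_isDec hs (hst ▸ ht)

end Triv

/-- A quadratic space with an isometry of characteristic polynomial the symmetrisation of `h`. -/
def Realises (h : F[X]) (σ : ℤ) : Prop :=
  ∃ (d : ℕ) (x : QUni F (Fin d → F)) (g : Module.End F (Fin d → F)), x.g = 1 ∧ d = 2 * h.natDegree ∧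
    (∀ u, x.Q (g u) = x.Q u) ∧ g.charpoly = symmetrize h.natDegree h ∧
      x.gs = (Nat.card F : ℤ) ^ h.natDegree * σ

theorem realises_of_space {V : Type*} [AddCommGroup V] [Module F V] [FiniteDimensional F V] (h : F[X]) (σ : ℤ)
    (x : QUni F V) (g : Module.End F V) (hx : x.g = 1) (hd : finrank F V = 2 * h.natDegree)
    (hQ : ∀ u, x.Q (g u) = x.Q u) (hc : g.charpoly = symmetrize h.natDegree h)
    (hgs : x.gs = (Nat.card F : ℤ) ^ h.natDegree * σ) : Realises h σ := by
  let φ := (Module.finBasis F V).equivFun.symm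
  refine ⟨_, x.pull φ, φ.symm.conj g, QUni.g_pull hx φ, hd, fun u => ?_, ?_, ?_⟩
  · simp [QUni.pull, LinearEquiv.conj_apply, hQ]
  · rw [LinearEquiv.charpoly_conj, hc]
  · rw [(x.pull_iso φ).gs_eq, hgs]

theorem symmetrize_mul {a b : ℕ} {p r : F[X]} (hp : p.natDegree ≤ a) (hr : r.natDegree ≤ b) :
    symmetrize (a + b) (p * r) = symmetrize a p * symmetrize b r := by
  set φ := algebraMap F[X] (RatFunc F)
  let ψ : F →+* RatFunc F := φ.comp Polynomial.C
  have hb0 : φ X ≠ 0 := by
    rw [map_ne_zero_iff _ (IsFractionRing.injective F[X] (RatFunc F))]; exact Polynomial.X_ne_zero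
  have key : ∀ (n : ℕ) (f : F[X]), f.natDegree ≤ n →
      φ (symmetrize n f) = φ X ^ n * f.eval₂ ψ (φ (X ^ 2 + 1) / φ X) := by
    intro n f hf
    rw [eval₂_eq_sum_range' ψ (show f.natDegree < n + 1 by omega), symmetrize, map_sum, Finset.mul_sum]
    refine Finset.sum_congr rfl fun j hj => ?_
    have hj' : j ≤ n := Nat.lt_succ_iff.1 (Finset.mem_range.1 hj)
    rw [map_mul, map_mul, map_pow φ _ j, map_pow φ _ (n - j)]
    show ψ (f.coeff j) * (_ * φ X ^ (n - j)) = _
    conv_rhs => rw [div_pow, ← Nat.sub_add_cancel hj', pow_add]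
    field_simp
  refine IsFractionRing.injective F[X] (RatFunc F) ?_
  show φ _ = φ _
  rw [map_mul, key _ _ (natDegree_mul_le.trans (add_le_add hp hr)), key _ _ hp, key _ _ hr, eval₂_mul, pow_add]
  ring

theorem Realises.mul {h h' : F[X]} {σ σ' : ℤ} (hm : h.Monic) (hm' : h'.Monic) (r : Realises h σ)
    (r' : Realises h' σ') : Realises (h * h') (σ * σ') := by
  obtain ⟨d, x, g, hx, hd, hQ, hc, hgs⟩ := r
  obtain ⟨d', x', g', hx', hd', hQ', hc', hgs'⟩ := r'
  have hdeg := hm.natDegree_mul hm'
  refine realises_of_space _ _ (x.prod x') (g.prodMap g') ?_ ?_ (fun u => ?_) ?_ ?_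
  · refine LinearMap.ext fun u => ?_
    simp [QUni.prod, hx, hx']
  · rw [Module.finrank_prod, Module.finrank_fin_fun, Module.finrank_fin_fun, hdeg, hd, hd']; ring
  · simp [QUni.prod, hQ, hQ']
  · rw [LinearMap.charpoly_prodMap, hc, hc', hdeg, symmetrize_mul le_rfl le_rfl]
  · rw [QUni.gs_prod, hgs, hgs', hdeg, pow_add]; ring

theorem realises_one : Realises (1 : F[X]) 1 := by
  refine realises_of_space _ _ (QUni.zero F (Fin 0 → F)) 1 rfl (by simp) (fun _ => rfl) ?_ ?_
  · rw [← LinearMap.charpoly_toMatrix (1 : Module.End F (Fin 0 → F)) (Pi.basisFun F (Fin 0))]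
    simp [symmetrize, Matrix.charpoly, Matrix.det_isEmpty]
  · rw [QUni.gs, gauss, finsum_eq_sum_of_fintype]
    simp [QUni.zero, psi_zero]

/-- Both signs for the root zero. -/
theorem realises_X (α : F) : Realises (X : F[X]) (psi α) := by
  let Q : F × F → F := fun c => c.1 ^ 2 * α + c.2 ^ 2 * 1 + c.1 * c.2
  let B : LinearMap.BilinForm F (F × F) :=
    LinearMap.mk₂ F (fun u v => u.1 * v.2 + u.2 * v.1) (fun a b c => by simp; ring) (fun t a b => by simp; ring)
      (fun a b c => by simp; ring) (fun t a b => by simp; ring)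
  let x : QUni F (F × F) :=
    { B := B
      g := 1
      Q := Q
      alt := fun u => by
        show u.1 * u.2 + u.2 * u.1 = 0
        rw [mul_comm]; exact CharTwo.add_self_eq_zero _
      sep := fun u hu => by
        have h1 := hu (0, 1)
        have h2 := hu (1, 0)
        change u.1 * 1 + u.2 * 0 = 0 at h1
        change u.1 * 0 + u.2 * 1 = 0 at h2
        refine Prod.ext ?_ ?_ <;> simp at h1 h2 ⊢ <;> assumption
      inv := fun _ _ => rfl
      nil := ⟨1, by rw [pow_one, add_self_end]⟩
      Q_smul := fun c u => by simp [Q]; ring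
      Q_add := fun u v => by
        show Q (u + v) = Q u + Q v + (u.1 * v.2 + u.2 * v.1)
        simp only [Q, Prod.fst_add, Prod.snd_add, CharTwo.add_sq]
        ring
      Q_g := fun _ => rfl }
  refine realises_of_space _ _ x 1 rfl ?_ (fun _ => rfl) ?_ ?_
  · rw [Module.finrank_prod, Module.finrank_self, natDegree_X]
  · rw [← LinearMap.charpoly_toMatrix (1 : Module.End F (F × F)) ((Module.Basis.singleton (Fin 1) F).prod
      (Module.Basis.singleton (Fin 1) F)), LinearMap.toMatrix_one, Matrix.charpoly_one, natDegree_X, symmetrize,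
      Finset.sum_range_succ, Finset.sum_range_succ]
    simp [sq, Fintype.card_sum]
    linear_combination -(CharTwo.add_self_eq_zero (X : F[X]))
  · show gauss Q = _
    rw [gauss_plane, natDegree_X, pow_one, mul_one]

theorem psi_trace (K : Type*) [Field K] [Algebra F K] [Finite K] [CharP K 2] (z : K) :
    psi (Algebra.trace F K z) = psi z := by
  haveI : FiniteDimensional F K := Module.Finite.of_finite
  have hwp : ∀ w : K, InWp w → InWp (Algebra.trace F K w) := by
    rintro _ ⟨c, rfl⟩
    refine ⟨Algebra.trace F K c, ?_⟩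
    have h : Algebra.trace F K (c ^ 2) = Algebra.trace F K c ^ 2 := (algebraMap F K).injective (by
      rw [RingHom.map_pow, FiniteField.algebraMap_trace_eq_sum_pow, FiniteField.algebraMap_trace_eq_sum_pow,
        CharTwo.sum_sq]
      exact Finset.sum_congr rfl fun i _ => by rw [← pow_mul, ← pow_mul, mul_comm])
    rw [map_add, h]
  by_cases hz : InWp z
  · simp [psi, hz, hwp z hz]
  · obtain ⟨w, hw⟩ := Algebra.trace_surjective F K (al F)
    have hwn : ¬ InWp w := fun h => al_not_inWp (hw ▸ hwp w h)
    have h1 : psi (z + w) = 1 := by rw [psi_add]; simp [psi, hz, hwn]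
    have h2 : psi (Algebra.trace F K (z + w)) = 1 := by
      have : InWp (z + w) := by
        by_contra hc
        simp [psi, hc] at h1
      exact if_pos (hwp _ this)
    rw [map_add, hw, psi_add] at h2
    have h3 : psi (al F) = -1 := if_neg al_not_inWp
    have h4 : psi z = -1 := if_neg hz
    rw [h4]
    rw [h3] at h2
    omega

/-- An irreducible block. -/
theorem realises_irreducible {P : F[X]} (hi : Irreducible P) (hm : P.Monic) (h0 : P.coeff 0 ≠ 0) :
    Realises P (psi (P.coeff 1 / P.coeff 0)) := by
  haveI := Fintype.ofFinite F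
  haveI : Fact (Irreducible P) := ⟨hi⟩
  set d := P.natDegree with hd
  haveI : Module.Finite F (AdjoinRoot P) := hm.finite_adjoinRoot
  haveI : Finite (AdjoinRoot P) := Module.finite_of_finite F
  haveI : CharP (AdjoinRoot P) 2 := charP_of_injective_algebraMap (algebraMap F (AdjoinRoot P)).injective 2
  let pb := AdjoinRoot.powerBasis hm.ne_zero
  have hdim : pb.dim = d := rfl
  let b := pb.basis.reindex (finCongr hdim)
  let y := pb.gen
  set C₀ := Algebra.leftMulMatrix b y with hC₀
  have hC : C₀.charpoly = P := by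
    have : C₀ = Matrix.reindex (finCongr hdim) (finCongr hdim) (Algebra.leftMulMatrix pb.basis y) := by
      ext i j
      simp [C₀, b, Algebra.leftMulMatrix_eq_repr_mul]
    rw [this, Matrix.charpoly_reindex, charpoly_leftMulMatrix]
    exact AdjoinRoot.minpoly_powerBasis_gen_of_monic hm
  have hd0 : 0 < d := hi.natDegree_pos
  haveI : Nonempty (Fin d) := ⟨⟨0, hd0⟩⟩
  have hdet : C₀.det = P.coeff 0 := by
    rw [Matrix.det_eq_sign_charpoly_coeff, hC, CharTwo.neg_eq, one_pow, one_mul]
  have hy : y ≠ 0 := fun h => h0 (by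
    rw [← hdet, hC₀, h, map_zero, Matrix.det_zero])
  have htr : Algebra.trace F (AdjoinRoot P) y⁻¹ = P.coeff 1 / P.coeff 0 := by
    have hu : IsUnit C₀ := (Matrix.isUnit_iff_isUnit_det _).2 (by rw [hdet]; exact h0.isUnit)
    have hinv : Algebra.leftMulMatrix b y⁻¹ = C₀⁻¹ := by
      refine (Matrix.inv_eq_left_inv ?_).symm
      rw [hC₀, ← map_mul, inv_mul_cancel₀ hy, map_one]
    rw [Algebra.trace_eq_matrix_trace b, hinv, Matrix.trace_eq_neg_charpoly_coeff, CharTwo.neg_eq,
      Matrix.charpoly_inv _ hu, ← Matrix.reverse_charpoly, hC, hdet, Fintype.card_fin,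
      show (-1 : F[X]) = 1 from CharTwo.neg_eq 1, one_pow, one_mul, Ring.inverse_eq_inv', Polynomial.coeff_C_mul,
      Polynomial.coeff_reverse, Polynomial.revAt_le (by omega), ← hd, show d - (d - 1) = 1 by omega,
      div_eq_inv_mul]
  let τ := Algebra.trace F (AdjoinRoot P)
  have hτc : ∀ z, τ (z + z) = 0 := fun z => by rw [CharTwo.add_self_eq_zero, map_zero]
  let B : LinearMap.BilinForm F (AdjoinRoot P × AdjoinRoot P) :=
    LinearMap.mk₂ F (fun u v => τ (y * (u.1 * v.2 + u.2 * v.1)))
      (fun a b c => by simp only [Prod.fst_add, Prod.snd_add, ← map_add]; congr 1; ring)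
      (fun t a b => by
        simp only [Prod.smul_fst, Prod.smul_snd, ← map_smul, smul_mul_assoc, mul_smul_comm, ← smul_add])
      (fun a b c => by simp only [Prod.fst_add, Prod.snd_add, ← map_add]; congr 1; ring)
      (fun t a b => by
        simp only [Prod.smul_fst, Prod.smul_snd, ← map_smul, smul_mul_assoc, mul_smul_comm, ← smul_add])
  let q : AdjoinRoot P × AdjoinRoot P → AdjoinRoot P := fun u => u.1 ^ 2 + y * (u.1 * u.2) + u.2 ^ 2
  let x : QUni F (AdjoinRoot P × AdjoinRoot P) :=
    { B := B
      g := 1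
      Q := fun u => τ (q u)
      alt := fun u => by
        show τ (y * (u.1 * u.2 + u.2 * u.1)) = 0
        rw [mul_comm u.2 u.1, CharTwo.add_self_eq_zero, mul_zero, map_zero]
      sep := fun u hu => by
        have key : ∀ c : AdjoinRoot P, (∀ w, τ (y * (c * w)) = 0) → c = 0 := fun c hc => by
          have h := (traceForm_nondegenerate F (AdjoinRoot P)).1 (y * c) fun w => by
            rw [Algebra.traceForm_apply, mul_assoc]; exact hc w
          exact (mul_eq_zero.1 h).resolve_left hy
        refine Prod.ext (key _ fun w => ?_) (key _ fun w => ?_)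
        · have := hu (0, w); simpa [B] using this
        · have := hu (w, 0); simpa [B] using this
      inv := fun _ _ => rfl
      nil := ⟨1, by rw [pow_one, add_self_end]⟩
      Q_smul := fun c u => by
        rw [← smul_eq_mul, ← map_smul]
        congr 1
        simp only [q, Prod.smul_fst, Prod.smul_snd]
        simp only [Algebra.smul_def, map_pow]
        ring
      Q_add := fun u v => by
        show τ (q (u + v)) = τ (q u) + τ (q v) + τ (y * (u.1 * v.2 + u.2 * v.1))
        rw [← map_add, ← map_add]
        congr 1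
        simp only [q, Prod.fst_add, Prod.snd_add, CharTwo.add_sq]
        ring
      Q_g := fun _ => rfl }
  let g : Module.End F (AdjoinRoot P × AdjoinRoot P) :=
    (LinearMap.snd F _ _).prod (LinearMap.fst F _ _ + (LinearMap.mulLeft F y).comp (LinearMap.snd F _ _))
  refine realises_of_space _ _ x g rfl ?_ (fun u => ?_) ?_ ?_
  · rw [Module.finrank_prod, pb.finrank, hdim]; ring
  · show τ (q (u.2, u.1 + y * u.2)) = τ (q u)
    congr 1
    simp only [q, CharTwo.add_sq]
    linear_combination (CharTwo.add_self_eq_zero ((y * u.2) ^ 2))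
  · have hmat : LinearMap.toMatrix (b.prod b) (b.prod b) g = Matrix.fromBlocks (0 : Matrix (Fin d) (Fin d) F)
        (-1 : Matrix (Fin d) (Fin d) F) (1 : Matrix (Fin d) (Fin d) F) C₀ := by
      ext i j
      rcases i with i | i <;> rcases j with j | j <;>
        simp [LinearMap.toMatrix_apply, g, C₀, Algebra.leftMulMatrix_eq_repr_mul, Matrix.one_apply,
          Finsupp.single_apply, CharTwo.neg_eq, eq_comm]
    rw [← LinearMap.charpoly_toMatrix g (b.prod b), hmat]
    exact charpoly_companion_block P rfl C₀ hC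
  · show gauss (fun u => τ (q u)) = _
    have e1 : gauss (fun u => τ (q u)) = gauss q := by
      simp only [gauss, τ, psi_trace]
    let sc : AdjoinRoot P × AdjoinRoot P ≃ AdjoinRoot P × AdjoinRoot P :=
      Equiv.prodCongr (Equiv.mulLeft₀ y⁻¹ (inv_ne_zero hy)) (Equiv.refl _)
    have e2 : gauss q = gauss (fun c : AdjoinRoot P × AdjoinRoot P => c.1 ^ 2 * (y⁻¹ ^ 2) + c.2 ^ 2 * 1 + c.1 * c.2) := by
      rw [← gauss_equiv sc q]
      refine congrArg gauss (funext fun c => ?_)
      show (y⁻¹ * c.1) ^ 2 + y * (y⁻¹ * c.1 * c.2) + c.2 ^ 2 = _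
      field_simp
      ring
    rw [e1, e2, gauss_plane, mul_one, psi_sq, ← psi_trace (F := F), htr]
    haveI := Fintype.ofFinite (AdjoinRoot P)
    rw [Nat.card_eq_fintype_card, Module.card_eq_pow_finrank (K := F) (V := AdjoinRoot P), Nat.card_eq_fintype_card,
      pb.finrank, hdim]
    push_cast
    rfl

end CfsgLib.Char.EvenClass
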