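import Cfsg.Agent.Lib.Char.EvenClass.Rel

/-!
# Normal forms

Every quadratic space with a unipotent isometry has a decomposition with at most two `V (2h)` for each `h`, bits only
at the bottom of a run of consecutive `V`'s, or on a `W (2h+1)` without neighbouring `V`, and at most one for each size.
For alternating forms the bits of `V 2` and `W 1` disappear.
-/

set_option autoImplicit false
set_option linter.unusedSectionVars false

open scoped Classical

namespace CfsgLib.Char.EvenClass

open Module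

/-- The conditions on a normal form. -/
structure Good (s : Multiset Piece) : Prop where
  two : ∀ k, s.count (.v k true) + s.count (.v k false) ≤ 2
  oneV : ∀ k, s.count (.v k true) ≤ 1
  chain : ∀ k b, Piece.v (k + 1) true ∈ s → Piece.v k b ∉ s
  oneO : ∀ k, s.count (.o k true) ≤ 1
  nbr : ∀ k b, Piece.o k true ∈ s → Piece.v k b ∉ s
  nbr' : ∀ k b, Piece.o (k + 1) true ∈ s → Piece.v k b ∉ s

/-- One for a `V`. -/
def Piece.nv : Piece → ℕ
  | .v _ _ => 1
  | _ => 0

/-- One for a `W` of odd size with bit. -/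
def Piece.nob : Piece → ℕ
  | .o _ true => 1
  | _ => 0

/-- The weight of the bit of a `V`. -/
def Piece.pot : Piece → ℕ
  | .v k true => 3 ^ k
  | _ => 0

/-- The key minimised by a normal form. -/
def key (s : Multiset Piece) : ℕ ×ₗ ℕ ×ₗ ℕ :=
  toLex ((s.map Piece.nv).sum, toLex ((s.map Piece.nob).sum, (s.map Piece.pot).sum))

theorem key_lt {a a' t : Multiset Piece}
    (h : (a'.map Piece.nv).sum < (a.map Piece.nv).sum ∨
      ((a'.map Piece.nv).sum = (a.map Piece.nv).sum ∧ ((a'.map Piece.nob).sum < (a.map Piece.nob).sum ∨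
        ((a'.map Piece.nob).sum = (a.map Piece.nob).sum ∧ (a'.map Piece.pot).sum < (a.map Piece.pot).sum)))) :
    key (a' + t) < key (a + t) := by
  simp only [key, Multiset.map_add, Multiset.sum_add, Prod.Lex.toLex_lt_toLex]
  omega

variable {F : Type*} [Field F] [CharP F 2] [Finite F]
variable {V : Type*} [AddCommGroup V] [Module F V] [FiniteDimensional F V]

/-- A family of multisets closed under replacing summands. -/
def Closed (F : Type*) [Field F] [CharP F 2] [Finite F] (D : Multiset Piece → Prop) : Prop :=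
  (∀ s, D s → ∀ p ∈ s, Real F p) ∧
    ∀ a a' t, D (a + t) → val F a' = val F a → (∀ p ∈ a', Real F p) → weight a' = weight a → D (a' + t)

theorem closed_isDec (x : QUni F V) : Closed F (IsDec x) := by
  refine ⟨fun s h => h.2.1, fun a a' t h hv hr hw => ⟨?_, fun p hp => ?_, ?_⟩⟩
  · have h1 := h.1
    simp only [val, Multiset.map_add, Multiset.sum_add] at hv h1 ⊢
    rw [hv, h1]
  · rcases Multiset.mem_add.1 hp with hp | hp
    · exact hr p hp
    · exact h.2.1 p (Multiset.mem_add.2 (Or.inr hp))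
  · have h1 := h.2.2
    simp only [weight, Multiset.map_add, Multiset.sum_add] at hw h1 ⊢
    omega

theorem val_pair (p q : Piece) : val F ({p, q} : Multiset Piece) = pc F p + pc F q := by
  simp [val]

theorem half_setBit (q : Piece) (b : Bool) : (q.setBit b).half = q.half := by cases q <;> rfl

theorem pair_le {s : Multiset Piece} {p q : Piece} (hp : p ∈ s) (hq : q ∈ s.erase p) :
    ∃ t, s = ({p, q} : Multiset Piece) + t :=
  ⟨(s.erase p).erase q, by
    rw [Multiset.insert_eq_cons, Multiset.cons_add, Multiset.singleton_add, Multiset.cons_erase hq,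
      Multiset.cons_erase hp]⟩

theorem mem_erase_of_ne {s : Multiset Piece} {p q : Piece} (hq : q ∈ s) (h : q ≠ p) : q ∈ s.erase p :=
  (Multiset.mem_erase_of_ne h).2 hq

theorem mem_erase_of_count {s : Multiset Piece} {p : Piece} (h : 2 ≤ s.count p) : p ∈ s.erase p := by
  rw [← Multiset.count_pos, Multiset.count_erase_self]; omega

theorem countP_pair (u : Multiset Piece) (k : ℕ) :
    u.countP (fun p => p = Piece.v k true ∨ p = .v k false) = u.count (.v k true) + u.count (.v k false) := by
  induction u using Multiset.induction_on with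
  | empty => simp
  | cons r u ih =>
    simp only [Multiset.countP_cons, Multiset.count_cons, ih]
    rcases Decidable.em (r = .v k true) with h | h
    · subst h; simp; ring
    · rcases Decidable.em (r = .v k false) with h' | h'
      · subst h'; simp; ring
      · simp [h, h', Ne.symm h, Ne.symm h']

/-- A minimal member of a closed family is good. -/
theorem good_of_min {D : Multiset Piece → Prop} (hD : Closed F D) {s : Multiset Piece} (hs : D s)
    (hmin : ∀ s', D s' → ¬ key s' < key s) : Good s := by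
  have rep : ∀ q, ∀ (p' : Piece) (p : Piece) (hk : p'.half = p.half),
      p ∈ s → q ∈ s.erase p → (∃ b, pc F p + pc F q = pc F p' + pc F (q.setBit b) ∧ Real F p' ∧ Real F (q.setBit b)) →
      (∀ b, ((({p', q.setBit b} : Multiset Piece).map Piece.nv).sum = (({p, q} : Multiset Piece).map Piece.nv).sum) ∧
        ((({p', q.setBit b} : Multiset Piece).map Piece.nob).sum < (({p, q} : Multiset Piece).map Piece.nob).sum ∨
          ((({p', q.setBit b} : Multiset Piece).map Piece.nob).sum = (({p, q} : Multiset Piece).map Piece.nob).sum ∧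
            (({p', q.setBit b} : Multiset Piece).map Piece.pot).sum < (({p, q} : Multiset Piece).map Piece.pot).sum))) →
      False := by
    intro q p' p hk hp hq hex hkey
    obtain ⟨b, hb, hr1, hr2⟩ := hex
    obtain ⟨t, ht⟩ := pair_le hp hq
    rw [ht] at hs
    refine hmin _ (hD.2 _ ({p', q.setBit b} : Multiset Piece) t hs (by rw [val_pair, val_pair, hb]) ?_ ?_) ?_
    · intro r hr
      rcases Multiset.mem_cons.1 hr with rfl | hr
      · exact hr1
      · rw [Multiset.mem_singleton.1 hr]; exact hr2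
    · simp [weight, hk, half_setBit]
    · rw [ht]
      exact key_lt (Or.inr (hkey b))
  constructor
  · -- at most two `V` of each size
    intro k
    by_contra hc
    push Not at hc
    set a := s.filter fun p => p = .v k true ∨ p = .v k false with ha
    have hca : a.card = s.count (.v k true) + s.count (.v k false) := by
      rw [ha, ← Multiset.countP_eq_card_filter, countP_pair]
    obtain ⟨p₁, a₁, e1⟩ : ∃ p a₁, a = p ::ₘ a₁ := by
      obtain ⟨p, hp⟩ := Multiset.exists_mem_of_ne_zero (show a ≠ 0 by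
        intro h; rw [h] at hca; simp at hca; omega)
      exact ⟨p, _, (Multiset.cons_erase hp).symm⟩
    obtain ⟨p₂, a₂, e2⟩ : ∃ p a', a₁ = p ::ₘ a' := by
      obtain ⟨p, hp⟩ := Multiset.exists_mem_of_ne_zero (show a₁ ≠ 0 by
        intro h; rw [e1, h] at hca; simp at hca; omega)
      exact ⟨p, _, (Multiset.cons_erase hp).symm⟩
    obtain ⟨p₃, a₃, e3⟩ : ∃ p a', a₂ = p ::ₘ a' := by
      obtain ⟨p, hp⟩ := Multiset.exists_mem_of_ne_zero (show a₂ ≠ 0 by
        intro h; rw [e1, e2, h] at hca; simp at hca; omega)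
      exact ⟨p, _, (Multiset.cons_erase hp).symm⟩
    have hkind : ∀ p ∈ a, (∃ b, p = Piece.v k b) ∧ p ∈ s := fun p hp => by
      rw [ha, Multiset.mem_filter] at hp
      rcases hp.2 with h | h <;> exact ⟨⟨_, h⟩, hp.1⟩
    obtain ⟨⟨b₁, rfl⟩, m1⟩ := hkind p₁ (by simp [e1])
    obtain ⟨⟨b₂, rfl⟩, m2⟩ := hkind p₂ (by simp [e1, e2])
    obtain ⟨⟨b₃, rfl⟩, m3⟩ := hkind p₃ (by simp [e1, e2, e3])
    obtain ⟨t, ht⟩ : ∃ t, s = ({Piece.v k b₁, Piece.v k b₂, Piece.v k b₃} : Multiset Piece) + t := by
      refine exists_add_of_le ?_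
      refine le_trans ?_ (Multiset.filter_le (fun p => p = .v k true ∨ p = .v k false) s)
      rw [← ha, e1, e2, e3]
      simp [Multiset.insert_eq_cons]
    rw [ht] at hs
    obtain ⟨_, x₁, hx₁, -⟩ := (hD.1 _ hs (.v k b₁) (by simp)).exists_rep
    obtain ⟨_, x₂, hx₂, -⟩ := (hD.1 _ hs (.v k b₂) (by simp)).exists_rep
    obtain ⟨_, x₃, hx₃, -⟩ := (hD.1 _ hs (.v k b₃) (by simp)).exists_rep
    obtain ⟨b, hb, hr1, hr2⟩ := QUni.triple_v hx₁ hx₂ hx₃
    refine hmin _ (hD.2 _ ({.e k, .v k b} : Multiset Piece) t hs ?_ ?_ ?_) ?_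
    · simp only [val, Multiset.insert_eq_cons, Multiset.map_cons, Multiset.map_singleton, Multiset.sum_cons,
        Multiset.sum_singleton, ← hb, add_assoc]
    · intro r hr
      rcases Multiset.mem_cons.1 hr with rfl | hr
      · exact hr1
      · rw [Multiset.mem_singleton.1 hr]; exact hr2
    · simp [weight, Piece.half]; ring
    · rw [ht]
      exact key_lt (Or.inl (by simp [Piece.nv]))
  · intro k
    by_contra hc
    push Not at hc
    obtain ⟨_, z, hz, -⟩ := (hD.1 _ hs (.v k true) (Multiset.count_pos.1 (by omega))).exists_rep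
    obtain ⟨-, u, hu, hl⟩ := id hz
    have h := QUni.kill_v hz hz (fun j => by simp) (z.N u) (by rw [z.T_pow_N, hu, map_zero])
      (by rw [z.lev_N, z.lev_eq_zero hu (by omega)]) (by rw [z.lev_N, hl, if_pos rfl]; exact one_ne_zero)
    refine rep _ (.v k false) (.v k true) rfl (Multiset.count_pos.1 (by omega))
      (mem_erase_of_count hc) h fun b => ?_
    have : 0 < 3 ^ k := by positivity
    cases b <;> simp [Piece.setBit, Piece.nv, Piece.nob, Piece.pot, this]
  · intro k b h1 h2
    obtain ⟨_, z, hz, -⟩ := (hD.1 _ hs _ h1).exists_rep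
    obtain ⟨_, y, hy, -⟩ := (hD.1 _ hs _ h2).exists_rep
    obtain ⟨-, u, hu, hl⟩ := id hy
    have h := QUni.kill_v hz hy (fun j => by simp) u (y.T_pow_apply_zero hu (by omega))
      (y.lev_eq_zero hu (by omega)) (by rw [hl, if_pos rfl]; exact one_ne_zero)
    refine rep _ (.v (k + 1) false) (.v (k + 1) true) rfl h1
      (mem_erase_of_ne h2 (by simp)) h fun b' => ?_
    have h3 : 3 ^ k < 3 ^ (k + 1) := by rw [pow_succ]; have : 0 < 3 ^ k := (by positivity); omega
    cases b <;> cases b' <;> simp [Piece.setBit, Piece.nv, Piece.nob, Piece.pot, h3] <;> omega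
  · intro k
    by_contra hc
    push Not at hc
    obtain ⟨_, z, hz, -⟩ := (hD.1 _ hs (.o k true) (Multiset.count_pos.1 (by omega))).exists_rep
    obtain ⟨-, u, v, hu, -, hlu, -⟩ := id hz
    have h := QUni.kill_o hz hz (fun j => by simp) u hu (by rw [hlu]; simp)
    refine rep _ (.o k false) (.o k true) rfl (Multiset.count_pos.1 (by omega))
      (mem_erase_of_count hc) h fun b => ?_
    cases b <;> simp [Piece.setBit, Piece.nv, Piece.nob, Piece.pot]
  · intro k b h1 h2
    obtain ⟨_, z, hz, -⟩ := (hD.1 _ hs _ h1).exists_rep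
    obtain ⟨_, y, hy, -⟩ := (hD.1 _ hs _ h2).exists_rep
    obtain ⟨-, u, hu, hl⟩ := id hy
    have h := QUni.kill_o hz hy (fun j => by simp) (y.N u) (by
        rw [y.T_pow_N, y.NN_apply, ← Module.End.mul_apply, ← pow_succ', hu, zero_add, ← y.T_pow_N,
          ← Module.End.mul_apply, ← pow_succ', y.T_pow_N, hu, map_zero])
      (by rw [y.lev_N, hl, if_pos rfl]; exact one_ne_zero)
    refine rep _ (.o k false) (.o k true) rfl h1
      (mem_erase_of_ne h2 (by simp)) h fun b' => ?_
    cases b <;> cases b' <;> simp [Piece.setBit, Piece.nv, Piece.nob, Piece.pot]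
  · intro k b h1 h2
    obtain ⟨_, z, hz, -⟩ := (hD.1 _ hs _ h1).exists_rep
    obtain ⟨_, y, hy, -⟩ := (hD.1 _ hs _ h2).exists_rep
    obtain ⟨-, u, hu, hl⟩ := id hy
    have h := QUni.kill_o hz hy (fun j => by simp) u (by rw [hu, map_zero])
      (by rw [hl, if_pos rfl]; exact one_ne_zero)
    refine rep _ (.o (k + 1) false) (.o (k + 1) true) rfl h1
      (mem_erase_of_ne h2 (by simp)) h fun b' => ?_
    cases b <;> cases b' <;> simp [Piece.setBit, Piece.nv, Piece.nob, Piece.pot]

theorem exists_good (x : QUni F V) : ∃ s, IsDec x s ∧ Good s := by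
  obtain ⟨s, hs⟩ := exists_dec _ x rfl
  obtain ⟨s₀, hs₀, hmin⟩ := (InvImage.wf key wellFounded_lt).has_min {s | IsDec x s} ⟨s, hs⟩
  exact ⟨s₀, hs₀, good_of_min (closed_isDec x) hs₀ fun s' h => hmin s' h⟩

/-- Decompositions of some form with the same alternating form and isometry. -/
def IsSDec (x : QUni F V) (s : Multiset Piece) : Prop :=
  ∃ (d : ℕ) (y : QUni F (Fin d → F)), x.SIso y ∧ IsDec y s

theorem closed_isSDec (x : QUni F V) : Closed F (IsSDec x) := by
  refine ⟨fun s ⟨_, _, _, h⟩ => h.2.1, ?_⟩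
  rintro a a' t ⟨d, y, hy, h⟩ hv hr hw
  exact ⟨d, y, hy, (closed_isDec y).2 a a' t h hv hr hw⟩

theorem isSDec_flip {x : QUni F V} {p p' : Piece} {t : Multiset Piece} (h : IsSDec x (p ::ₘ t))
    (hflip : ∀ (d : ℕ) (z : QUni F (Fin d → F)), z.IsPiece p → ∃ z' : QUni F (Fin d → F), z.SIso z' ∧ z'.IsPiece p')
    (hh : p'.half = p.half) : IsSDec x (p' ::ₘ t) := by
  obtain ⟨d, y, hy, hv, hr, hw⟩ := h
  obtain ⟨e, z, hz, hzc⟩ := (hr p (Multiset.mem_cons_self p t)).exists_rep
  obtain ⟨z', hs, hz'⟩ := hflip e z hz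
  obtain ⟨e', R, hR⟩ := exists_cls_eq (val F t)
  have h1 : y.Iso (z.prod R) := by
    refine cls_eq_iff.1 ?_
    rw [← hv, ← cls_prod, hzc, hR]
    simp [val]
  let ψ := (Module.finBasis F ((Fin e → F) × (Fin e' → F))).equivFun.symm
  refine ⟨_, (z'.prod R).pull ψ, ((hy.trans h1.sIso).trans (hs.prod (QUni.Iso.refl R).sIso)).trans
    ((z'.prod R).pull_iso ψ).sIso.symm, ?_, fun q hq => ?_, ?_⟩
  · rw [cls_eq_iff.2 ((z'.prod R).pull_iso ψ), ← cls_prod, cls_eq_pc hz', hR]
    simp [val]
  · rcases Multiset.mem_cons.1 hq with rfl | hq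
    · exact real_of_isPiece hz'
    · exact hr q (Multiset.mem_cons_of_mem hq)
  · have := h1.finrank_eq
    simp only [weight, Multiset.map_cons, Multiset.sum_cons, hh] at hw ⊢
    rw [ψ.finrank_eq, hw, this]

theorem exists_good_sIso (x : QUni F V) :
    ∃ s, IsSDec x s ∧ Good s ∧ Piece.v 0 true ∉ s ∧ Piece.o 0 true ∉ s := by
  obtain ⟨s, hs⟩ := exists_dec _ x rfl
  let ψ := (Module.finBasis F V).equivFun.symm
  have hs' : IsSDec x s := by
    refine ⟨_, x.pull ψ, (x.pull_iso ψ).sIso.symm, ?_, hs.2.1, ?_⟩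
    · rw [hs.1]; exact (cls_eq_iff.2 (x.pull_iso ψ)).symm
    · rw [hs.2.2, ψ.finrank_eq]
  obtain ⟨s₀, hs₀, hmin⟩ := (InvImage.wf key wellFounded_lt).has_min {s | IsSDec x s} ⟨s, hs'⟩
  refine ⟨s₀, hs₀, good_of_min (closed_isSDec x) hs₀ fun s' h => hmin s' h, fun h => ?_, fun h => ?_⟩
  · obtain ⟨t, rfl⟩ := Multiset.exists_cons_of_mem h
    refine hmin _ (isSDec_flip hs₀ (p' := .v 0 false) (fun _ z hz => QUni.flip_v0 hz) rfl) ?_
    show key (Piece.v 0 false ::ₘ t) < key (Piece.v 0 true ::ₘ t)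
    rw [← Multiset.singleton_add, ← Multiset.singleton_add]
    exact key_lt (by simp [Piece.nv, Piece.nob, Piece.pot])
  · obtain ⟨t, rfl⟩ := Multiset.exists_cons_of_mem h
    refine hmin _ (isSDec_flip hs₀ (p' := .o 0 false) (fun _ z hz => QUni.flip_o0 hz) rfl) ?_
    show key (Piece.o 0 false ::ₘ t) < key (Piece.o 0 true ::ₘ t)
    rw [← Multiset.singleton_add, ← Multiset.singleton_add]
    exact key_lt (by simp [Piece.nv, Piece.nob, Piece.pot])

theorem iso_of_isDec {W : Type*} [AddCommGroup W] [Module F W] [FiniteDimensional F W] {x : QUni F V} {y : QUni F W}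
    {s : Multiset Piece} (hx : IsDec x s) (hy : IsDec y s) : x.Iso y :=
  cls_eq_iff.1 (hx.1.symm.trans hy.1)

theorem sIso_of_isSDec {W : Type*} [AddCommGroup W] [Module F W] [FiniteDimensional F W] {x : QUni F V}
    {y : QUni F W} {s : Multiset Piece} (hx : IsSDec x s) (hy : IsSDec y s) : x.SIso y := by
  obtain ⟨_, x', hx', hs⟩ := hx
  obtain ⟨_, y', hy', hs'⟩ := hy
  exact (hx'.trans (iso_of_isDec hs hs').sIso).trans hy'.symm

end CfsgLib.Char.EvenClass
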