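import Cfsg.Agent.Lib.Char.EvenClass.Code

/-!
# The weighted number of normal forms

The sum of `2 ^ (-weight)` over normal forms is at most `15.2` for alternating forms and at most `25.6` for quadratic
forms; normal forms without `V` and without `W` of odd size add at most `1.5`.
-/

set_option autoImplicit false
set_option linter.unusedSectionVars false

open scoped Classical

namespace CfsgLib.Char.EvenClass

/-- The value of a multiset. -/
noncomputable def wt2 (s : Multiset Piece) : ℚ := (1 / 2 : ℚ) ^ weight s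

/-- The index of a piece. -/
def Piece.idx : Piece → ℕ
  | .v k _ => k
  | .e k => k
  | .o k _ => k

theorem weight_add (s t : Multiset Piece) : weight (s + t) = weight s + weight t := by
  simp [weight]

theorem wt2_add (s t : Multiset Piece) : wt2 (s + t) = wt2 s * wt2 t := by
  rw [wt2, wt2, wt2, weight_add, pow_add]

theorem wt2_nonneg (s : Multiset Piece) : 0 ≤ wt2 s := pow_nonneg (by norm_num) _

theorem good_mono {s t : Multiset Piece} (h : t ≤ s) (hs : Good s) : Good t where
  two k := le_trans (Nat.add_le_add (Multiset.count_le_of_le _ h) (Multiset.count_le_of_le _ h)) (hs.two k)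
  oneV k := le_trans (Multiset.count_le_of_le _ h) (hs.oneV k)
  chain k b h1 h2 := hs.chain k b (Multiset.mem_of_le h h1) (Multiset.mem_of_le h h2)
  oneO k := le_trans (Multiset.count_le_of_le _ h) (hs.oneO k)
  nbr k b h1 h2 := hs.nbr k b (Multiset.mem_of_le h h1) (Multiset.mem_of_le h h2)
  nbr' k b h1 h2 := hs.nbr' k b (Multiset.mem_of_le h h1) (Multiset.mem_of_le h h2)

/-- Whether a `V` of index `K - 1` is present; for `K = 0` the given boolean. -/
noncomputable def stateAt (sp : Bool) : ℕ → Multiset Piece → Bool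
  | 0, _ => sp
  | K + 1, s => decide (Piece.v K true ∈ s ∨ Piece.v K false ∈ s)

/-- Normal forms; with `sp` there is no bit on `V 2` and `W 1`. -/
def GoodSp (sp : Bool) (s : Multiset Piece) : Prop :=
  Good s ∧ (sp = true → Piece.v 0 true ∉ s ∧ Piece.o 0 true ∉ s)

/-- The sum over the numbers of `W (2K+1)` with bit zero only, or with one bit allowed. -/
def ofac (bit : Bool) (K : ℕ) : ℚ :=
  1 / (1 - (1 / 2 : ℚ) ^ (2 * K + 1)) +
    if bit then (1 / 2 : ℚ) ^ (2 * K + 1) / (1 - (1 / 2 : ℚ) ^ (2 * K + 1)) else 0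

/-- The sum over the numbers of `W (2K+2)`. -/
def efac (K : ℕ) : ℚ := 1 / (1 - (1 / 2 : ℚ) ^ (2 * K + 2))

/-- The sum over the possible `V (2K+2)`. -/
def vfac (P S : Bool) (K : ℕ) : ℚ :=
  if S then (if P then 1 else 2) * ((1 / 2 : ℚ) ^ (K + 1) + (1 / 2 : ℚ) ^ (2 * K + 2)) else 1

/-- The transition. -/
def trans (P S : Bool) (K : ℕ) : ℚ := vfac P S K * ofac (!P && !S) K * efac K

/-- The sums for the two states. -/
def U (sp : Bool) : ℕ → Bool → ℚ
  | 0, S => if S = sp then 1 else 0
  | K + 1, S => U sp K false * trans false S K + U sp K true * trans true S K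

theorem sum_geom_le {y : ℚ} (h0 : 0 ≤ y) (h1 : y < 1) (S : Finset ℕ) : ∑ i ∈ S, y ^ i ≤ 1 / (1 - y) := by
  obtain ⟨N, hN⟩ : ∃ N, S ⊆ Finset.range N :=
    ⟨S.sup id + 1, fun i hi => Finset.mem_range.2 (Nat.lt_succ_of_le (Finset.le_sup (f := id) hi))⟩
  refine le_trans (Finset.sum_le_sum_of_subset_of_nonneg hN fun i _ _ => pow_nonneg h0 i) ?_
  rw [geom_sum_eq h1.ne, le_div_iff₀ (by linarith), ← neg_div_neg_eq, neg_sub, neg_sub, div_mul_cancel₀ _ (by linarith)]
  linarith [pow_nonneg h0 N]

theorem weight_level (K : ℕ) (t : Multiset Piece) (ht : ∀ p ∈ t, p.idx = K) :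
    weight t = (K + 1) * (t.count (.v K true) + t.count (.v K false)) + (2 * K + 2) * t.count (.e K) +
      (2 * K + 1) * (t.count (.o K true) + t.count (.o K false)) := by
  induction t using Multiset.induction_on with
  | empty => simp [weight]
  | cons p t ih =>
    have h := ih fun q hq => ht q (Multiset.mem_cons_of_mem hq)
    have hp := ht p (Multiset.mem_cons_self p t)
    simp only [weight, Multiset.map_cons, Multiset.sum_cons] at h ⊢
    rw [h]
    rcases p with ⟨k, b⟩ | k | ⟨k, b⟩ <;> simp only [Piece.idx] at hp <;> subst hp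
    · cases b <;> simp [Piece.half] <;> ring
    · simp [Piece.half]; ring
    · cases b <;> simp [Piece.half] <;> ring

theorem level_ext (K : ℕ) {t t' : Multiset Piece} (ht : ∀ p ∈ t, p.idx = K) (ht' : ∀ p ∈ t', p.idx = K)
    (h1 : t.count (.v K true) = t'.count (.v K true)) (h2 : t.count (.v K false) = t'.count (.v K false))
    (h3 : t.count (.e K) = t'.count (.e K)) (h4 : t.count (.o K true) = t'.count (.o K true))
    (h5 : t.count (.o K false) = t'.count (.o K false)) : t = t' := by
  refine Multiset.ext.2 fun p => ?_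
  by_cases hp : p.idx = K
  · rcases p with ⟨k, b⟩ | k | ⟨k, b⟩ <;> simp only [Piece.idx] at hp <;> subst hp
    · cases b <;> assumption
    · assumption
    · cases b <;> assumption
  · rw [Multiset.count_eq_zero.2 fun h => hp (ht p h), Multiset.count_eq_zero.2 fun h => hp (ht' p h)]

/-- The weighted number of possible top levels. -/
theorem sum_level_le (K : ℕ) (P S : Bool) (T : Finset (Multiset Piece))
    (hidx : ∀ t ∈ T, ∀ p ∈ t, p.idx = K) (hgood : ∀ t ∈ T, Good t)
    (hS : ∀ t ∈ T, S = decide (Piece.v K true ∈ t ∨ Piece.v K false ∈ t))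
    (hP : P = true → ∀ t ∈ T, Piece.v K true ∉ t ∧ Piece.o K true ∉ t) :
    ∑ t ∈ T, wt2 t ≤ trans P S K := by
  set x : ℚ := (1 / 2 : ℚ) with hx
  set y := x ^ (2 * K + 1)
  set z := x ^ (2 * K + 2)
  let cv : Multiset Piece → ℕ × ℕ := fun t => (t.count (.v K true), t.count (.v K false))
  let co : Multiset Piece → ℕ × ℕ := fun t => (t.count (.o K true), t.count (.o K false))
  let F1 : ℕ × ℕ → ℚ := fun c => x ^ ((K + 1) * (c.1 + c.2))
  let F2 : ℕ × ℕ → ℚ := fun c => x ^ ((2 * K + 1) * (c.1 + c.2))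
  let F3 : ℕ → ℚ := fun c => z ^ c
  have hval : ∀ t ∈ T, wt2 t = F1 (cv t) * F2 (co t) * F3 (t.count (.e K)) := fun t ht => by
    rw [wt2, weight_level K t (hidx t ht), pow_add, pow_add]
    simp only [F1, F2, F3, z, cv, co, ← pow_mul, hx]
    ring
  have hy0 : 0 ≤ y := by positivity
  have hy1 : y < 1 := pow_lt_one₀ (by norm_num [hx]) (by norm_num [hx]) (by omega)
  have hz0 : 0 ≤ z := by positivity
  have hz1 : z < 1 := pow_lt_one₀ (by norm_num [hx]) (by norm_num [hx]) (by omega)
  set A := T.image cv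
  set B := T.image co
  set E := T.image fun t => t.count (Piece.e K)
  have h1 : ∑ t ∈ T, wt2 t ≤ (∑ c ∈ A, F1 c) * (∑ c ∈ B, F2 c) * ∑ c ∈ E, F3 c := by
    have hprod : ∑ c ∈ A ×ˢ (B ×ˢ E), F1 c.1 * F2 c.2.1 * F3 c.2.2 =
        (∑ c ∈ A, F1 c) * (∑ c ∈ B, F2 c) * ∑ c ∈ E, F3 c := by
      rw [Finset.sum_mul_sum, Finset.sum_mul, Finset.sum_product]
      refine Finset.sum_congr rfl fun a _ => ?_
      rw [Finset.sum_product, Finset.sum_mul]
      exact Finset.sum_congr rfl fun b _ => by rw [Finset.mul_sum]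
    rw [← hprod, Finset.sum_congr rfl hval]
    refine le_of_eq_of_le (Finset.sum_image (f := fun c : (ℕ × ℕ) × (ℕ × ℕ) × ℕ => F1 c.1 * F2 c.2.1 * F3 c.2.2)
      (g := fun t => (cv t, co t, t.count (Piece.e K))) ?_).symm ?_
    · intro t ht t' ht' h
      simp only [cv, co, Prod.mk.injEq] at h
      exact level_ext K (hidx t ht) (hidx t' ht') h.1.1 h.1.2 h.2.2 h.2.1.1 h.2.1.2
    · refine Finset.sum_le_sum_of_subset_of_nonneg ?_ fun c _ _ => ?_
      · intro c hc
        obtain ⟨t, ht, rfl⟩ := Finset.mem_image.1 hc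
        exact Finset.mem_product.2 ⟨Finset.mem_image_of_mem _ ht, Finset.mem_product.2
          ⟨Finset.mem_image_of_mem _ ht, Finset.mem_image_of_mem _ ht⟩⟩
      · simp only [F1, F2, F3]; positivity
  have hA : ∑ c ∈ A, F1 c ≤ vfac P S K := by
    cases S with
    | false =>
      refine le_trans (Finset.sum_le_sum_of_subset_of_nonneg (t := {((0 : ℕ), (0 : ℕ))}) ?_ fun c _ _ => by
        simp only [F1]; positivity) (by simp [F1, vfac])
      intro c hc
      obtain ⟨t, ht, rfl⟩ := Finset.mem_image.1 hc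
      have h := (hS t ht).symm
      simp only [decide_eq_false_iff_not, not_or] at h
      simp [cv, Multiset.count_eq_zero.2 h.1, Multiset.count_eq_zero.2 h.2]
    | true =>
      have hmem : ∀ c ∈ A, c.1 ≤ 1 ∧ 1 ≤ c.1 + c.2 ∧ c.1 + c.2 ≤ 2 ∧ (P = true → c.1 = 0) := by
        intro c hc
        obtain ⟨t, ht, rfl⟩ := Finset.mem_image.1 hc
        have h : Piece.v K true ∈ t ∨ Piece.v K false ∈ t := by simpa using (hS t ht).symm
        refine ⟨(hgood t ht).oneV K, ?_, (hgood t ht).two K, fun hp => Multiset.count_eq_zero.2 (hP hp t ht).1⟩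
        rcases h with h | h <;> have := Multiset.count_pos.2 h <;> simp only [cv] <;> omega
      cases P with
      | true =>
        refine le_trans (Finset.sum_le_sum_of_subset_of_nonneg (t := {((0 : ℕ), (1 : ℕ)), (0, 2)}) ?_ fun c _ _ => by
          simp only [F1]; positivity) (le_of_eq ?_)
        · intro c hc
          obtain ⟨h1, h2, h3, h4⟩ := hmem c hc
          have := h4 rfl
          rcases c with ⟨c1, c2⟩
          simp only [Finset.mem_insert, Finset.mem_singleton, Prod.mk.injEq] at *
          omega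
        · simp [F1, vfac, hx]; ring
      | false =>
        refine le_trans (Finset.sum_le_sum_of_subset_of_nonneg
          (t := {((0 : ℕ), (1 : ℕ)), (0, 2), (1, 0), (1, 1)}) ?_ fun c _ _ => by
          simp only [F1]; positivity) (le_of_eq ?_)
        · intro c hc
          obtain ⟨h1, h2, h3, -⟩ := hmem c hc
          rcases c with ⟨c1, c2⟩
          simp only [Finset.mem_insert, Finset.mem_singleton, Prod.mk.injEq] at *
          omega
        · simp [F1, vfac, hx]; ring
  have hB : ∑ c ∈ B, F2 c ≤ ofac (!P && !S) K := by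
    have hmem : ∀ c ∈ B, c.1 ≤ 1 ∧ ((!P && !S) = false → c.1 = 0) := by
      intro c hc
      obtain ⟨t, ht, rfl⟩ := Finset.mem_image.1 hc
      refine ⟨(hgood t ht).oneO K, fun h => Multiset.count_eq_zero.2 fun hm => ?_⟩
      rcases Bool.and_eq_false_iff.1 h with h | h
      · exact (hP (by simpa using h) t ht).2 hm
      · have h' : Piece.v K true ∈ t ∨ Piece.v K false ∈ t := by
          have := hS t ht
          rw [show S = true by simpa using h] at this
          simpa using this.symm
        rcases h' with h' | h' <;> exact (hgood t ht).nbr K _ hm h'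
    rw [← Finset.sum_filter_add_sum_filter_not B (fun c => c.1 = 0)]
    have e0 : ∀ c : ℕ × ℕ, F2 c = y ^ c.1 * y ^ c.2 := fun c => by
      simp only [F2, y, ← pow_add, ← pow_mul, ← mul_add]
    have g0 : ∑ c ∈ B.filter (fun c => c.1 = 0), F2 c ≤ 1 / (1 - y) := by
      refine le_trans (le_of_eq ?_) (sum_geom_le hy0 hy1 ((B.filter fun c => c.1 = 0).image Prod.snd))
      rw [Finset.sum_image fun c hc c' hc' h => Prod.ext ((Finset.mem_filter.1 hc).2.trans (Finset.mem_filter.1 hc').2.symm) h]
      refine Finset.sum_congr rfl fun c hc => ?_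
      rw [e0, (Finset.mem_filter.1 hc).2, pow_zero, one_mul]
    have g1 : ∑ c ∈ B.filter (fun c => ¬ c.1 = 0), F2 c ≤
        if (!P && !S) then y / (1 - y) else 0 := by
      cases hb : (!P && !S) with
      | false =>
        rw [Finset.sum_eq_zero fun c hc => absurd ((hmem c (Finset.mem_filter.1 hc).1).2 hb) (Finset.mem_filter.1 hc).2]
        simp
      | true =>
        simp only [if_true]
        have e1 : ∀ c ∈ B.filter (fun c => ¬ c.1 = 0), c.1 = 1 := fun c hc => by
          have := (hmem c (Finset.mem_filter.1 hc).1).1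
          have := (Finset.mem_filter.1 hc).2
          omega
        refine le_trans (le_of_eq ?_) (le_of_le_of_eq (mul_le_mul_of_nonneg_left
          (sum_geom_le hy0 hy1 ((B.filter fun c => ¬ c.1 = 0).image Prod.snd)) hy0) (mul_one_div _ _))
        rw [Finset.mul_sum, Finset.sum_image fun c hc c' hc' h => Prod.ext ((e1 c hc).trans (e1 c' hc').symm) h]
        refine Finset.sum_congr rfl fun c hc => ?_
        rw [e0, e1 c hc, pow_one]
    exact add_le_add g0 g1
  have hE : ∑ c ∈ E, F3 c ≤ efac K := sum_geom_le hz0 hz1 E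
  have hvpos : 0 ≤ vfac P S K := le_trans (Finset.sum_nonneg fun c _ => by simp only [F1]; positivity) hA
  have hopos : 0 ≤ ofac (!P && !S) K := le_trans (Finset.sum_nonneg fun c _ => by simp only [F2]; positivity) hB
  exact h1.trans (mul_le_mul (mul_le_mul hA hB (Finset.sum_nonneg fun c _ => by simp only [F2]; positivity) hvpos) hE
    (Finset.sum_nonneg fun c _ => by simp only [F3]; positivity) (mul_nonneg hvpos hopos))

theorem U_nonneg (sp : Bool) : ∀ K S, 0 ≤ U sp K S := by
  have hf : ∀ (P S : Bool) (K : ℕ), 0 ≤ trans P S K := fun P S K => by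
    have := sum_level_le K P S ∅ (by simp) (by simp) (by simp) (by simp)
    simpa using this
  intro K
  induction K with
  | zero => intro S; simp only [U]; split_ifs <;> norm_num
  | succ K ih =>
    intro S
    have := hf false S K
    have := hf true S K
    have := ih true
    have := ih false
    simp only [U]; positivity

theorem sum_le_U (sp : Bool) : ∀ (K : ℕ) (S : Bool) (T : Finset (Multiset Piece)),
    (∀ s ∈ T, GoodSp sp s ∧ ∀ p ∈ s, p.idx < K) → (∀ s ∈ T, stateAt sp K s = S) → ∑ s ∈ T, wt2 s ≤ U sp K S := by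
  intro K
  induction K with
  | zero =>
    intro S T hT hS
    have : ∀ s ∈ T, s = 0 := fun s hs => Multiset.eq_zero_of_forall_notMem fun p hp => Nat.not_lt_zero _ ((hT s hs).2 p hp)
    rcases T.eq_empty_or_nonempty with rfl | ⟨s, hs⟩
    · simpa using U_nonneg sp 0 S
    · have hT' : T = {0} := Finset.eq_singleton_iff_unique_mem.2 ⟨this s hs ▸ hs, this⟩
      subst hT'
      simp [U, wt2, weight, show S = sp from (hS 0 (by simp)).symm]
  | succ K ih =>
    intro S T hT hS
    let lo : Multiset Piece → Multiset Piece := fun s => s.filter fun p => p.idx < K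
    let hi : Multiset Piece → Multiset Piece := fun s => s.filter fun p => ¬ p.idx < K
    have hsplit : ∀ s, lo s + hi s = s := fun s => Multiset.filter_add_not _ s
    have key : ∀ P, ∑ s ∈ T.filter (fun s => stateAt sp K (lo s) = P), wt2 s ≤ U sp K P * trans P S K := by
      intro P
      set T' := T.filter fun s => stateAt sp K (lo s) = P
      have hidx : ∀ s ∈ T', ∀ p ∈ hi s, p.idx = K := fun s hs p hp => by
        obtain ⟨h1, h2⟩ := Multiset.mem_filter.1 hp
        have := (hT s (Finset.mem_filter.1 hs).1).2 p h1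
        omega
      refine le_trans (le_of_le_of_eq ?_ (Finset.sum_mul_sum (T'.image lo) (T'.image hi) wt2 wt2).symm)
        (mul_le_mul ?_ ?_ (Finset.sum_nonneg fun t _ => wt2_nonneg t) (U_nonneg sp K P))
      · rw [← Finset.sum_product']
        refine le_of_eq_of_le ?_ (Finset.sum_le_sum_of_subset_of_nonneg (s := T'.image fun s => (lo s, hi s)) ?_
          fun c _ _ => mul_nonneg (wt2_nonneg _) (wt2_nonneg _))
        · rw [Finset.sum_image fun s _ s' _ h => by
            simp only [Prod.mk.injEq] at h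
            rw [← hsplit s, ← hsplit s', h.1, h.2]]
          exact Finset.sum_congr rfl fun s _ => by rw [← wt2_add, hsplit]
        · intro c hc
          obtain ⟨s, hs, rfl⟩ := Finset.mem_image.1 hc
          exact Finset.mem_product.2 ⟨Finset.mem_image_of_mem _ hs, Finset.mem_image_of_mem _ hs⟩
      · refine ih P _ (fun l hl => ?_) (fun l hl => ?_)
        · obtain ⟨s, hs, rfl⟩ := Finset.mem_image.1 hl
          have hsT := hT s (Finset.mem_filter.1 hs).1
          refine ⟨⟨good_mono (Multiset.filter_le _ _) hsT.1.1, fun h => ?_⟩, fun p hp => (Multiset.mem_filter.1 hp).2⟩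
          exact ⟨fun hm => (hsT.1.2 h).1 (Multiset.mem_of_mem_filter hm),
            fun hm => (hsT.1.2 h).2 (Multiset.mem_of_mem_filter hm)⟩
        · obtain ⟨s, hs, rfl⟩ := Finset.mem_image.1 hl
          exact (Finset.mem_filter.1 hs).2
      · refine sum_level_le K P S _ (fun t ht => ?_) (fun t ht => ?_) (fun t ht => ?_) (fun hP t ht => ?_) <;>
          obtain ⟨s, hs, rfl⟩ := Finset.mem_image.1 ht
        · exact hidx s hs
        · exact good_mono (Multiset.filter_le _ _) (hT s (Finset.mem_filter.1 hs).1).1.1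
        · rw [← hS s (Finset.mem_filter.1 hs).1]
          simp [stateAt, hi, Multiset.mem_filter, Piece.idx]
        · have hst := (Finset.mem_filter.1 hs).2
          have hg := (hT s (Finset.mem_filter.1 hs).1).1
          rw [hP] at hst
          cases K with
          | zero =>
            simp only [stateAt] at hst
            exact ⟨fun hm => (hg.2 hst).1 (Multiset.mem_of_mem_filter hm),
              fun hm => (hg.2 hst).2 (Multiset.mem_of_mem_filter hm)⟩
          | succ K =>
            simp only [stateAt, decide_eq_true_eq] at hst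
            obtain ⟨b, hb⟩ : ∃ b, Piece.v K b ∈ s := by
              rcases hst with h | h <;> exact ⟨_, Multiset.mem_of_mem_filter h⟩
            exact ⟨fun hm => hg.1.chain K b (Multiset.mem_of_mem_filter hm) hb,
              fun hm => hg.1.nbr' K b (Multiset.mem_of_mem_filter hm) hb⟩
    have h0 := key false
    have h1 := key true
    rw [← Finset.sum_filter_add_sum_filter_not T (fun s => stateAt sp K (lo s) = false)]
    simp only [Bool.not_eq_false]
    simp only [U]
    linarith

/-- The total. -/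
def Utot (sp : Bool) (K : ℕ) : ℚ := U sp K false + U sp K true

theorem trans_sum_le (P : Bool) {K : ℕ} (hK : 12 ≤ K) :
    trans P false K + trans P true K ≤ 1 + 11 / 10 * (1 / 2 : ℚ) ^ K := by
  set w : ℚ := (1 / 2 : ℚ) ^ K with hw
  have hw0 : 0 < w := by positivity
  have hw1 : w ≤ 1 / 4096 := by
    refine le_trans (pow_le_pow_of_le_one (by norm_num) (by norm_num) hK) ?_
    norm_num
  have ey : (1 / 2 : ℚ) ^ (2 * K + 1) = w ^ 2 / 2 := by rw [hw, pow_succ, mul_comm 2 K, pow_mul]; ring
  have ez : (1 / 2 : ℚ) ^ (2 * K + 2) = w ^ 2 / 4 := by rw [hw, pow_add, mul_comm 2 K, pow_mul]; ring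
  have ev : (1 / 2 : ℚ) ^ (K + 1) = w / 2 := by rw [hw, pow_succ]; ring
  have hy : 1 / (1 - w ^ 2 / 2) ≤ 1 + w ^ 2 := by
    rw [div_le_iff₀ (by nlinarith)]; nlinarith [sq_pos_of_pos hw0, mul_le_mul hw1 hw1 hw0.le (by norm_num : (0 : ℚ) ≤ 1 / 4096)]
  have hz : 1 / (1 - w ^ 2 / 4) ≤ 1 + w ^ 2 := by
    rw [div_le_iff₀ (by nlinarith)]; nlinarith [sq_pos_of_pos hw0, mul_le_mul hw1 hw1 hw0.le (by norm_num : (0 : ℚ) ≤ 1 / 4096)]
  have hy0 : 0 ≤ 1 / (1 - w ^ 2 / 2) := div_nonneg zero_le_one (by nlinarith)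
  have hz0 : 0 ≤ 1 / (1 - w ^ 2 / 4) := div_nonneg zero_le_one (by nlinarith)
  have e : w ^ 2 / 2 / (1 - w ^ 2 / 2) = w ^ 2 / 2 * (1 / (1 - w ^ 2 / 2)) := by ring
  cases P <;> simp only [trans, vfac, ofac, efac, ey, ez, ev, Bool.not_false, Bool.not_true, Bool.and_false,
    Bool.and_true, Bool.false_and, Bool.true_and, if_true, Bool.false_eq_true, if_false, e] <;>
    generalize hA : 1 / (1 - w ^ 2 / 2) = A at * <;> generalize hB : 1 / (1 - w ^ 2 / 4) = B at * <;>
    [skip; skip] <;>
    · have h1 : A * B ≤ (1 + w ^ 2) * (1 + w ^ 2) := mul_le_mul hy hz hz0 (by nlinarith)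
      have h2 : 0 ≤ A * B := mul_nonneg hy0 hz0
      nlinarith [mul_le_mul_of_nonneg_left h1 (sq_nonneg w), mul_le_mul_of_nonneg_left h1 hw0.le,
        mul_le_mul_of_nonneg_left hw1 hw0.le, mul_le_mul_of_nonneg_left hw1 (sq_nonneg w)]

theorem U_succ_le (sp : Bool) {K : ℕ} (hK : 12 ≤ K) : Utot sp (K + 1) ≤ Utot sp K * (1 + 11 / 10 * (1 / 2 : ℚ) ^ K) := by
  have h0 := mul_le_mul_of_nonneg_left (trans_sum_le false hK) (U_nonneg sp K false)
  have h1 := mul_le_mul_of_nonneg_left (trans_sum_le true hK) (U_nonneg sp K true)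
  simp only [Utot, U]
  linarith

theorem one_le_trans_sum (P : Bool) (K : ℕ) : 1 ≤ trans P false K := by
  have hy : (1 / 2 : ℚ) ^ (2 * K + 1) < 1 := pow_lt_one₀ (by norm_num) (by norm_num) (by omega)
  have hz : (1 / 2 : ℚ) ^ (2 * K + 2) < 1 := pow_lt_one₀ (by norm_num) (by norm_num) (by omega)
  have h1 : 1 ≤ ofac (!P && !false) K := by
    refine le_add_of_le_of_nonneg ?_ ?_
    · rw [le_div_iff₀ (by linarith)]; linarith [show (0 : ℚ) ≤ (1 / 2) ^ (2 * K + 1) by positivity]
    · split_ifs
      · exact div_nonneg (by positivity) (by linarith)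
      · exact le_rfl
  have h2 : 1 ≤ efac K := by
    rw [efac, le_div_iff₀ (by linarith)]; linarith [show (0 : ℚ) ≤ (1 / 2) ^ (2 * K + 2) by positivity]
  simp only [trans, vfac, if_neg Bool.false_ne_true, one_mul]
  exact one_le_mul_of_one_le_of_one_le h1 h2

theorem Utot_mono (sp : Bool) (K : ℕ) : Utot sp K ≤ Utot sp (K + 1) := by
  have hf : ∀ P S, 0 ≤ trans P S K := fun P S => by
    simpa using sum_level_le K P S ∅ (by simp) (by simp) (by simp) (by simp)
  have h0 := mul_le_mul_of_nonneg_left (one_le_trans_sum false K) (U_nonneg sp K false)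
  have h1 := mul_le_mul_of_nonneg_left (one_le_trans_sum true K) (U_nonneg sp K true)
  have h2 := mul_nonneg (U_nonneg sp K false) (hf false true)
  have h3 := mul_nonneg (U_nonneg sp K true) (hf true true)
  simp only [Utot, U]
  linarith

theorem Utot_le (sp : Bool) (K : ℕ) : Utot sp K ≤ Utot sp 14 * (1 + 3 * (1 / 2 : ℚ) ^ 14) := by
  have hA : 0 ≤ Utot sp 14 := add_nonneg (U_nonneg sp 14 false) (U_nonneg sp 14 true)
  rcases le_or_gt K 14 with h | h
  · exact le_trans (monotone_nat_of_le_succ (Utot_mono sp) h) (le_mul_of_one_le_right hA (by norm_num))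
  · suffices H : ∀ j, Utot sp (14 + j) ≤ Utot sp 14 * (1 + 3 * (1 / 2 : ℚ) ^ 14 - 3 * (1 / 2 : ℚ) ^ (14 + j)) by
      obtain ⟨j, rfl⟩ : ∃ j, K = 14 + j := ⟨K - 14, by omega⟩
      refine (H j).trans (mul_le_mul_of_nonneg_left ?_ hA)
      linarith [show (0 : ℚ) ≤ (1 / 2) ^ (14 + j) by positivity]
    intro j
    induction j with
    | zero => simp
    | succ j ih =>
      rw [← add_assoc]
      refine (U_succ_le sp (by omega)).trans ((mul_le_mul_of_nonneg_right ih (by positivity)).trans ?_)
      rw [mul_assoc]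
      refine mul_le_mul_of_nonneg_left ?_ hA
      have hw : 0 < (1 / 2 : ℚ) ^ (14 + j) := by positivity
      rw [pow_succ (1 / 2 : ℚ) (14 + j)]
      nlinarith

theorem Utot_true_le (K : ℕ) : Utot true K ≤ 76 / 5 := by
  refine (Utot_le true K).trans ?_
  norm_num [Utot, U, trans, vfac, ofac, efac]

theorem Utot_false_le (K : ℕ) : Utot false K ≤ 28 := by
  refine (Utot_le false K).trans ?_
  norm_num [Utot, U, trans, vfac, ofac, efac]

theorem exists_idx_bound (T : Finset (Multiset Piece)) : ∃ K, ∀ s ∈ T, ∀ p ∈ s, p.idx < K :=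
  ⟨T.sup (fun s => (s.map Piece.idx).sum) + 1, fun s hs p hp => Nat.lt_succ_of_le
    ((Multiset.le_sum_of_mem (Multiset.mem_map_of_mem Piece.idx hp)).trans
      (Finset.le_sup (f := fun s => (s.map Piece.idx).sum) hs))⟩

theorem sum_le_Utot (sp : Bool) (K : ℕ) (T : Finset (Multiset Piece))
    (hT : ∀ s ∈ T, GoodSp sp s ∧ ∀ p ∈ s, p.idx < K) : ∑ s ∈ T, wt2 s ≤ Utot sp K := by
  rw [← Finset.sum_filter_add_sum_filter_not T (fun s => stateAt sp K s = false)]
  refine add_le_add (sum_le_U sp K false _ (fun s hs => hT s (Finset.mem_filter.1 hs).1)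
    fun s hs => (Finset.mem_filter.1 hs).2) (sum_le_U sp K true _ (fun s hs => hT s (Finset.mem_filter.1 hs).1)
    fun s hs => ?_)
  simpa using (Finset.mem_filter.1 hs).2

/-- Normal forms of alternating forms. -/
theorem sum_goodSp_le (T : Finset (Multiset Piece)) (hT : ∀ s ∈ T, GoodSp true s) : ∑ s ∈ T, wt2 s ≤ 76 / 5 := by
  obtain ⟨K, hK⟩ := exists_idx_bound T
  exact (sum_le_Utot true K T fun s hs => ⟨hT s hs, hK s hs⟩).trans (Utot_true_le K)

/-! ### parity -/

/-- The bit of a piece. -/
def Piece.par : Piece → ZMod 2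
  | .v _ b => if b then 1 else 0
  | .e _ => 0
  | .o _ b => if b then 1 else 0

/-- The parity of the bits. -/
def par (s : Multiset Piece) : ZMod 2 := (s.map Piece.par).sum

/-- The opposite bit. -/
def Piece.flip : Piece → Piece
  | .v k b => .v k (!b)
  | .e k => .e k
  | .o k b => .o k (!b)

/-- Sizes with a bit. -/
def bitIdx (s : Multiset Piece) : Set ℕ := {k | ∃ b, Piece.v k b ∈ s ∨ Piece.o k b ∈ s}

/-- The piece whose bit is changed. -/
noncomputable def sel (s : Multiset Piece) : Piece :=
  let k := sInf (bitIdx s)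
  if Piece.v k true ∈ s then .v k true else if Piece.v k false ∈ s then .v k false
    else if Piece.o k true ∈ s then .o k true else .o k false

/-- Changing one bit. -/
noncomputable def flipBit (s : Multiset Piece) : Multiset Piece := (sel s).flip ::ₘ s.erase (sel s)

theorem sel_mem {s : Multiset Piece} (h : (bitIdx s).Nonempty) : sel s ∈ s := by
  obtain ⟨b, hb⟩ := Nat.sInf_mem h
  simp only [sel]
  split_ifs with h1 h2 h3 <;> try assumption
  rcases b <;> rcases hb with hb | hb <;> first | assumption | contradiction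

theorem sel_flip_ne {s : Multiset Piece} (h : (bitIdx s).Nonempty) : (sel s).flip ≠ sel s := by
  simp only [sel]
  split_ifs <;> simp [Piece.flip]

theorem mem_flipBit {s : Multiset Piece} {q : Piece} (hq : q ∈ flipBit s) : q = (sel s).flip ∨ q ∈ s :=
  (Multiset.mem_cons.1 hq).imp id Multiset.mem_of_mem_erase

theorem count_flipBit {s : Multiset Piece} (h : (bitIdx s).Nonempty) (q : Piece) :
    (flipBit s).count q + (if q = sel s then 1 else 0) = s.count q + (if q = (sel s).flip then 1 else 0) := by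
  rw [flipBit, Multiset.count_cons]
  by_cases e : q = sel s
  · subst e
    rw [if_pos rfl, if_neg (sel_flip_ne h).symm, Multiset.count_erase_self]
    have := Multiset.count_pos.2 (sel_mem h)
    omega
  · rw [if_neg e, Multiset.count_erase_of_ne e, add_zero]

theorem good_flipBit {s : Multiset Piece} (hs : Good s) (h : (bitIdx s).Nonempty) : Good (flipBit s) := by
  have hm := sel_mem h
  have hlow : ∀ k b, Piece.v k b ∈ s → sInf (bitIdx s) ≤ k := fun k b hb => Nat.sInf_le ⟨b, Or.inl hb⟩
  have hc := count_flipBit h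
  set K := sInf (bitIdx s) with hK
  have key : (∃ b, sel s = Piece.v K b ∧ (b = false → Piece.v K true ∉ s)) ∨
      (∃ b, sel s = Piece.o K b ∧ (b = false → Piece.o K true ∉ s) ∧ ∀ b', Piece.v K b' ∉ s) := by
    simp only [sel, ← hK]
    split_ifs with h1 h2 h3
    · exact Or.inl ⟨true, rfl, by simp⟩
    · exact Or.inl ⟨false, rfl, fun _ => h1⟩
    · exact Or.inr ⟨true, rfl, by simp, fun b' => by cases b' <;> assumption⟩
    · exact Or.inr ⟨false, rfl, fun _ => h3, fun b' => by cases b' <;> assumption⟩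
  rcases key with ⟨b, he, hb⟩ | ⟨b, he, hb, hv⟩ <;> rw [he] at hc hm <;> simp only [Piece.flip] at hc
  · have hvv : ∀ k b', Piece.v k b' ∈ flipBit s → ∃ b'', Piece.v k b'' ∈ s := fun k b' hq => by
      rcases mem_flipBit hq with e | e
      · rw [he] at e; simp only [Piece.flip, Piece.v.injEq] at e; exact ⟨b, e.1 ▸ hm⟩
      · exact ⟨b', e⟩
    have hoo : ∀ k b', Piece.o k b' ∈ flipBit s → Piece.o k b' ∈ s := fun k b' hq => by
      rcases mem_flipBit hq with e | e
      · rw [he] at e; simp [Piece.flip] at e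
      · exact e
    refine ⟨fun k => ?_, fun k => ?_, fun k b' h1 h2 => ?_, fun k => ?_, fun k b' h1 h2 => ?_, fun k b' h1 h2 => ?_⟩
    · have := hs.two k; have := hc (.v k true); have := hc (.v k false)
      cases b <;> by_cases e : k = K <;> simp [e] at * <;> omega
    · have := hs.oneV k; have := hc (.v k true)
      have h0 : b = false → s.count (.v K true) = 0 := fun e => Multiset.count_eq_zero.2 (hb e)
      cases b <;> by_cases e : k = K <;> simp [e, -Multiset.count_eq_zero] at * <;> omega
    · obtain ⟨b₂, h2⟩ := hvv k b' h2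
      rcases mem_flipBit h1 with e | e
      · rw [he] at e; simp only [Piece.flip, Piece.v.injEq] at e; have := hlow k b₂ h2; omega
      · exact hs.chain k b₂ e h2
    · have := hs.oneO k; have := hc (.o k true)
      simp at *; omega
    · obtain ⟨b₂, h2⟩ := hvv k b' h2; exact hs.nbr k b₂ (hoo _ _ h1) h2
    · obtain ⟨b₂, h2⟩ := hvv k b' h2; exact hs.nbr' k b₂ (hoo _ _ h1) h2
  · have hvv : ∀ k b', Piece.v k b' ∈ flipBit s → Piece.v k b' ∈ s := fun k b' hq => by
      rcases mem_flipBit hq with e | e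
      · rw [he] at e; simp [Piece.flip] at e
      · exact e
    refine ⟨fun k => ?_, fun k => ?_, fun k b' h1 h2 => hs.chain k b' (hvv _ _ h1) (hvv _ _ h2), fun k => ?_,
      fun k b' h1 h2 => ?_, fun k b' h1 h2 => ?_⟩
    · have := hs.two k; have := hc (.v k true); have := hc (.v k false)
      simp at *; omega
    · have := hs.oneV k; have := hc (.v k true)
      simp at *; omega
    · have := hs.oneO k; have := hc (.o k true)
      have h0 : b = false → s.count (.o K true) = 0 := fun e => Multiset.count_eq_zero.2 (hb e)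
      cases b <;> by_cases e : k = K <;> simp [e, -Multiset.count_eq_zero] at * <;> omega
    · rcases mem_flipBit h1 with e | e
      · rw [he] at e; simp only [Piece.flip, Piece.o.injEq] at e; exact hv b' (e.1 ▸ hvv _ _ h2)
      · exact hs.nbr k b' e (hvv _ _ h2)
    · rcases mem_flipBit h1 with e | e
      · rw [he] at e; simp only [Piece.flip, Piece.o.injEq] at e; have := hlow k b' (hvv _ _ h2); omega
      · exact hs.nbr' k b' e (hvv _ _ h2)

theorem bitIdx_flipBit {s : Multiset Piece} (h : (bitIdx s).Nonempty) :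
    ∀ k, ((∃ b, Piece.v k b ∈ flipBit s) ↔ ∃ b, Piece.v k b ∈ s) ∧ ((∃ b, Piece.o k b ∈ flipBit s) ↔ ∃ b, Piece.o k b ∈ s) := by
  intro k
  have hm := sel_mem h
  have hmem : ∀ q, q ∈ s → q = sel s ∨ q ∈ flipBit s := fun q hq => by
    by_cases e : q = sel s
    · exact Or.inl e
    · exact Or.inr (Multiset.mem_cons_of_mem ((Multiset.mem_erase_of_ne e).2 hq))
  have hflip : (sel s).flip ∈ flipBit s := Multiset.mem_cons_self _ _
  constructor <;> constructor <;> rintro ⟨b, hb⟩
  · rcases mem_flipBit hb with e | e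
    · refine ⟨!b, ?_⟩
      rcases hp : sel s with ⟨j, c⟩ | j | ⟨j, c⟩ <;> rw [hp] at e hm <;> simp [Piece.flip] at e
      obtain ⟨rfl, rfl⟩ := e
      simpa using hm
    · exact ⟨b, e⟩
  · rcases hmem _ hb with e | e
    · refine ⟨!b, ?_⟩; rw [← e] at hflip; exact hflip
    · exact ⟨b, e⟩
  · rcases mem_flipBit hb with e | e
    · refine ⟨!b, ?_⟩
      rcases hp : sel s with ⟨j, c⟩ | j | ⟨j, c⟩ <;> rw [hp] at e hm <;> simp [Piece.flip] at e
      obtain ⟨rfl, rfl⟩ := e
      simpa using hm
    · exact ⟨b, e⟩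
  · rcases hmem _ hb with e | e
    · refine ⟨!b, ?_⟩; rw [← e] at hflip; exact hflip
    · exact ⟨b, e⟩

theorem sInf_bitIdx_flipBit {s : Multiset Piece} (h : (bitIdx s).Nonempty) : sInf (bitIdx (flipBit s)) = sInf (bitIdx s) := by
  congr 1
  ext k
  simp only [bitIdx, Set.mem_ofPred_eq, exists_or, (bitIdx_flipBit h k).1, (bitIdx_flipBit h k).2]

theorem sel_flipBit {s : Multiset Piece} (hs : Good s) (h : (bitIdx s).Nonempty) : sel (flipBit s) = (sel s).flip := by
  have hg := good_flipBit hs h
  have hi := sInf_bitIdx_flipBit h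
  have hf : (sel s).flip ∈ flipBit s := Multiset.mem_cons_self _ _
  have hc := count_flipBit h
  set K := sInf (bitIdx s) with hK
  by_cases h1 : Piece.v K true ∈ s
  · have e : sel s = .v K true := by simp [sel, ← hK, h1]
    have h2 : Piece.v K true ∉ flipBit s := fun hm => by
      have := hc (.v K true); have := hs.oneV K; have := Multiset.count_pos.2 hm
      simp [e, Piece.flip] at *; omega
    rw [e] at hf ⊢
    simp only [Piece.flip, Bool.not_true] at hf ⊢
    simp [sel, hi, h2, hf]
  by_cases h2 : Piece.v K false ∈ s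
  · have e : sel s = .v K false := by simp [sel, ← hK, h1, h2]
    rw [e] at hf ⊢
    simp only [Piece.flip, Bool.not_false] at hf ⊢
    simp [sel, hi, hf]
  have hv : ∀ b, Piece.v K b ∉ flipBit s := fun b hb => by
    obtain ⟨b', hb'⟩ := (bitIdx_flipBit h K).1.1 ⟨b, hb⟩
    cases b' <;> contradiction
  by_cases h3 : Piece.o K true ∈ s
  · have e : sel s = .o K true := by simp [sel, ← hK, h1, h2, h3]
    have h4 : Piece.o K true ∉ flipBit s := fun hm => by
      have := hc (.o K true); have := hs.oneO K; have := Multiset.count_pos.2 hm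
      simp [e, Piece.flip] at *; omega
    rw [e]
    simp [sel, hi, hv, h4, Piece.flip]
  · have e : sel s = .o K false := by simp [sel, ← hK, h1, h2, h3]
    rw [e] at hf ⊢
    simp only [Piece.flip, Bool.not_false] at hf ⊢
    simp [sel, hi, hv, hf]

theorem flipBit_flipBit {s : Multiset Piece} (hs : Good s) (h : (bitIdx s).Nonempty) : flipBit (flipBit s) = s := by
  rw [flipBit, sel_flipBit hs h]
  have e : (sel s).flip.flip = sel s := by rcases sel s with ⟨k, b⟩ | k | ⟨k, b⟩ <;> simp [Piece.flip]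
  rw [e, flipBit, Multiset.erase_cons_head, Multiset.cons_erase (sel_mem h)]

theorem weight_flipBit {s : Multiset Piece} (h : (bitIdx s).Nonempty) : weight (flipBit s) = weight s := by
  have hf : (sel s).flip.half = (sel s).half := by rcases sel s with ⟨k, b⟩ | k | ⟨k, b⟩ <;> rfl
  conv_rhs => rw [← Multiset.cons_erase (sel_mem h)]
  simp only [weight, flipBit, Multiset.map_cons, Multiset.sum_cons, hf]

theorem par_flipBit {s : Multiset Piece} (h : (bitIdx s).Nonempty) : par (flipBit s) ≠ par s := by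
  have hf : (sel s).flip.par = (sel s).par + 1 := by
    have hm : (∃ k b, sel s = Piece.v k b) ∨ ∃ k b, sel s = Piece.o k b := by
      simp only [sel]; split_ifs <;> simp
    rcases hm with ⟨k, b, e⟩ | ⟨k, b, e⟩ <;> rw [e] <;> cases b <;> simp [Piece.flip, Piece.par] <;> decide
  conv_rhs => rw [← Multiset.cons_erase (sel_mem h)]
  simp only [par, flipBit, Multiset.map_cons, Multiset.sum_cons, hf]
  intro e
  rw [add_comm (sel s).par 1, add_assoc] at e
  exact one_ne_zero (add_eq_right.1 e)

theorem idx_flipBit {s : Multiset Piece} (h : (bitIdx s).Nonempty) {K : ℕ} (hK : ∀ p ∈ s, p.idx < K) :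
    ∀ p ∈ flipBit s, p.idx < K := by
  intro p hp
  rcases mem_flipBit hp with rfl | hp
  · have := hK _ (sel_mem h)
    rcases hq : sel s with ⟨k, b⟩ | k | ⟨k, b⟩ <;> rw [hq] at this <;> exact this
  · exact hK p hp

theorem sum_noBit_le : ∀ (K : ℕ) (T : Finset (Multiset Piece)), (∀ s ∈ T, ∀ p ∈ s, ∃ k, p = Piece.e k ∧ k < K) →
    ∑ s ∈ T, wt2 s ≤ 1 / (1 - (1 - (1 / 4 : ℚ) ^ K) / 3) := by
  intro K
  induction K with
  | zero =>
    intro T hT
    have : T ⊆ {0} := fun s hs => Finset.mem_singleton.2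
      (Multiset.eq_zero_of_forall_notMem fun p hp => by obtain ⟨k, -, hk⟩ := hT s hs p hp; omega)
    refine (Finset.sum_le_sum_of_subset_of_nonneg this fun _ _ _ => wt2_nonneg _).trans ?_
    simp [wt2, weight]
  | succ K ih =>
    intro T hT
    let lo : Multiset Piece → Multiset Piece := fun s => s.filter fun p => p ≠ Piece.e K
    have hsplit : ∀ s, lo s + Multiset.replicate (s.count (Piece.e K)) (Piece.e K) = s := fun s => by
      ext p
      by_cases e : p = Piece.e K
      · subst e; simp [lo, Multiset.count_replicate_self]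
      · simp [lo, e, Multiset.count_replicate, Ne.symm e]
    set a : ℚ := (1 / 4 : ℚ) ^ (K + 1) with ha
    have ha0 : 0 ≤ a := by positivity
    have ha1 : a < 1 := pow_lt_one₀ (by norm_num) (by norm_num) (by omega)
    have hval : ∀ s, wt2 s = wt2 (lo s) * a ^ s.count (Piece.e K) := fun s => by
      conv_lhs => rw [← hsplit s, wt2_add]
      congr 1
      rw [wt2, weight, Multiset.map_replicate, Multiset.sum_replicate, smul_eq_mul, ha, ← pow_mul,
        show ((1 : ℚ) / 4) = (1 / 2) ^ 2 by norm_num, ← pow_mul]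
      congr 1
      simp [Piece.half]; ring
    have h1 : ∑ s ∈ T, wt2 s ≤ (∑ l ∈ T.image lo, wt2 l) * ∑ c ∈ T.image (fun s => s.count (Piece.e K)), a ^ c := by
      rw [Finset.sum_mul_sum, ← Finset.sum_product', Finset.sum_congr rfl fun s _ => hval s]
      refine le_of_eq_of_le (Finset.sum_image (f := fun c : Multiset Piece × ℕ => wt2 c.1 * a ^ c.2)
        (g := fun s => (lo s, s.count (Piece.e K))) ?_).symm
        (Finset.sum_le_sum_of_subset_of_nonneg ?_ fun c _ _ => mul_nonneg (wt2_nonneg _) (pow_nonneg ha0 _))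
      · intro s _ s' _ h
        simp only [Prod.mk.injEq] at h
        rw [← hsplit s, ← hsplit s', h.1, h.2]
      · intro c hc
        obtain ⟨s, hs, rfl⟩ := Finset.mem_image.1 hc
        exact Finset.mem_product.2 ⟨Finset.mem_image_of_mem _ hs, Finset.mem_image_of_mem _ hs⟩
    have h2 := ih (T.image lo) fun l hl p hp => by
      obtain ⟨s, hs, rfl⟩ := Finset.mem_image.1 hl
      obtain ⟨hp, hne⟩ := Multiset.mem_filter.1 hp
      obtain ⟨k, rfl, hk⟩ := hT s hs p hp
      exact ⟨k, rfl, by rcases Nat.lt_succ_iff_lt_or_eq.1 hk with h | h <;> [exact h; exact absurd (h ▸ rfl) hne]⟩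
    set b : ℚ := (1 / 4 : ℚ) ^ K with hb
    have hb0 : 0 ≤ b := by positivity
    have hb1 : b ≤ 1 := pow_le_one₀ (by norm_num) (by norm_num)
    have hab : a = b / 4 := by rw [ha, pow_succ, hb]; ring
    refine h1.trans ((mul_le_mul h2 (sum_geom_le ha0 ha1 _) (Finset.sum_nonneg fun c _ => pow_nonneg ha0 _)
      (div_nonneg zero_le_one (by linarith))).trans ?_)
    rw [div_mul_div_comm, one_mul]
    exact one_div_le_one_div_of_le (by linarith) (by nlinarith)

/-- Normal forms of quadratic forms with fixed parity of bits. -/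
theorem sum_good_par_le (T : Finset (Multiset Piece)) (c : ZMod 2) (hT : ∀ s ∈ T, Good s ∧ par s = c) :
    ∑ s ∈ T, wt2 s ≤ 15 := by
  obtain ⟨K, hK⟩ := exists_idx_bound T
  set X := T.filter fun s => (bitIdx s).Nonempty
  have hinj : Set.InjOn flipBit (X : Set (Multiset Piece)) := fun s hs t ht e => by
    obtain ⟨hs, hs'⟩ := Finset.mem_filter.1 (Finset.mem_coe.1 hs)
    obtain ⟨ht, ht'⟩ := Finset.mem_filter.1 (Finset.mem_coe.1 ht)
    rw [← flipBit_flipBit (hT s hs).1 hs', ← flipBit_flipBit (hT t ht).1 ht', e]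
  have hdisj : Disjoint T (X.image flipBit) := Finset.disjoint_right.2 fun u hu huT => by
    obtain ⟨s, hs, rfl⟩ := Finset.mem_image.1 hu
    obtain ⟨hs, hs'⟩ := Finset.mem_filter.1 hs
    exact par_flipBit hs' ((hT _ huT).2.trans (hT s hs).2.symm)
  have h1 : ∑ s ∈ T, wt2 s + ∑ s ∈ X, wt2 s ≤ 28 := by
    rw [show ∑ s ∈ X, wt2 s = ∑ s ∈ X.image flipBit, wt2 s by
      rw [Finset.sum_image hinj]
      exact Finset.sum_congr rfl fun s hs => by rw [wt2, wt2, weight_flipBit (Finset.mem_filter.1 hs).2],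
      ← Finset.sum_union hdisj]
    refine (sum_le_Utot false K _ fun s hs => ?_).trans (Utot_false_le K)
    rcases Finset.mem_union.1 hs with hs | hs
    · exact ⟨⟨(hT s hs).1, by simp⟩, hK s hs⟩
    · obtain ⟨r, hr, rfl⟩ := Finset.mem_image.1 hs
      obtain ⟨hr, hr'⟩ := Finset.mem_filter.1 hr
      exact ⟨⟨good_flipBit (hT r hr).1 hr', by simp⟩, idx_flipBit hr' (hK r hr)⟩
  have h2 : ∑ s ∈ T.filter (fun s => ¬ (bitIdx s).Nonempty), wt2 s ≤ 3 / 2 := by
    refine (sum_noBit_le K _ fun s hs p hp => ?_).trans ?_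
    · obtain ⟨hs, hn⟩ := Finset.mem_filter.1 hs
      have := hK s hs p hp
      rcases p with ⟨k, b⟩ | k | ⟨k, b⟩
      · exact absurd ⟨k, b, Or.inl hp⟩ hn
      · exact ⟨k, rfl, this⟩
      · exact absurd ⟨k, b, Or.inr hp⟩ hn
    · rw [div_le_iff₀] <;>
        linarith [show (0 : ℚ) ≤ (1 / 4) ^ K by positivity,
          show ((1 : ℚ) / 4) ^ K ≤ 1 from pow_le_one₀ (by norm_num) (by norm_num)]
  have h3 := Finset.sum_filter_add_sum_filter_not T (fun s => (bitIdx s).Nonempty) wt2
  linarith

end CfsgLib.Char.EvenClass
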