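import Cfsg.Agent.Lib.Char.EvenClass.Mon

/-!
# Frames: free cyclic families with a non-degenerate top pairing

Vectors `w k` killed by `T^n₀` and `N T^n₁`, `n₀ = n₁` or `n₀ = n₁ + 1`, with non-degenerate top pairing, span an
invariant non-degenerate subspace with basis `T^a (w k)`, `N T^a (w k)`; it is decided by the numbers
`B (T^i w_k) w_l`, `B (N T^i w_k) w_l` and `lev j (w k)`.
-/

set_option autoImplicit false
set_option linter.unusedSectionVars false

namespace CfsgLib.Char.EvenClass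

open Module

variable {F : Type*} [Field F] [CharP F 2]
variable {V W : Type*} [AddCommGroup V] [Module F V] [AddCommGroup W] [Module F W]

namespace QUni

/-- A frame. -/
structure Frame (x : QUni F V) (r n₀ n₁ : ℕ) where
  w : Fin r → V
  shape : n₀ = n₁ ∨ n₀ = n₁ + 1
  killT : ∀ k, (x.T ^ n₀) (w k) = 0
  killN : ∀ k, x.N ((x.T ^ n₁) (w k)) = 0
  top : ∀ c : Fin r → F,
    (∀ l, ∑ k, c k * (if n₀ = n₁ then x.B (x.N ((x.T ^ (n₁ - 1)) (w k))) (w l)
      else x.B ((x.T ^ n₁) (w k)) (w l)) = 0) → c = 0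

/-- The index set of the basis of a frame. -/
abbrev FIdx (r n₀ n₁ : ℕ) : Type := (Fin r × Fin n₀) ⊕ (Fin r × Fin n₁)

variable {x : QUni F V} {r n₀ n₁ : ℕ}

/-- The vectors of a frame. -/
noncomputable def Frame.vec (P : x.Frame r n₀ n₁) : FIdx r n₀ n₁ → V
  | .inl s => (x.T ^ (s.2 : ℕ)) (P.w s.1)
  | .inr s => x.N ((x.T ^ (s.2 : ℕ)) (P.w s.1))

/-- The subspace of a frame. -/
noncomputable def Frame.span (P : x.Frame r n₀ n₁) : Submodule F V := Submodule.span F (Set.range P.vec)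

theorem Frame.vec_mem (P : x.Frame r n₀ n₁) (s : FIdx r n₀ n₁) : P.vec s ∈ P.span :=
  Submodule.subset_span ⟨s, rfl⟩

theorem Frame.T_mem (P : x.Frame r n₀ n₁) (a : ℕ) (k : Fin r) : (x.T ^ a) (P.w k) ∈ P.span := by
  by_cases h : a < n₀
  · exact P.vec_mem (.inl (k, ⟨a, h⟩))
  · rw [x.T_pow_apply_zero (P.killT k) (by omega)]; exact P.span.zero_mem

theorem Frame.w_mem (P : x.Frame r n₀ n₁) (k : Fin r) : P.w k ∈ P.span := P.T_mem 0 k

theorem Frame.NT_eq_zero (P : x.Frame r n₀ n₁) {a : ℕ} (h : n₁ ≤ a) (k : Fin r) :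
    x.N ((x.T ^ a) (P.w k)) = 0 := by
  rw [← x.T_pow_N]
  refine x.T_pow_apply_zero ?_ h
  rw [x.T_pow_N, P.killN]

theorem Frame.NT_mem (P : x.Frame r n₀ n₁) (a : ℕ) (k : Fin r) : x.N ((x.T ^ a) (P.w k)) ∈ P.span := by
  by_cases h : a < n₁
  · exact P.vec_mem (.inr (k, ⟨a, h⟩))
  · rw [P.NT_eq_zero (by omega)]; exact P.span.zero_mem

theorem Frame.invariant (P : x.Frame r n₀ n₁) : ∀ u ∈ P.span, x.g u ∈ P.span := by
  have h : ∀ s, x.g (P.vec s) ∈ P.span := by
    intro s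
    have e : x.g (P.vec s) = x.N (P.vec s) + P.vec s := by
      rw [x.N_apply, add_assoc, add_self_vec F, add_zero]
    rw [e]
    refine P.span.add_mem ?_ (P.vec_mem s)
    rcases s with ⟨k, a⟩ | ⟨k, a⟩
    · exact P.NT_mem a k
    · show x.N (x.N ((x.T ^ (a : ℕ)) (P.w k))) ∈ P.span
      rw [x.NN_apply]
      refine P.span.add_mem ?_ ?_
      · rw [← Module.End.mul_apply, ← pow_succ']; exact P.T_mem _ k
      · have e2 : x.T (x.N ((x.T ^ (a : ℕ)) (P.w k))) = x.N ((x.T ^ ((a : ℕ) + 1)) (P.w k)) := by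
          rw [pow_succ', Module.End.mul_apply, ← pow_one x.T, x.T_pow_N, pow_one]
        rw [e2]; exact P.NT_mem _ k
  intro u hu
  induction hu using Submodule.span_induction with
  | mem v hv => obtain ⟨s, rfl⟩ := hv; exact h s
  | zero => rw [map_zero]; exact P.span.zero_mem
  | add a b _ _ ha hb => rw [map_add]; exact P.span.add_mem ha hb
  | smul c a _ ha => rw [map_smul]; exact P.span.smul_mem _ ha

theorem Frame.pair (P : x.Frame r n₀ n₁) (c₀ : Fin r → Fin n₀ → F) (c₁ : Fin r → Fin n₁ → F) (v : V) :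
    x.B (∑ k, ∑ a, c₀ k a • (x.T ^ (a : ℕ)) (P.w k) + ∑ k, ∑ a, c₁ k a • x.N ((x.T ^ (a : ℕ)) (P.w k))) v =
      ∑ k, ∑ a, c₀ k a * x.B ((x.T ^ (a : ℕ)) (P.w k)) v +
        ∑ k, ∑ a, c₁ k a * x.B (x.N ((x.T ^ (a : ℕ)) (P.w k))) v := by
  simp only [map_add, map_sum, map_smul, LinearMap.add_apply, LinearMap.sum_apply, LinearMap.smul_apply, smul_eq_mul]

/-- A combination orthogonal to the frame is zero. -/
theorem Frame.eq_zero_of_orth (P : x.Frame r n₀ n₁) (c₀ : Fin r → Fin n₀ → F) (c₁ : Fin r → Fin n₁ → F)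
    (h : ∀ s, x.B (∑ k, ∑ a, c₀ k a • (x.T ^ (a : ℕ)) (P.w k) +
      ∑ k, ∑ a, c₁ k a • x.N ((x.T ^ (a : ℕ)) (P.w k))) (P.vec s) = 0) :
    (∀ k a, c₀ k a = 0) ∧ ∀ k a, c₁ k a = 0 := by
  have hTT : ∀ (i : ℕ) (k l : Fin r), n₀ ≤ i → x.B ((x.T ^ i) (P.w k)) (P.w l) = 0 := fun i k l hi => by
    rw [x.T_pow_apply_zero (P.killT k) hi, map_zero, LinearMap.zero_apply]
  have hNT : ∀ (i : ℕ) (k l : Fin r), n₁ ≤ i → x.B (x.N ((x.T ^ i) (P.w k))) (P.w l) = 0 := fun i k l hi => by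
    rw [P.NT_eq_zero hi, map_zero, LinearMap.zero_apply]
  have hTN : ∀ (i j : ℕ) (k l : Fin r),
      x.B ((x.T ^ i) (P.w k)) (x.N ((x.T ^ j) (P.w l))) = x.B (x.N ((x.T ^ (i + j)) (P.w l))) (P.w k) :=
    fun i j k l => by rw [x.B_comm, x.B_NT_T, add_comm j i]
  have hTN' : ∀ (i : ℕ) (k l : Fin r), i + 1 = n₁ → n₀ = n₁ →
      x.B (x.N ((x.T ^ i) (P.w l))) (P.w k) = x.B (x.N ((x.T ^ i) (P.w k))) (P.w l) := fun i k l hi he => by
    have e := x.B_T_NT i 0 (P.w k) (P.w l)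
    rw [pow_zero, Module.End.one_apply, add_zero, hTT (i + 1) k l (by omega), zero_add] at e
    rw [← e]
    simpa using (hTN i 0 k l).symm
  suffices H : ∀ d, (∀ k (a : Fin n₀), 2 * (a : ℕ) = d → c₀ k a = 0) ∧
      ∀ k (a : Fin n₁), 2 * (a : ℕ) + 1 = d → c₁ k a = 0 from
    ⟨fun k a => (H _).1 k a rfl, fun k a => (H _).2 k a rfl⟩
  intro d
  induction d using Nat.strong_induction_on with
  | _ d ih =>
  have i0 : ∀ k (a : Fin n₀), 2 * (a : ℕ) < d → c₀ k a = 0 := fun k a ha => (ih _ ha).1 k a rfl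
  have i1 : ∀ k (a : Fin n₁), 2 * (a : ℕ) + 1 < d → c₁ k a = 0 := fun k a ha => (ih _ ha).2 k a rfl
  constructor
  · intro k₀ a₀ ha₀
    suffices hc : (fun k => c₀ k a₀) = 0 from congrFun hc k₀
    refine P.top _ fun l => ?_
    have ha := a₀.2
    rcases P.shape with he | he
    · -- test against `N T^b w_l`
      have hb : n₁ - 1 - (a₀ : ℕ) < n₁ := by omega
      have hs := h (.inr (l, ⟨n₁ - 1 - (a₀ : ℕ), hb⟩))
      rw [P.pair, Frame.vec] at hs
      simp only [x.B_NT_NT, hTN] at hs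
      simp only [if_pos he]
      refine Eq.trans ?_ hs
      rw [add_comm, eq_comm, Finset.sum_eq_zero fun k _ => Finset.sum_eq_zero fun a _ => ?_, zero_add]
      · refine Finset.sum_congr rfl fun k _ => ?_
        rw [Finset.sum_eq_single a₀, show (a₀ : ℕ) + (n₁ - 1 - (a₀ : ℕ)) = n₁ - 1 by omega,
          hTN' _ k l (by omega) he]
        · intro a _ hne
          rcases lt_or_gt_of_ne (fun e => hne (Fin.ext e) : (a : ℕ) ≠ a₀) with hl | hl
          · rw [i0 k a (by omega), zero_mul]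
          · rw [hNT _ l k (by omega), mul_zero]
        · exact fun hn => absurd (Finset.mem_univ _) hn
      · rcases lt_or_ge (a : ℕ) a₀ with hl | hl
        · rw [i1 k a (by omega), zero_mul]
        · rw [hTT _ k l (by omega), mul_zero]
    · -- test against `T^b w_l`
      have hb : n₁ - (a₀ : ℕ) < n₀ := by omega
      have hs := h (.inl (l, ⟨n₁ - (a₀ : ℕ), hb⟩))
      rw [P.pair, Frame.vec] at hs
      simp only [x.B_T_N, x.B_NT_T] at hs
      simp only [if_neg (show ¬ n₀ = n₁ by omega)]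
      refine Eq.trans ?_ hs
      rw [eq_comm, add_comm, Finset.sum_eq_zero fun k _ => Finset.sum_eq_zero fun a _ => ?_, zero_add]
      · refine Finset.sum_congr rfl fun k _ => ?_
        rw [Finset.sum_eq_single a₀, show (a₀ : ℕ) + (n₁ - (a₀ : ℕ)) = n₁ by omega]
        · intro a _ hne
          rcases lt_or_gt_of_ne (fun e => hne (Fin.ext e) : (a : ℕ) ≠ a₀) with hl | hl
          · rw [i0 k a (by omega), zero_mul]
          · rw [hTT _ k l (by omega), mul_zero]
        · exact fun hn => absurd (Finset.mem_univ _) hn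
      · rcases lt_or_ge (a : ℕ) a₀ with hl | hl
        · rw [i1 k a (by omega), zero_mul]
        · rw [hNT _ k l (by omega), mul_zero]
  · intro k₀ a₀ ha₀
    suffices hc : (fun k => c₁ k a₀) = 0 from congrFun hc k₀
    refine P.top _ fun l => ?_
    have ha := a₀.2
    rcases P.shape with he | he
    · -- test against `T^b w_l`
      have hb : n₁ - 1 - (a₀ : ℕ) < n₀ := by omega
      have hs := h (.inl (l, ⟨n₁ - 1 - (a₀ : ℕ), hb⟩))
      rw [P.pair, Frame.vec] at hs
      simp only [x.B_T_N, x.B_NT_T] at hs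
      simp only [if_pos he]
      refine Eq.trans ?_ hs
      rw [eq_comm, Finset.sum_eq_zero fun k _ => Finset.sum_eq_zero fun a _ => ?_, zero_add]
      · refine Finset.sum_congr rfl fun k _ => ?_
        rw [Finset.sum_eq_single a₀, show (a₀ : ℕ) + (n₁ - 1 - (a₀ : ℕ)) = n₁ - 1 by omega]
        · intro a _ hne
          rcases lt_or_gt_of_ne (fun e => hne (Fin.ext e) : (a : ℕ) ≠ a₀) with hl | hl
          · rw [i1 k a (by omega), zero_mul]
          · rw [hNT _ k l (by omega), mul_zero]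
        · exact fun hn => absurd (Finset.mem_univ _) hn
      · rcases le_or_gt (a : ℕ) a₀ with hl | hl
        · rw [i0 k a (by omega), zero_mul]
        · rw [hTT _ k l (by omega), mul_zero]
    · -- test against `N T^b w_l`
      have hb : n₁ - 1 - (a₀ : ℕ) < n₁ := by omega
      have hs := h (.inr (l, ⟨n₁ - 1 - (a₀ : ℕ), hb⟩))
      rw [P.pair, Frame.vec] at hs
      simp only [x.B_NT_NT, hTN] at hs
      simp only [if_neg (show ¬ n₀ = n₁ by omega)]
      refine Eq.trans ?_ hs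
      rw [eq_comm, Finset.sum_eq_zero fun k _ => Finset.sum_eq_zero fun a _ => ?_, zero_add]
      · refine Finset.sum_congr rfl fun k _ => ?_
        rw [Finset.sum_eq_single a₀, show (a₀ : ℕ) + (n₁ - 1 - (a₀ : ℕ)) + 1 = n₁ by omega]
        · intro a _ hne
          rcases lt_or_gt_of_ne (fun e => hne (Fin.ext e) : (a : ℕ) ≠ a₀) with hl | hl
          · rw [i1 k a (by omega), zero_mul]
          · rw [hTT _ k l (by omega), mul_zero]
        · exact fun hn => absurd (Finset.mem_univ _) hn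
      · rcases le_or_gt (a : ℕ) a₀ with hl | hl
        · rw [i0 k a (by omega), zero_mul]
        · rw [hNT _ l k (by omega), mul_zero]

theorem Frame.combination (P : x.Frame r n₀ n₁) (c : FIdx r n₀ n₁ → F) :
    ∑ s, c s • P.vec s = ∑ k, ∑ a, c (.inl (k, a)) • (x.T ^ (a : ℕ)) (P.w k) +
      ∑ k, ∑ a, c (.inr (k, a)) • x.N ((x.T ^ (a : ℕ)) (P.w k)) := by
  rw [Fintype.sum_sum_type, Fintype.sum_prod_type, Fintype.sum_prod_type]
  rfl

theorem Frame.linearIndependent (P : x.Frame r n₀ n₁) : LinearIndependent F P.vec := by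
  refine Fintype.linearIndependent_iff.2 fun c hc => ?_
  rw [P.combination] at hc
  obtain ⟨h0, h1⟩ := P.eq_zero_of_orth (fun k a => c (.inl (k, a))) (fun k a => c (.inr (k, a))) fun s => by
    rw [hc, map_zero, LinearMap.zero_apply]
  rintro (⟨k, a⟩ | ⟨k, a⟩)
  · exact h0 k a
  · exact h1 k a

theorem Frame.sep_span (P : x.Frame r n₀ n₁) : ∀ u ∈ P.span, (∀ v ∈ P.span, x.B u v = 0) → u = 0 := by
  intro u hu hort
  obtain ⟨c, rfl⟩ := Submodule.mem_span_range_iff_exists_fun F |>.1 hu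
  rw [P.combination] at hort ⊢
  obtain ⟨h0, h1⟩ := P.eq_zero_of_orth _ _ fun s => hort _ (P.vec_mem s)
  simp [h0, h1]

theorem Frame.finrank_span (P : x.Frame r n₀ n₁) : finrank F P.span = r * (n₀ + n₁) := by
  rw [Frame.span, finrank_span_eq_card P.linearIndependent, Fintype.card_sum, Fintype.card_prod, Fintype.card_prod,
    Fintype.card_fin, Fintype.card_fin, Fintype.card_fin, mul_add]

/-- The space of a frame. -/
noncomputable def Frame.space [FiniteDimensional F V] (P : x.Frame r n₀ n₁) : QUni F P.span :=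
  x.res P.span P.invariant P.sep_span

/-- The basis of a frame. -/
noncomputable def Frame.basis (P : x.Frame r n₀ n₁) : Basis (FIdx r n₀ n₁) F P.span :=
  Basis.span P.linearIndependent

theorem Frame.basis_coe (P : x.Frame r n₀ n₁) (s : FIdx r n₀ n₁) : (P.basis s : V) = P.vec s := by
  exact congrArg Subtype.val (Basis.span_apply P.linearIndependent s)

variable [FiniteDimensional F V] [FiniteDimensional F W]

/-- Frames of the same shape span conjugate spaces. -/
theorem Frame.exists_equiv {y : QUni F W} (P : x.Frame r n₀ n₁) (R : y.Frame r n₀ n₁) :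
    ∃ φ : P.span ≃ₗ[F] R.span, (∀ s, (φ (P.basis s) : W) = R.vec s) ∧
      ∀ u, φ (P.space.g u) = R.space.g (φ u) := by
  set φ : P.span ≃ₗ[F] R.span := P.basis.equiv R.basis (Equiv.refl _)
  have hb : ∀ s, (φ (P.basis s) : W) = R.vec s := fun s => by
    rw [Basis.equiv_apply, Equiv.refl_apply, R.basis_coe]
  refine ⟨φ, hb, ?_⟩
  have hTw : ∀ (a : ℕ) (k : Fin r), (φ ⟨(x.T ^ a) (P.w k), P.T_mem a k⟩ : W) = (y.T ^ a) (R.w k) := by
    intro a k
    by_cases ha : a < n₀
    · have e : (⟨(x.T ^ a) (P.w k), P.T_mem a k⟩ : P.span) = P.basis (.inl (k, ⟨a, ha⟩)) :=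
        Subtype.ext (by rw [P.basis_coe]; rfl)
      rw [e, hb]; rfl
    · have e : (⟨(x.T ^ a) (P.w k), P.T_mem a k⟩ : P.span) = 0 :=
        Subtype.ext (x.T_pow_apply_zero (P.killT k) (by omega))
      rw [e, map_zero, y.T_pow_apply_zero (R.killT k) (by omega)]; rfl
  have hNw : ∀ (a : ℕ) (k : Fin r),
      (φ ⟨x.N ((x.T ^ a) (P.w k)), P.NT_mem a k⟩ : W) = y.N ((y.T ^ a) (R.w k)) := by
    intro a k
    by_cases ha : a < n₁
    · have e : (⟨x.N ((x.T ^ a) (P.w k)), P.NT_mem a k⟩ : P.span) = P.basis (.inr (k, ⟨a, ha⟩)) :=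
        Subtype.ext (by rw [P.basis_coe]; rfl)
      rw [e, hb]; rfl
    · have e : (⟨x.N ((x.T ^ a) (P.w k)), P.NT_mem a k⟩ : P.span) = 0 :=
        Subtype.ext (P.NT_eq_zero (by omega) k)
      rw [e, map_zero, R.NT_eq_zero (by omega)]; rfl
  have e : φ.toLinearMap ∘ₗ P.space.g = R.space.g ∘ₗ φ.toLinearMap := by
    refine P.basis.ext fun s => Subtype.ext ?_
    show (φ (P.space.g (P.basis s)) : W) = y.g (φ (P.basis s) : W)
    rw [hb]
    have eg : ∀ z : W, y.g z = y.N z + z := fun z => by rw [y.N_apply, add_assoc, add_self_vec F, add_zero]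
    have eg' : ∀ z : V, x.g z = x.N z + z := fun z => by rw [x.N_apply, add_assoc, add_self_vec F, add_zero]
    rcases s with ⟨k, a⟩ | ⟨k, a⟩
    · have e1 : P.space.g (P.basis (.inl (k, a))) =
          ⟨_, P.NT_mem a k⟩ + ⟨_, P.T_mem a k⟩ := Subtype.ext (by
        show x.g (P.basis (.inl (k, a)) : V) = _
        rw [P.basis_coe, eg']; rfl)
      rw [e1, map_add, Submodule.coe_add, hNw, hTw, eg]
      rfl
    · have eN : ∀ (z : V), x.N (x.N ((x.T ^ (a : ℕ)) z)) =
          (x.T ^ ((a : ℕ) + 1)) z + x.N ((x.T ^ ((a : ℕ) + 1)) z) := fun z => by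
        rw [x.NN_apply, pow_succ', Module.End.mul_apply, ← pow_one x.T, x.T_pow_N, pow_one]
      have eN' : ∀ (z : W), y.N (y.N ((y.T ^ (a : ℕ)) z)) =
          (y.T ^ ((a : ℕ) + 1)) z + y.N ((y.T ^ ((a : ℕ) + 1)) z) := fun z => by
        rw [y.NN_apply, pow_succ', Module.End.mul_apply, ← pow_one y.T, y.T_pow_N, pow_one]
      have e1 : P.space.g (P.basis (.inr (k, a))) =
          (⟨_, P.T_mem (a + 1) k⟩ + ⟨_, P.NT_mem (a + 1) k⟩) + ⟨_, P.NT_mem a k⟩ := Subtype.ext (by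
        show x.g (P.basis (.inr (k, a)) : V) = _
        rw [P.basis_coe, eg', Frame.vec, eN]; rfl)
      rw [e1, map_add, map_add, Submodule.coe_add, Submodule.coe_add, hNw, hNw, hTw, eg, Frame.vec, eN']
  exact fun u => LinearMap.congr_fun e u

theorem Frame.rk_eq {y : QUni F W} (P : x.Frame r n₀ n₁) (R : y.Frame r n₀ n₁) (a : ℕ) :
    P.space.rkT a = R.space.rkT a ∧ P.space.rkN a = R.space.rkN a := by
  obtain ⟨φ, -, hg⟩ := P.exists_equiv R
  exact ⟨range_eq_of_conj (map_T_pow hg a), range_eq_of_conj fun u => by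
    rw [Module.End.mul_apply, Module.End.mul_apply, map_N hg, map_T_pow hg]⟩

/-- Frames with the same numbers span isomorphic spaces. -/
theorem Frame.iso {y : QUni F W} (P : x.Frame r n₀ n₁) (R : y.Frame r n₀ n₁)
    (hT : ∀ i k l, x.B ((x.T ^ i) (P.w k)) (P.w l) = y.B ((y.T ^ i) (R.w k)) (R.w l))
    (hN : ∀ i k l, x.B (x.N ((x.T ^ i) (P.w k))) (P.w l) = y.B (y.N ((y.T ^ i) (R.w k))) (R.w l))
    (hl : ∀ j k, x.lev j (P.w k) = y.lev j (R.w k)) : P.space.Iso R.space := by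
  obtain ⟨φ, hb, hg⟩ := P.exists_equiv R
  have hB : ∀ u v : P.span, y.B (φ u : W) (φ v : W) = x.B (u : V) (v : V) := by
    have e : (R.space.B).compl₁₂ φ.toLinearMap φ.toLinearMap = P.space.B := by
      refine LinearMap.ext_basis P.basis P.basis fun s t => ?_
      show y.B (φ (P.basis s) : W) (φ (P.basis t) : W) = x.B (P.basis s : V) (P.basis t : V)
      rw [hb, hb, P.basis_coe, P.basis_coe]
      rcases s with ⟨k, a⟩ | ⟨k, a⟩ <;> rcases t with ⟨l, b⟩ | ⟨l, b⟩ <;>
        simp only [Frame.vec, x.B_T_N, y.B_T_N, x.B_NT_T, y.B_NT_T, x.B_NT_NT, y.B_NT_NT, x.B_T_NT, y.B_T_NT, hT, hN]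
    intro u v
    exact LinearMap.congr_fun (LinearMap.congr_fun e u) v
  refine ⟨φ, hg, fun u => ?_⟩
  have hu : u ∈ Submodule.span F (Set.range P.basis) := by rw [P.basis.span_eq]; exact Submodule.mem_top
  induction hu using Submodule.span_induction with
  | mem v hv =>
    obtain ⟨s, rfl⟩ := hv
    show y.Q (φ (P.basis s) : W) = x.Q (P.basis s : V)
    rw [hb, P.basis_coe]
    rcases s with ⟨k, a⟩ | ⟨k, a⟩
    · show y.lev 0 ((y.T ^ (a : ℕ)) (R.w k)) = x.lev 0 ((x.T ^ (a : ℕ)) (P.w k))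
      rw [x.lev_T_pow, y.lev_T_pow, hl]
    · show y.lev 0 (y.N ((y.T ^ (a : ℕ)) (R.w k))) = x.lev 0 (x.N ((x.T ^ (a : ℕ)) (P.w k)))
      rw [x.lev_N, x.lev_T_pow, y.lev_N, y.lev_T_pow, hl]
  | zero =>
    rw [map_zero]
    exact (R.space.lev_zero_vec 0).trans (P.space.lev_zero_vec 0).symm
  | add a b _ _ ha hb' =>
    rw [map_add, R.space.Q_add, P.space.Q_add, ha, hb']
    exact congrArg (_ + ·) (hB a b)
  | smul c a _ ha => rw [map_smul, R.space.Q_smul, P.space.Q_smul, ha]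

end QUni

end CfsgLib.Char.EvenClass
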