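import Cfsg.Agent.Lib.Char.EvenClass.Count

/-!
# The character sum of a quadratic space

For the sign character `psi` of `F / {c² + c}` the sum of `psi (Q v)` over a space is multiplicative, and on a
piece of half dimension `h` it is `q ^ h`, negated when the bit is set. So the parity of the bits of a
decomposition only depends on the quadratic space.
-/

set_option autoImplicit false
set_option linter.unusedSectionVars false

open scoped Classical

namespace CfsgLib.Char.EvenClass

open Module

variable {F : Type*} [Field F] [CharP F 2] [Finite F]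

/-- The sign character. -/
noncomputable def psi (a : F) : ℤ := if InWp a then 1 else -1

theorem psi_zero : psi (0 : F) = 1 := if_pos ⟨0, by simp⟩

theorem psi_add (a b : F) : psi (a + b) = psi a * psi b := by
  by_cases ha : InWp a <;> by_cases hb : InWp b
  · simp [psi, ha, hb, inWp_add ha hb]
  · have : ¬ InWp (a + b) := fun h => hb (by
      have := inWp_add ha h; rwa [← add_assoc, CharTwo.add_self_eq_zero, zero_add] at this)
    simp [psi, ha, hb, this]
  · have : ¬ InWp (a + b) := fun h => ha (by
      have := inWp_add h hb; rwa [add_assoc, CharTwo.add_self_eq_zero, add_zero] at this)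
    simp [psi, ha, hb, this]
  · have : InWp (a + b) := by
      have := inWp_add (inWp_add_al ha) (inWp_add_al hb)
      rwa [show a + al F + (b + al F) = a + b + (al F + al F) by ring, CharTwo.add_self_eq_zero, add_zero] at this
    simp [psi, ha, hb, this]

theorem psi_sq (a : F) : psi (a ^ 2) = psi a := by
  have h : psi (a ^ 2 + a) = 1 := if_pos (inWp_sq_add a)
  have h2 : psi a * psi a = 1 := by unfold psi; split_ifs <;> norm_num
  calc psi (a ^ 2) = psi (a ^ 2 + a + a) := by rw [add_assoc, CharTwo.add_self_eq_zero, add_zero]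
    _ = psi a := by rw [psi_add, h, one_mul]

theorem psi_bv (b : Bool) : psi (bv F b) = if b then -1 else 1 := by
  cases b
  · simpa [bv] using psi_zero
  · simp [bv, psi, al_not_inWp]

theorem psi_abs (a : F) : psi a = 1 ∨ psi a = -1 := by unfold psi; split_ifs <;> simp

/-! ### sums -/

/-- The character sum of a function. -/
noncomputable def gauss {V : Type*} (Q : V → F) : ℤ := ∑ᶠ v, psi (Q v)

theorem gauss_equiv {V W : Type*} (e : V ≃ W) (Q : W → F) : gauss (fun v => Q (e v)) = gauss Q :=
  finsum_comp_equiv e (f := fun w => psi (Q w))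

theorem gauss_add {V W : Type*} [Finite V] [Finite W] (P : V → F) (R : W → F) :
    gauss (fun u : V × W => P u.1 + R u.2) = gauss P * gauss R := by
  haveI := Fintype.ofFinite V
  haveI := Fintype.ofFinite W
  simp only [gauss, finsum_eq_sum_of_fintype, psi_add]
  rw [Fintype.sum_prod_type, Finset.sum_mul_sum]

theorem sum_psi_linear {V : Type*} [AddCommGroup V] [Module F V] [Fintype V] (f : V →ₗ[F] F) :
    ∑ v, psi (f v) = if f = 0 then (Fintype.card V : ℤ) else 0 := by
  split_ifs with h
  · subst h; simp [psi_zero]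
  · obtain ⟨v, hv⟩ : ∃ v, f v ≠ 0 := by
      by_contra hc; push Not at hc; exact h (LinearMap.ext hc)
    have hz : f ((al F / f v) • v) = al F := by rw [map_smul, smul_eq_mul, div_mul_cancel₀ _ hv]
    set z := (al F / f v) • v
    have e := Equiv.sum_comp (Equiv.addRight z) (fun w => psi (f w))
    have hal : psi (al F) = -1 := if_neg al_not_inWp
    simp only [Equiv.coe_addRight, map_add, psi_add, hz, hal, ← Finset.sum_mul] at e
    omega

theorem gauss_plane (α β : F) :
    gauss (fun c : F × F => c.1 ^ 2 * α + c.2 ^ 2 * β + c.1 * c.2) = (Nat.card F : ℤ) * psi (α * β) := by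
  haveI := Fintype.ofFinite F
  rw [Nat.card_eq_fintype_card]
  obtain ⟨s, hs⟩ := exists_sqrt α
  have inner : ∀ y : F, ∑ t : F, psi (t ^ 2 * α + t * y) = if y = s then (Fintype.card F : ℤ) else 0 := by
    intro y
    have h := sum_psi_linear (F := F) (LinearMap.mulRight F (s + y))
    have e : ∀ t : F, psi (t ^ 2 * α + t * y) = psi (t * (s + y)) := fun t => by
      rw [psi_add, mul_add, psi_add, ← hs, ← mul_pow, psi_sq]
    simp only [e]
    rw [show ∑ t : F, psi (t * (s + y)) = ∑ t : F, psi (LinearMap.mulRight F (s + y) t) from rfl, h]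
    refine if_congr ⟨fun hf => ?_, fun hy => ?_⟩ rfl rfl
    · have := LinearMap.congr_fun hf (1 : F)
      simp only [LinearMap.mulRight_apply, one_mul, LinearMap.zero_apply] at this
      exact (CharTwo.add_eq_zero.1 this).symm
    · subst hy; ext; simp [CharTwo.add_self_eq_zero]
  rw [gauss, finsum_eq_sum_of_fintype, Fintype.sum_prod_type, Finset.sum_comm]
  have : ∀ y : F, ∑ t : F, psi (t ^ 2 * α + y ^ 2 * β + t * y) =
      psi (y ^ 2 * β) * if y = s then (Fintype.card F : ℤ) else 0 := fun y => by
    rw [← inner y, Finset.mul_sum]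
    refine Finset.sum_congr rfl fun t _ => ?_
    rw [show t ^ 2 * α + y ^ 2 * β + t * y = y ^ 2 * β + (t ^ 2 * α + t * y) by ring, psi_add]
  simp only [this, mul_ite, mul_zero, Finset.sum_ite_eq', Finset.mem_univ, if_true]
  rw [hs, mul_comm]

/-! ### reduction by a totally singular subspace -/

variable {V : Type*} [AddCommGroup V] [Module F V]

namespace QUni

/-- The character sum of a space. -/
noncomputable def gs (x : QUni F V) : ℤ := gauss x.Q

theorem Iso.gs_eq {W : Type*} [AddCommGroup W] [Module F W] {x : QUni F V} {y : QUni F W} (h : x.Iso y) :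
    x.gs = y.gs := by
  obtain ⟨φ, -, hQ⟩ := h
  rw [gs, gs, ← gauss_equiv φ.toEquiv y.Q]
  exact congrArg gauss (funext fun v => (hQ v).symm)

theorem gs_prod {W : Type*} [AddCommGroup W] [Module F W] [Finite V] [Finite W] (x : QUni F V) (y : QUni F W) :
    (x.prod y).gs = x.gs * y.gs := gauss_add x.Q y.Q

variable [FiniteDimensional F V]

theorem Q_zero (x : QUni F V) : x.Q 0 = 0 := x.lev_zero_vec 0

theorem gs_lagr (x : QUni F V) (L : Submodule F V) (a b : V) (hQ : ∀ u ∈ L, x.Q u = 0)
    (ha : ∀ u ∈ L, x.B u a = 0) (hb : ∀ u ∈ L, x.B u b = 0) (hab : x.B a b = 1)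
    (hd : 2 * (finrank F L + 1) = finrank F V) :
    x.gs = (Nat.card F : ℤ) ^ (finrank F L + 1) * psi (x.Q a * x.Q b) := by
  haveI : Finite V := Module.finite_of_finite F
  haveI := Fintype.ofFinite V
  haveI := Fintype.ofFinite F
  haveI := Fintype.ofFinite L
  set O := x.B.orthogonal L
  haveI := Fintype.ofFinite O
  have hLO : L ≤ O := fun u hu w hw => by
    have h := x.Q_add w u
    rw [hQ _ (L.add_mem hw hu), hQ _ hw, hQ _ hu, zero_add, zero_add] at h
    exact h.symm
  have haO : a ∈ O := fun w hw => ha w hw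
  have hbO : b ∈ O := fun w hw => hb w hw
  have h1 : (Fintype.card L : ℤ) * x.gs = (Fintype.card L : ℤ) * ∑ v : O, psi (x.Q v) := by
    have hshift : ∀ l : L, ∑ v, psi (x.Q (v + l)) = x.gs := fun l => by
      rw [gs, gauss, finsum_eq_sum_of_fintype]
      exact Equiv.sum_comp (Equiv.addRight (l : V)) fun v => psi (x.Q v)
    calc (Fintype.card L : ℤ) * x.gs = ∑ l : L, ∑ v, psi (x.Q (v + l)) := by
          simp [hshift]
      _ = ∑ v, psi (x.Q v) * ∑ l : L, psi ((x.B v).comp L.subtype l) := by
          rw [Finset.sum_comm]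
          refine Finset.sum_congr rfl fun v _ => ?_
          rw [Finset.mul_sum]
          refine Finset.sum_congr rfl fun l _ => ?_
          rw [x.Q_add, hQ _ l.2, add_zero, psi_add]
          rfl
      _ = ∑ v, if v ∈ O then (Fintype.card L : ℤ) * psi (x.Q v) else 0 := by
          refine Finset.sum_congr rfl fun v _ => ?_
          rw [sum_psi_linear]
          have hiff : (x.B v).comp L.subtype = 0 ↔ v ∈ O := by
            refine ⟨fun h w hw => ?_, fun h => LinearMap.ext fun l => ?_⟩
            · show x.B w v = 0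
              rw [x.B_comm]; exact LinearMap.congr_fun h ⟨w, hw⟩
            · show x.B v l = 0
              rw [x.B_comm]; exact h l l.2
          by_cases h : v ∈ O <;> simp [hiff, h, mul_comm]
      _ = _ := by
          rw [Finset.mul_sum, ← Finset.sum_filter,
            Finset.sum_subtype (p := fun v => v ∈ O) _ (fun v => by simp) fun v => (Fintype.card L : ℤ) * psi (x.Q v)]
  have h1' : x.gs = ∑ v : O, psi (x.Q v) :=
    mul_left_cancel₀ (Nat.cast_ne_zero.2 Fintype.card_ne_zero) h1
  -- the orthogonal is `L` plus the plane of `a` and `b`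
  let f : L × F × F →ₗ[F] O := LinearMap.codRestrict O
    (L.subtype.coprod (((LinearMap.id (R := F) (M := F)).smulRight a).coprod
      ((LinearMap.id (R := F) (M := F)).smulRight b))) fun c =>
    O.add_mem (hLO c.1.2) (O.add_mem (O.smul_mem _ haO) (O.smul_mem _ hbO))
  have hf : ∀ c, (f c : V) = c.1 + (c.2.1 • a + c.2.2 • b) := fun c => rfl
  have hinj : Function.Injective f := by
    rw [injective_iff_map_eq_zero]
    intro c hc
    have h0 : (c.1 : V) + (c.2.1 • a + c.2.2 • b) = 0 := by rw [← hf]; exact congrArg Subtype.val hc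
    have e1 := congrArg (fun w => x.B w a) h0
    have e2 := congrArg (fun w => x.B w b) h0
    simp only [map_add, map_smul, LinearMap.add_apply, LinearMap.smul_apply, map_zero, LinearMap.zero_apply,
      smul_eq_mul, ha _ c.1.2, hb _ c.1.2, x.alt, hab, x.B_comm b a, mul_zero, mul_one, zero_add, add_zero] at e1 e2
    rw [e1, e2, zero_smul, zero_smul, add_zero, add_zero] at h0
    exact Prod.ext (Subtype.ext h0) (Prod.ext e2 e1)
  have hfin : finrank F (L × F × F) = finrank F O := by
    have hnd : x.B.Nondegenerate := (LinearMap.IsRefl.nondegenerate_iff_separatingLeft x.isRefl).2 x.sep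
    rw [LinearMap.BilinForm.finrank_orthogonal hnd L, Module.finrank_prod, Module.finrank_prod, Module.finrank_self]
    omega
  let e := LinearEquiv.ofBijective f ⟨hinj, (LinearMap.injective_iff_surjective_of_finrank_eq_finrank hfin).1 hinj⟩
  have hQf : ∀ c, x.Q (f c : V) = (c.2.1 ^ 2 * x.Q a + c.2.2 ^ 2 * x.Q b + c.2.1 * c.2.2) := fun c => by
    rw [hf, x.Q_add, x.Q_add, x.Q_smul, x.Q_smul, hQ _ c.1.2]
    simp only [map_add, map_smul, LinearMap.smul_apply, smul_eq_mul, ha _ c.1.2, hb _ c.1.2, hab]
    ring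
  rw [h1', ← e.toEquiv.sum_comp]
  simp only [LinearEquiv.coe_toEquiv, show ∀ c, e c = f c from fun _ => rfl, hQf]
  rw [Fintype.sum_prod_type]
  simp only
  rw [Finset.sum_const, Finset.card_univ, nsmul_eq_mul, ← finsum_eq_sum_of_fintype]
  show (Fintype.card L : ℤ) * gauss (fun c : F × F => c.1 ^ 2 * x.Q a + c.2 ^ 2 * x.Q b + c.1 * c.2) = _
  rw [gauss_plane, Module.card_eq_pow_finrank (K := F) (V := L), Nat.card_eq_fintype_card]
  push_cast
  ring

/-- The vectors of a chain. -/
noncomputable def dvec (x : QUni F V) (u : V) (d : ℕ) : V :=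
  if Even d then (x.T ^ (d / 2)) u else x.N ((x.T ^ (d / 2)) u)

theorem Q_dvec (x : QUni F V) (u : V) (d : ℕ) : x.Q (x.dvec u d) = x.lev d u := by
  rcases Nat.even_or_odd' d with ⟨i, rfl | rfl⟩
  · rw [dvec, if_pos (even_two_mul i), Nat.mul_div_cancel_left i two_pos, ← x.lev_zero, x.lev_T_pow, zero_add]
  · rw [dvec, if_neg (Nat.not_even_two_mul_add_one i), show (2 * i + 1) / 2 = i by omega, ← x.T_pow_N,
      ← x.lev_zero, x.lev_T_pow, x.lev_N, zero_add]

/-- The pairing of two chains. -/
theorem B_dvec (x : QUni F V) (u v : V) (d e : ℕ) :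
    x.B (x.dvec u d) (x.dvec v e) =
      if Even (d + e) then x.B ((x.T ^ ((d + e) / 2)) u) v
      else (if Even d then x.B ((x.T ^ ((d + e + 1) / 2)) u) v else 0) + x.B (x.N ((x.T ^ ((d + e) / 2)) u)) v := by
  rcases Nat.even_or_odd' d with ⟨i, rfl | rfl⟩ <;> rcases Nat.even_or_odd' e with ⟨j, rfl | rfl⟩
  · rw [if_pos ((even_two_mul i).add (even_two_mul j))]
    simp only [dvec, even_two_mul, if_true, Nat.mul_div_cancel_left _ two_pos]
    rw [x.B_T_N, show (2 * i + 2 * j) / 2 = i + j by omega]
  · rw [if_neg (by simp [Nat.even_add_one, parity_simps]), if_pos (even_two_mul i)]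
    simp only [dvec, even_two_mul, if_true, if_neg (Nat.not_even_two_mul_add_one j),
      Nat.mul_div_cancel_left _ two_pos, show (2 * j + 1) / 2 = j by omega]
    rw [x.B_T_NT, show (2 * i + (2 * j + 1) + 1) / 2 = i + j + 1 by omega,
      show (2 * i + (2 * j + 1)) / 2 = i + j by omega]
  · rw [if_neg (by simp [parity_simps]), if_neg (Nat.not_even_two_mul_add_one i)]
    simp only [dvec, even_two_mul, if_true, if_neg (Nat.not_even_two_mul_add_one i),
      Nat.mul_div_cancel_left _ two_pos, show (2 * i + 1) / 2 = i by omega]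
    rw [x.B_NT_T, zero_add, show (2 * i + 1 + 2 * j) / 2 = i + j by omega]
  · rw [if_pos (by simp [parity_simps])]
    simp only [dvec, if_neg (Nat.not_even_two_mul_add_one i), if_neg (Nat.not_even_two_mul_add_one j),
      show (2 * i + 1) / 2 = i by omega, show (2 * j + 1) / 2 = j by omega]
    rw [x.B_NT_NT, show (2 * i + 1 + (2 * j + 1)) / 2 = i + j + 1 by omega]

theorem Q_span_eq_zero (x : QUni F V) {s : Set V} (hQ : ∀ u ∈ s, x.Q u = 0) (hB : ∀ u ∈ s, ∀ v ∈ s, x.B u v = 0) :
    ∀ u ∈ Submodule.span F s, x.Q u = 0 := by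
  intro u hu
  suffices h : x.Q u = 0 ∧ ∀ v ∈ s, x.B u v = 0 from h.1
  refine Submodule.span_induction (p := fun u _ => x.Q u = 0 ∧ ∀ v ∈ s, x.B u v = 0) (fun v hv => ⟨hQ v hv, hB v hv⟩)
    ⟨x.Q_zero, fun v _ => by simp⟩ (fun a b ha hb pa pb => ⟨?_, fun v hv => by simp [pa.2 v hv, pb.2 v hv]⟩)
    (fun c a _ pa => ⟨by rw [x.Q_smul, pa.1, mul_zero], fun v hv => by simp [pa.2 v hv]⟩) hu
  have hab : ∀ z ∈ Submodule.span F s, x.B a z = 0 := fun z hz =>
    (Submodule.span_le (p := LinearMap.ker (x.B a))).2 (fun v hv => pa.2 v hv) hz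
  rw [x.Q_add, pa.1, pb.1, hab b hb, add_zero, add_zero]

theorem B_span_eq_zero (x : QUni F V) {s : Set V} {a : V} (h : ∀ u ∈ s, x.B u a = 0) :
    ∀ u ∈ Submodule.span F s, x.B u a = 0 := fun _ hu =>
  (Submodule.span_le (p := LinearMap.ker (x.B.flip a))).2 h hu

theorem li_dvec (x : QUni F V) {r n₀ n₁ : ℕ} (P : x.Frame r n₀ n₁) {ι : Type*} (k : ι → Fin r) (d : ι → ℕ)
    (hd : ∀ i, d i < n₀ + n₁) (hinj : Function.Injective fun i => (k i, d i)) :
    LinearIndependent F fun i => x.dvec (P.w (k i)) (d i) := by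
  have hev : ∀ i, Even (d i) → d i / 2 < n₀ := fun i h => by
    have := hd i; rw [Nat.even_iff] at h; rcases P.shape with e | e <;> omega
  have hod : ∀ i, ¬ Even (d i) → d i / 2 < n₁ := fun i h => by
    have := hd i; rw [Nat.even_iff] at h; rcases P.shape with e | e <;> omega
  let σ : ι → FIdx r n₀ n₁ := fun i =>
    if h : Even (d i) then .inl (k i, ⟨d i / 2, hev i h⟩) else .inr (k i, ⟨d i / 2, hod i h⟩)
  have hσ : Function.Injective σ := fun i j h => by
    simp only [σ] at h
    split_ifs at h with h1 h2 h2 <;>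
      simp only [Sum.inl.injEq, Sum.inr.injEq, Prod.mk.injEq, Fin.ext_iff, reduceCtorEq] at h
    · rw [Nat.even_iff] at h1 h2
      exact hinj (Prod.ext (Fin.ext h.1) (show d i = d j by omega))
    · rw [Nat.even_iff] at h1 h2
      exact hinj (Prod.ext (Fin.ext h.1) (show d i = d j by omega))
  have e : (fun i => x.dvec (P.w (k i)) (d i)) = P.vec ∘ σ := funext fun i => by
    simp only [Function.comp, σ, dvec]
    split_ifs <;> rfl
  rw [e]
  exact P.linearIndependent.comp σ hσ

theorem gs_isPiece (x : QUni F V) {p : Piece} (hx : x.IsPiece p) :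
    x.gs = (Nat.card F : ℤ) ^ p.half * if p.par = 1 then -1 else 1 := by
  have hB0 : ∀ (u : V) (i : ℕ), x.B ((x.T ^ i) u) u = 0 := fun u i => x.B_T_pow_self i u
  cases p with
  | v k b =>
    obtain ⟨hd, u, hu, hl⟩ := hx
    have hP : ∀ d e, x.B (x.dvec u d) (x.dvec u e) = if d + e + 1 = 2 * (k + 1) then 1
        else if d + e + 1 = 2 * k then bv F b else 0 := by
      intro d e
      rw [x.B_dvec]
      rcases Nat.even_or_odd' (d + e) with ⟨i, hi | hi⟩
      · rw [hi, if_pos (even_two_mul i), hB0, if_neg (by omega), if_neg (by omega)]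
      · rw [hi, if_neg (Nat.not_even_two_mul_add_one i), hB0, show (2 * i + 1) / 2 = i by omega, ← x.lev_succ, hl]
        simp only [ite_self, zero_add]
        exact if_congr (by omega) rfl (if_congr (by omega) rfl rfl)
    set s : Fin k → V := fun i => x.dvec u (k + 2 + i) with hs
    have hli : LinearIndependent F s :=
      x.li_dvec (x.frameV hu (by rw [hl, if_pos rfl]; exact one_ne_zero)) (fun _ : Fin k => (0 : Fin 1))
        (fun i => k + 2 + i) (fun i => by omega) fun i j h => by
          simp only [Prod.mk.injEq, true_and] at h; exact Fin.ext (by omega)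
    have hfin : finrank F (Submodule.span F (Set.range s)) = k := by
      rw [finrank_span_eq_card hli, Fintype.card_fin]
    rw [x.gs_lagr (Submodule.span F (Set.range s)) (x.dvec u k) (x.dvec u (k + 1))
      (x.Q_span_eq_zero (by
        rintro _ ⟨i, rfl⟩
        rw [hs, x.Q_dvec, hl, if_neg (by omega), if_neg (by omega)])
      (by
        rintro _ ⟨i, rfl⟩ _ ⟨j, rfl⟩
        rw [hs, hP, if_neg (by omega), if_neg (by omega)]))
      (x.B_span_eq_zero (by rintro _ ⟨i, rfl⟩; rw [hs, hP, if_neg (by omega), if_neg (by omega)]))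
      (x.B_span_eq_zero (by rintro _ ⟨i, rfl⟩; rw [hs, hP, if_neg (by omega), if_neg (by omega)]))
      (by rw [hP, if_pos (by omega)]) (by rw [hfin, hd])]
    rw [hfin, x.Q_dvec, x.Q_dvec, hl, hl, if_neg (by omega), if_pos rfl, if_pos rfl, mul_one, psi_bv]
    cases b <;> simp [Piece.half, Piece.par]
  | e k =>
    obtain ⟨hd, u, v, hu, hv, hlu, hlv, hP, hR⟩ := hx
    have hUV : ∀ d e, x.B (x.dvec u d) (x.dvec v e) = if d + e = 2 * k + 1 then 1 else 0 := by
      intro d e
      rw [x.B_dvec]
      rcases Nat.even_or_odd' (d + e) with ⟨i, hi | hi⟩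
      · rw [hi, if_pos (even_two_mul i), hP, if_neg (by omega)]
      · rw [hi, if_neg (Nat.not_even_two_mul_add_one i), hP, hR, show (2 * i + 1) / 2 = i by omega]
        simp only [ite_self, zero_add]
        exact if_congr (by omega) rfl rfl
    have hUU : ∀ d e, x.B (x.dvec u d) (x.dvec u e) = 0 := by
      intro d e
      rw [x.B_dvec, hB0, hB0, ← x.lev_succ, hlu]
      simp
    set s : Fin (2 * k + 1) → V := fun i => x.dvec u (1 + i) with hs
    have hli : LinearIndependent F s :=
      x.li_dvec (x.frameE hu hv (hlu _) (hlv _) (by rw [hR, if_pos rfl])) (fun _ : Fin (2 * k + 1) => (0 : Fin 2))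
        (fun i => 1 + i) (fun i => by omega) fun i j h => by
          simp only [Prod.mk.injEq, true_and] at h; exact Fin.ext (by omega)
    have hfin : finrank F (Submodule.span F (Set.range s)) = 2 * k + 1 := by
      rw [finrank_span_eq_card hli, Fintype.card_fin]
    rw [x.gs_lagr (Submodule.span F (Set.range s)) (x.dvec u 0) (x.dvec v (2 * k + 1))
      (x.Q_span_eq_zero (by rintro _ ⟨i, rfl⟩; rw [hs, x.Q_dvec, hlu])
        (by rintro _ ⟨i, rfl⟩ _ ⟨j, rfl⟩; exact hUU _ _))
      (x.B_span_eq_zero (by rintro _ ⟨i, rfl⟩; exact hUU _ _))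
      (x.B_span_eq_zero (by rintro _ ⟨i, rfl⟩; rw [hs, hUV, if_neg (by omega)]))
      (by rw [hUV, if_pos (by omega)]) (by rw [hfin, hd])]
    rw [hfin, x.Q_dvec, hlu, zero_mul, psi_zero]
    simp [Piece.half, Piece.par]
  | o k b =>
    obtain ⟨hd, u, v, hu, hv, hlu, hlv, hP, hR⟩ := hx
    have hUV : ∀ d e, 2 * k ≤ d + e → x.B (x.dvec u d) (x.dvec v e) = if d + e = 2 * k then 1 else 0 := by
      intro d e hde
      rw [x.B_dvec]
      rcases Nat.even_or_odd' (d + e) with ⟨i, hi | hi⟩
      · rw [hi, if_pos (even_two_mul i), hP, show 2 * i / 2 = i by omega]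
        exact if_congr (by omega) rfl rfl
      · rw [hi, if_neg (Nat.not_even_two_mul_add_one i), hP, hR, if_neg (show ¬ (2 * i + 1 + 1) / 2 = k by omega),
          if_neg (show ¬ 2 * i + 1 = 2 * k by omega)]
        simp
    have hself : ∀ (w : V) (c : F), (∀ j, x.lev j w = if j = k then c else 0) → ∀ d e, 2 * k ≤ d + e →
        x.B (x.dvec w d) (x.dvec w e) = 0 := by
      intro w c hw d e hde
      rw [x.B_dvec, hB0, hB0, ← x.lev_succ, hw]
      split_ifs <;> first | rfl | (simp only [add_zero]) | (exfalso; rw [Nat.even_iff] at *; omega)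
    have hlu' : ∀ j, x.lev j u = if j = k then (if b then 1 else 0) else 0 := fun j => by
      rw [hlu]; cases b <;> simp
    have hUU := hself u _ hlu'
    have hVV := hself v _ hlv
    have hVU : ∀ d e, 2 * k ≤ d + e → x.B (x.dvec v d) (x.dvec u e) = if d + e = 2 * k then 1 else 0 := fun d e h => by
      rw [x.B_comm, hUV e d (by omega), add_comm]
    set s : Fin k ⊕ Fin k → V := Sum.elim (fun i => x.dvec u (k + 1 + i)) (fun i => x.dvec v (k + 1 + i)) with hs
    have hli : LinearIndependent F s := by
      have h := x.li_dvec (x.frameO hu hv (by rw [hP, if_pos rfl]))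
        (Sum.elim (fun _ : Fin k => (0 : Fin 2)) fun _ : Fin k => 1)
        (Sum.elim (fun i : Fin k => k + 1 + i) fun i => k + 1 + i)
        (fun i => by rcases i with i | i <;> simp <;> omega) (fun i j h => by
          rcases i with i | i <;> rcases j with j | j <;> simp [Fin.ext_iff] at h ⊢ <;> omega)
      convert h using 1
      funext i
      rcases i with i | i <;> rfl
    have hfin : finrank F (Submodule.span F (Set.range s)) = 2 * k := by
      rw [finrank_span_eq_card hli, Fintype.card_sum, Fintype.card_fin]; ring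
    have hpair : ∀ i j, x.B (s i) (s j) = 0 := by
      rintro (i | i) (j | j) <;> simp only [hs, Sum.elim_inl, Sum.elim_inr]
      · exact hUU _ _ (by omega)
      · rw [hUV _ _ (by omega), if_neg (by omega)]
      · rw [hVU _ _ (by omega), if_neg (by omega)]
      · exact hVV _ _ (by omega)
    rw [x.gs_lagr (Submodule.span F (Set.range s)) (x.dvec u k) (x.dvec v k)
      (x.Q_span_eq_zero (by
          rintro _ ⟨i | i, rfl⟩ <;> simp only [hs, Sum.elim_inl, Sum.elim_inr, x.Q_dvec, hlu, hlv]
          · rw [if_neg (fun h => by omega)]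
          · rw [if_neg (by omega)])
        (by rintro _ ⟨i, rfl⟩ _ ⟨j, rfl⟩; exact hpair i j))
      (x.B_span_eq_zero (by
        rintro _ ⟨i | i, rfl⟩ <;> simp only [hs, Sum.elim_inl, Sum.elim_inr]
        · exact hUU _ _ (by omega)
        · rw [hVU _ _ (by omega), if_neg (by omega)]))
      (x.B_span_eq_zero (by
        rintro _ ⟨i | i, rfl⟩ <;> simp only [hs, Sum.elim_inl, Sum.elim_inr]
        · rw [hUV _ _ (by omega), if_neg (by omega)]
        · exact hVV _ _ (by omega)))
      (by rw [hUV _ _ (by omega), if_pos (by omega)]) (by rw [hfin, hd])]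
    rw [hfin, x.Q_dvec, x.Q_dvec, hlu', hlv, if_pos rfl, if_pos rfl]
    cases b <;> simp [Piece.half, Piece.par, psi_zero, psi_bv]

end QUni

/-- The character sum only sees the class. -/
noncomputable def gsMon (a : Mon F) : ℤ :=
  Quotient.liftOn a (fun o => o.2.gs) fun _ _ h => QUni.Iso.gs_eq h

theorem gsMon_cls [FiniteDimensional F V] (x : QUni F V) : gsMon (cls x) = x.gs :=
  QUni.Iso.gs_eq (x.pull_iso _)

theorem gsMon_zero : gsMon (0 : Mon F) = 1 := by
  show gsMon (cls (QUni.zero F (Fin 0 → F))) = 1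
  rw [gsMon_cls, QUni.gs, gauss, finsum_eq_sum_of_fintype]
  simp [QUni.zero, psi_zero]

theorem gsMon_add (a b : Mon F) : gsMon (a + b) = gsMon a * gsMon b := by
  obtain ⟨_, a, rfl⟩ := exists_cls_eq a
  obtain ⟨_, b, rfl⟩ := exists_cls_eq b
  haveI := Fintype.ofFinite F
  rw [cls_prod, gsMon_cls, gsMon_cls, gsMon_cls, QUni.gs_prod]

/-- The sign of a parity. -/
def parSign (c : ZMod 2) : ℤ := if c = 1 then -1 else 1

theorem parSign_add (a b : ZMod 2) : parSign (a + b) = parSign a * parSign b := by
  revert a b; decide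

theorem parSign_injective : Function.Injective parSign := by
  intro a b; revert a b; decide

theorem gsMon_val {s : Multiset Piece} (hs : ∀ p ∈ s, Real F p) :
    gsMon (val F s) = (Nat.card F : ℤ) ^ weight s * parSign (par s) := by
  induction s using Multiset.induction_on with
  | empty => simp [val, weight, par, parSign, gsMon_zero]
  | cons p t ih =>
    obtain ⟨d, z, hz, hzc⟩ := (hs p (Multiset.mem_cons_self p t)).exists_rep
    have h := ih fun q hq => hs q (Multiset.mem_cons_of_mem hq)
    simp only [val, weight, par, Multiset.map_cons, Multiset.sum_cons] at h ⊢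
    rw [gsMon_add, h, ← hzc, gsMon_cls, z.gs_isPiece hz, pow_add, parSign_add]
    simp only [parSign]
    ring

theorem gs_of_isDec [FiniteDimensional F V] {x : QUni F V} {s : Multiset Piece} (h : IsDec x s) :
    x.gs = (Nat.card F : ℤ) ^ weight s * parSign (par s) := by
  rw [← gsMon_cls, ← h.1, gsMon_val h.2.1]

end CfsgLib.Char.EvenClass
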