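import Cfsg.Agent.Lib.Char.EvenClass.Uni

/-!
# The monoid of quadratic spaces with a unipotent isometry

Isomorphisms, orthogonal sums, the splitting off of an invariant non-degenerate subspace, and the commutative monoid
of the isomorphism classes; the ranks of `T^a` and `N T^a` are additive.
-/

set_option autoImplicit false
set_option linter.unusedSectionVars false

namespace CfsgLib.Char.EvenClass

open Module

variable {F : Type*} [Field F] [CharP F 2]
variable {V W U : Type*} [AddCommGroup V] [Module F V] [AddCommGroup W] [Module F W] [AddCommGroup U] [Module F U]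

namespace QUni

/-- An isomorphism preserves the isometry and the quadratic form. -/
def Iso (x : QUni F V) (y : QUni F W) : Prop :=
  ∃ φ : V ≃ₗ[F] W, (∀ u, φ (x.g u) = y.g (φ u)) ∧ ∀ u, y.Q (φ u) = x.Q u

/-- An isomorphism of the alternating forms with their isometries. -/
def SIso (x : QUni F V) (y : QUni F W) : Prop :=
  ∃ φ : V ≃ₗ[F] W, (∀ u, φ (x.g u) = y.g (φ u)) ∧ ∀ u v, y.B (φ u) (φ v) = x.B u v

variable {x : QUni F V} {y : QUni F W} {z : QUni F U}

theorem Iso.refl (x : QUni F V) : x.Iso x := ⟨LinearEquiv.refl F V, fun _ => rfl, fun _ => rfl⟩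

theorem Iso.symm (h : x.Iso y) : y.Iso x := by
  obtain ⟨φ, hg, hQ⟩ := h
  refine ⟨φ.symm, fun u => φ.injective ?_, fun u => by rw [← hQ, φ.apply_symm_apply]⟩
  rw [φ.apply_symm_apply, hg, φ.apply_symm_apply]

theorem Iso.trans (h : x.Iso y) (h' : y.Iso z) : x.Iso z := by
  obtain ⟨φ, hg, hQ⟩ := h
  obtain ⟨ψ, hg', hQ'⟩ := h'
  exact ⟨φ.trans ψ, fun u => by simp [hg, hg'], fun u => by simp [hQ, hQ']⟩

theorem B_map {φ : V ≃ₗ[F] W} (hQ : ∀ u, y.Q (φ u) = x.Q u) (u v : V) : y.B (φ u) (φ v) = x.B u v := by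
  have h1 := hQ (u + v)
  rw [map_add, y.Q_add, x.Q_add, hQ, hQ] at h1
  exact add_left_cancel h1

theorem Iso.sIso (h : x.Iso y) : x.SIso y := by
  obtain ⟨φ, hg, hQ⟩ := h
  exact ⟨φ, hg, B_map hQ⟩

theorem SIso.symm (h : x.SIso y) : y.SIso x := by
  obtain ⟨φ, hg, hB⟩ := h
  refine ⟨φ.symm, fun u => φ.injective ?_, fun u v => by rw [← hB, φ.apply_symm_apply, φ.apply_symm_apply]⟩
  rw [φ.apply_symm_apply, hg, φ.apply_symm_apply]

theorem SIso.trans (h : x.SIso y) (h' : y.SIso z) : x.SIso z := by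
  obtain ⟨φ, hg, hB⟩ := h
  obtain ⟨ψ, hg', hB'⟩ := h'
  exact ⟨φ.trans ψ, fun u => by simp [hg, hg'], fun u v => by simp [hB, hB']⟩

theorem map_T {φ : V ≃ₗ[F] W} (hg : ∀ u, φ (x.g u) = y.g (φ u)) (u : V) : φ (x.T u) = y.T (φ u) := by
  have h : φ (x.gi u) = y.gi (φ u) := by
    conv_rhs => rw [← x.g_gi u, hg, y.gi_g]
  rw [T_apply, T_apply, map_add, hg, h]

theorem map_T_pow {φ : V ≃ₗ[F] W} (hg : ∀ u, φ (x.g u) = y.g (φ u)) (a : ℕ) (u : V) :
    φ ((x.T ^ a) u) = (y.T ^ a) (φ u) := by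
  induction a with
  | zero => rfl
  | succ a ih => rw [pow_succ', pow_succ', Module.End.mul_apply, Module.End.mul_apply, map_T hg, ih]

theorem map_N {φ : V ≃ₗ[F] W} (hg : ∀ u, φ (x.g u) = y.g (φ u)) (u : V) : φ (x.N u) = y.N (φ u) := by
  rw [N_apply, N_apply, map_add, hg]

/-- Transport along a linear equivalence. -/
noncomputable def pull (x : QUni F V) (φ : W ≃ₗ[F] V) : QUni F W where
  B := x.B.compl₁₂ φ.toLinearMap φ.toLinearMap
  g := φ.symm.conj x.g
  Q := fun u => x.Q (φ u)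
  alt u := x.alt _
  sep u hu := φ.injective (by
    rw [map_zero]; exact x.sep _ fun v => by simpa using hu (φ.symm v))
  inv u v := by simp [LinearEquiv.conj_apply, x.inv]
  nil := by
    have h : φ.symm.conj x.g + 1 = φ.symm.conjAlgEquiv F (x.g + 1) := by
      rw [map_add, map_one]; rfl
    rw [h]
    exact x.nil.map _
  Q_smul c u := by simp [x.Q_smul]
  Q_add u v := by simp [x.Q_add]
  Q_g u := by simp [LinearEquiv.conj_apply, x.Q_g]

theorem pull_iso (x : QUni F V) (φ : W ≃ₗ[F] V) : (x.pull φ).Iso x :=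
  ⟨φ, fun u => by simp [pull, LinearEquiv.conj_apply], fun _ => rfl⟩

/-- The orthogonal sum. -/
noncomputable def prod (x : QUni F V) (y : QUni F W) : QUni F (V × W) where
  B := x.B.compl₁₂ (LinearMap.fst F V W) (LinearMap.fst F V W) +
    y.B.compl₁₂ (LinearMap.snd F V W) (LinearMap.snd F V W)
  g := x.g.prodMap y.g
  Q := fun u => x.Q u.1 + y.Q u.2
  alt u := by simp [x.alt, y.alt]
  sep u hu := Prod.ext
    (x.sep _ fun v => by simpa using hu (v, 0))
    (y.sep _ fun v => by simpa using hu (0, v))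
  inv u v := by simp [x.inv, y.inv]
  nil := by
    obtain ⟨a, ha⟩ := x.nil
    obtain ⟨b, hb⟩ := y.nil
    have h : x.g.prodMap y.g + 1 = LinearMap.prodMapRingHom F V W (x.g + 1, y.g + 1) := by
      refine LinearMap.ext fun u => Prod.ext ?_ ?_ <;> simp
    refine ⟨a + b, ?_⟩
    rw [h, ← map_pow, Prod.pow_mk, pow_add, pow_add, ha, hb, zero_mul, mul_zero]
    exact map_zero _
  Q_smul c u := by simp [x.Q_smul, y.Q_smul]; ring
  Q_add u v := by simp [x.Q_add, y.Q_add]; ring
  Q_g u := by simp [x.Q_g, y.Q_g]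

variable {V' W' : Type*} [AddCommGroup V'] [Module F V'] [AddCommGroup W'] [Module F W']

theorem Iso.prod {x' : QUni F V'} {y' : QUni F W'} (h : x.Iso x') (h' : y.Iso y') : (x.prod y).Iso (x'.prod y') := by
  obtain ⟨φ, hg, hQ⟩ := h
  obtain ⟨ψ, hg', hQ'⟩ := h'
  exact ⟨φ.prodCongr ψ, fun u => by simp [QUni.prod, hg, hg'], fun u => by simp [QUni.prod, hQ, hQ']⟩

theorem SIso.prod {x' : QUni F V'} {y' : QUni F W'} (h : x.SIso x') (h' : y.SIso y') :
    (x.prod y).SIso (x'.prod y') := by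
  obtain ⟨φ, hg, hQ⟩ := h
  obtain ⟨ψ, hg', hQ'⟩ := h'
  exact ⟨φ.prodCongr ψ, fun u => by simp [QUni.prod, hg, hg'], fun u v => by simp [QUni.prod, hQ, hQ']⟩

theorem prod_comm (x : QUni F V) (y : QUni F W) : (x.prod y).Iso (y.prod x) :=
  ⟨LinearEquiv.prodComm F V W, fun u => by simp [QUni.prod], fun u => by simp [QUni.prod, add_comm]⟩

theorem prod_assoc (x : QUni F V) (y : QUni F W) (z : QUni F U) : ((x.prod y).prod z).Iso (x.prod (y.prod z)) :=
  ⟨LinearEquiv.prodAssoc F V W U, fun u => by simp [QUni.prod],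
    fun u => by simp [QUni.prod, add_assoc]⟩

/-- The zero space. -/
noncomputable def zero (F V : Type*) [Field F] [AddCommGroup V] [Module F V] [Subsingleton V] : QUni F V where
  B := 0
  g := 1
  Q := fun _ => 0
  alt _ := rfl
  sep u _ := Subsingleton.elim u 0
  inv _ _ := rfl
  nil := ⟨1, LinearMap.ext fun _ => Subsingleton.elim _ _⟩
  Q_smul _ _ := (mul_zero _).symm
  Q_add _ _ := by simp
  Q_g _ := rfl

theorem zero_prod [Subsingleton W] (x : QUni F V) (y : QUni F W) : (y.prod x).Iso x := by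
  have hy : ∀ u : W, y.Q u = 0 := fun u => by
    rw [Subsingleton.elim u ((0 : F) • u), y.Q_smul]
    ring
  haveI : Unique W := uniqueOfSubsingleton 0
  exact ⟨LinearEquiv.uniqueProd, fun u => by simp [QUni.prod], fun u => by simp [QUni.prod, hy]⟩

/-! ### invariant subspaces -/

variable [FiniteDimensional F V]

theorem gi_mem (x : QUni F V) {S : Submodule F V} (h : ∀ u ∈ S, x.g u ∈ S) {u : V} (hu : u ∈ S) : x.gi u ∈ S := by
  have hinj : Function.Injective (x.g.restrict h) := fun a b hab => by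
    refine Subtype.ext ?_
    rw [← x.gi_g (a : V), ← x.gi_g (b : V)]
    exact congrArg x.gi (congrArg Subtype.val hab)
  obtain ⟨⟨w, hw⟩, hw'⟩ := LinearMap.surjective_of_injective hinj ⟨u, hu⟩
  rw [← show x.g w = u from congrArg Subtype.val hw', x.gi_g]
  exact hw

/-- The restriction to an invariant non-degenerate subspace. -/
noncomputable def res (x : QUni F V) (S : Submodule F V) (h : ∀ u ∈ S, x.g u ∈ S)
    (hs : ∀ u ∈ S, (∀ v ∈ S, x.B u v = 0) → u = 0) : QUni F S where
  B := x.B.compl₁₂ S.subtype S.subtype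
  g := x.g.restrict h
  Q := fun u => x.Q u
  alt u := x.alt _
  sep u hu := Subtype.ext (hs u u.2 fun v hv => hu ⟨v, hv⟩)
  inv u v := x.inv _ _
  nil := by
    obtain ⟨a, ha⟩ := x.nil
    refine ⟨a, LinearMap.ext fun u => Subtype.ext ?_⟩
    have e : ∀ (k : ℕ) (u : S), (((x.g.restrict h + 1) ^ k) u : V) = ((x.g + 1) ^ k) u := by
      intro k
      induction k with
      | zero => intro u; rfl
      | succ k ih =>
        intro u
        rw [pow_succ, pow_succ, Module.End.mul_apply, Module.End.mul_apply, ih]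
        rfl
    rw [e, ha]
    rfl
  Q_smul c u := x.Q_smul c _
  Q_add u v := x.Q_add _ _
  Q_g u := x.Q_g _

theorem isRefl (x : QUni F V) : x.B.IsRefl := fun u v h => by rw [x.B_comm]; exact h

theorem orth_invariant (x : QUni F V) {S : Submodule F V} (h : ∀ u ∈ S, x.g u ∈ S) :
    ∀ u ∈ x.B.orthogonal S, x.g u ∈ x.B.orthogonal S := by
  intro u hu n hn
  show x.B n (x.g u) = 0
  rw [← x.g_gi n, x.inv]
  exact hu _ (x.gi_mem h hn)

theorem isCompl_orth (x : QUni F V) {S : Submodule F V} (hs : ∀ u ∈ S, (∀ v ∈ S, x.B u v = 0) → u = 0) :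
    IsCompl S (x.B.orthogonal S) := by
  refine (LinearMap.BilinForm.isCompl_orthogonal_iff_disjoint x.isRefl).2 (Submodule.disjoint_def.2 fun u hu hu' => ?_)
  exact hs u hu fun v hv => by rw [x.B_comm]; exact hu' v hv

theorem orth_sep (x : QUni F V) {S : Submodule F V} (hs : ∀ u ∈ S, (∀ v ∈ S, x.B u v = 0) → u = 0) :
    ∀ u ∈ x.B.orthogonal S, (∀ v ∈ x.B.orthogonal S, x.B u v = 0) → u = 0 := by
  intro u hu h
  refine x.sep u fun v => ?_
  obtain ⟨a, ha, b, hb, rfl⟩ := Submodule.mem_sup.1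
    ((x.isCompl_orth hs).sup_eq_top ▸ Submodule.mem_top : v ∈ S ⊔ x.B.orthogonal S)
  rw [map_add, x.B_comm, hu a ha, h b hb, add_zero]

/-- The complement of an invariant non-degenerate subspace. -/
noncomputable def rest (x : QUni F V) (S : Submodule F V) (h : ∀ u ∈ S, x.g u ∈ S)
    (hs : ∀ u ∈ S, (∀ v ∈ S, x.B u v = 0) → u = 0) : QUni F (x.B.orthogonal S) :=
  x.res _ (x.orth_invariant h) (x.orth_sep hs)

theorem split (x : QUni F V) (S : Submodule F V) (h : ∀ u ∈ S, x.g u ∈ S)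
    (hs : ∀ u ∈ S, (∀ v ∈ S, x.B u v = 0) → u = 0) : ((x.res S h hs).prod (x.rest S h hs)).Iso x := by
  refine ⟨Submodule.prodEquivOfIsCompl _ _ (x.isCompl_orth hs), fun u => ?_, fun u => ?_⟩
  · simp [QUni.prod, QUni.rest, QUni.res]
  · simp only [Submodule.coe_prodEquivOfIsCompl', x.Q_add, QUni.prod, QUni.rest, QUni.res]
    rw [show x.B (u.1 : V) (u.2 : V) = 0 from u.2.2 _ u.1.2, add_zero]

/-! ### ranks -/

/-- The rank of `T^a`. -/
noncomputable def rkT (x : QUni F V) (a : ℕ) : ℕ := finrank F (LinearMap.range (x.T ^ a))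

/-- The rank of `N T^a`. -/
noncomputable def rkN (x : QUni F V) (a : ℕ) : ℕ := finrank F (LinearMap.range (x.N * x.T ^ a))

theorem rkT_eq_zero {x : QUni F V} {a : ℕ} : x.rkT a = 0 ↔ x.T ^ a = 0 := by
  rw [rkT, Submodule.finrank_eq_zero, LinearMap.range_eq_bot]

theorem rkN_eq_zero {x : QUni F V} {a : ℕ} : x.rkN a = 0 ↔ x.N * x.T ^ a = 0 := by
  rw [rkN, Submodule.finrank_eq_zero, LinearMap.range_eq_bot]

theorem Iso.finrank_eq (h : x.Iso y) : finrank F V = finrank F W := by
  obtain ⟨φ, -, -⟩ := h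
  exact φ.finrank_eq

theorem range_eq_of_conj {φ : V ≃ₗ[F] W} {f : Module.End F V} {f' : Module.End F W}
    (h : ∀ u, φ (f u) = f' (φ u)) : finrank F (LinearMap.range f) = finrank F (LinearMap.range f') := by
  have e : (LinearMap.range f).map φ.toLinearMap = LinearMap.range f' := by
    ext w
    constructor
    · rintro ⟨_, ⟨u, rfl⟩, rfl⟩
      exact ⟨φ u, (h u).symm⟩
    · rintro ⟨u, rfl⟩
      exact ⟨f (φ.symm u), ⟨_, rfl⟩, by simp [h]⟩
  rw [← e]
  exact (φ.submoduleMap _).finrank_eq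

theorem SIso.rkT_eq (h : x.SIso y) (a : ℕ) : x.rkT a = y.rkT a := by
  obtain ⟨φ, hg, -⟩ := h
  exact range_eq_of_conj (map_T_pow hg a)

theorem SIso.rkN_eq (h : x.SIso y) (a : ℕ) : x.rkN a = y.rkN a := by
  obtain ⟨φ, hg, -⟩ := h
  exact range_eq_of_conj fun u => by
    rw [Module.End.mul_apply, Module.End.mul_apply, map_N hg, map_T_pow hg]

variable [FiniteDimensional F W]

theorem prod_T (x : QUni F V) (y : QUni F W) (u : V × W) : (x.prod y).T u = (x.T u.1, y.T u.2) := by
  have h : (x.prod y).gi u = (x.gi u.1, y.gi u.2) := by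
    conv_lhs => rw [show u = (x.prod y).g (x.gi u.1, y.gi u.2) by simp [QUni.prod, QUni.g_gi]]
    rw [QUni.gi_g]
  rw [T_apply, h]
  simp [QUni.prod, T_apply]

theorem prod_T_pow (x : QUni F V) (y : QUni F W) (a : ℕ) (u : V × W) :
    ((x.prod y).T ^ a) u = ((x.T ^ a) u.1, (y.T ^ a) u.2) := by
  induction a with
  | zero => rfl
  | succ a ih =>
    rw [pow_succ', pow_succ', pow_succ', Module.End.mul_apply, ih, prod_T, Module.End.mul_apply, Module.End.mul_apply]

theorem range_prod {f : Module.End F (V × W)} {f₁ : Module.End F V} {f₂ : Module.End F W}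
    (h : ∀ u, f u = (f₁ u.1, f₂ u.2)) :
    finrank F (LinearMap.range f) = finrank F (LinearMap.range f₁) + finrank F (LinearMap.range f₂) := by
  rw [show f = f₁.prodMap f₂ from LinearMap.ext h, LinearMap.range_prodMap]
  exact (({ toFun := fun x => (⟨x.1.1, x.2.1⟩, ⟨x.1.2, x.2.2⟩)
            invFun := fun y => ⟨(y.1.1, y.2.1), y.1.2, y.2.2⟩
            map_add' := fun x y => rfl
            map_smul' := fun t x => rfl
            left_inv := fun x => rfl
            right_inv := fun y => rfl } :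
      ((LinearMap.range f₁).prod (LinearMap.range f₂)) ≃ₗ[F]
        (LinearMap.range f₁ × LinearMap.range f₂))).finrank_eq.trans Module.finrank_prod

theorem rkT_prod (x : QUni F V) (y : QUni F W) (a : ℕ) : (x.prod y).rkT a = x.rkT a + y.rkT a :=
  range_prod (prod_T_pow x y a)

theorem rkN_prod (x : QUni F V) (y : QUni F W) (a : ℕ) : (x.prod y).rkN a = x.rkN a + y.rkN a :=
  range_prod fun u => by
    rw [Module.End.mul_apply, prod_T_pow]
    simp [QUni.prod, N_apply, Module.End.mul_apply]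

end QUni

/-! ### the monoid -/

/-- Spaces on standard carriers. -/
abbrev Obj (F : Type*) [Field F] := Σ d : ℕ, QUni F (Fin d → F)

instance objSetoid : Setoid (Obj F) where
  r a b := a.2.Iso b.2
  iseqv := ⟨fun a => QUni.Iso.refl a.2, QUni.Iso.symm, QUni.Iso.trans⟩

/-- The isomorphism classes. -/
def Mon (F : Type*) [Field F] [CharP F 2] := Quotient (objSetoid (F := F))

/-- The class of a space. -/
noncomputable def cls [FiniteDimensional F V] (x : QUni F V) : Mon F :=
  Quotient.mk _ ⟨finrank F V, x.pull (Module.finBasis F V).equivFun.symm⟩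

variable [FiniteDimensional F V] [FiniteDimensional F W] [FiniteDimensional F U]

theorem cls_eq_iff {x : QUni F V} {y : QUni F W} : cls x = cls y ↔ x.Iso y := by
  refine ⟨fun h => ?_, fun h => Quotient.sound ?_⟩
  · exact ((x.pull_iso _).symm.trans (Quotient.exact h)).trans (y.pull_iso _)
  · exact ((x.pull_iso _).trans h).trans (y.pull_iso _).symm

theorem exists_cls_eq (a : Mon F) : ∃ (d : ℕ) (x : QUni F (Fin d → F)), cls x = a := by
  induction a using Quotient.inductionOn with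
  | h a => exact ⟨a.1, a.2, Quotient.sound ((a.2.pull_iso _))⟩

noncomputable instance : Zero (Mon F) := ⟨cls (QUni.zero F (Fin 0 → F))⟩

noncomputable instance : Add (Mon F) :=
  ⟨Quotient.lift₂ (fun a b => cls (a.2.prod b.2)) fun _ _ _ _ h h' => cls_eq_iff.2 (h.prod h')⟩

theorem cls_prod (x : QUni F V) (y : QUni F W) : cls x + cls y = cls (x.prod y) :=
  cls_eq_iff.2 ((x.pull_iso _).prod (y.pull_iso _))

theorem mon_add_assoc (a b c : Mon F) : a + b + c = a + (b + c) := by
  obtain ⟨_, a, rfl⟩ := exists_cls_eq a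
  obtain ⟨_, b, rfl⟩ := exists_cls_eq b
  obtain ⟨_, c, rfl⟩ := exists_cls_eq c
  rw [cls_prod, cls_prod, cls_prod, cls_prod]
  exact cls_eq_iff.2 (a.prod_assoc b c)

theorem mon_add_comm (a b : Mon F) : a + b = b + a := by
  obtain ⟨_, a, rfl⟩ := exists_cls_eq a
  obtain ⟨_, b, rfl⟩ := exists_cls_eq b
  rw [cls_prod, cls_prod]
  exact cls_eq_iff.2 (a.prod_comm b)

theorem mon_zero_add (a : Mon F) : 0 + a = a := by
  obtain ⟨_, a, rfl⟩ := exists_cls_eq a
  show cls (QUni.zero F (Fin 0 → F)) + cls a = _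
  rw [cls_prod]
  exact cls_eq_iff.2 (QUni.zero_prod a _)

noncomputable instance : AddCommMonoid (Mon F) where
  add_assoc := mon_add_assoc
  zero_add := mon_zero_add
  add_zero a := (mon_add_comm a 0).trans (mon_zero_add a)
  add_comm := mon_add_comm
  nsmul := nsmulRec

theorem cls_eq_zero [Subsingleton V] (x : QUni F V) : cls x = 0 := by
  refine cls_eq_iff.2 ?_
  exact ((QUni.zero_prod x (QUni.zero F (Fin 0 → F))).symm.trans
    ((QUni.zero F (Fin 0 → F)).prod_comm x)).trans (QUni.zero_prod _ x)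

theorem cls_split (x : QUni F V) (S : Submodule F V) (h : ∀ u ∈ S, x.g u ∈ S)
    (hs : ∀ u ∈ S, (∀ v ∈ S, x.B u v = 0) → u = 0) : cls (x.res S h hs) + cls (x.rest S h hs) = cls x := by
  rw [cls_prod]
  exact cls_eq_iff.2 (x.split S h hs)

theorem rkT_rest (x : QUni F V) (S : Submodule F V) (h : ∀ u ∈ S, x.g u ∈ S)
    (hs : ∀ u ∈ S, (∀ v ∈ S, x.B u v = 0) → u = 0) (a : ℕ) :
    (x.res S h hs).rkT a + (x.rest S h hs).rkT a = x.rkT a := by
  rw [← QUni.rkT_prod]
  exact (x.split S h hs).sIso.rkT_eq a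

theorem rkN_rest (x : QUni F V) (S : Submodule F V) (h : ∀ u ∈ S, x.g u ∈ S)
    (hs : ∀ u ∈ S, (∀ v ∈ S, x.B u v = 0) → u = 0) (a : ℕ) :
    (x.res S h hs).rkN a + (x.rest S h hs).rkN a = x.rkN a := by
  rw [← QUni.rkN_prod]
  exact (x.split S h hs).sIso.rkN_eq a

end CfsgLib.Char.EvenClass
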