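import Cfsg.Agent.Lib.Char.EvenClass.Frame

/-!
# Normal generators

Generators of the three kinds of pieces can be changed into standard ones, with one bit for `V (2h)` and for
`W (2h+1)`.
-/

set_option autoImplicit false
set_option linter.unusedSectionVars false

open scoped Classical

namespace CfsgLib.Char.EvenClass

variable {F : Type*} [Field F] [CharP F 2] [Finite F]
variable {V : Type*} [AddCommGroup V] [Module F V]

/-- The image of `c ↦ c² + c`. -/
def InWp (a : F) : Prop := ∃ c : F, c ^ 2 + c = a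

/-- The bit of a scalar. -/
noncomputable def cb (a : F) : Bool := decide ¬ InWp a

/-- The map `c ↦ c² + c`. -/
def wpHom (F : Type*) [Field F] [CharP F 2] : F →+ F where
  toFun c := c ^ 2 + c
  map_zero' := by simp
  map_add' a b := by
    have h : (a + b) ^ 2 = a ^ 2 + b ^ 2 := CharTwo.add_sq a b
    rw [h]; ring

theorem exists_not_inWp : ∃ a : F, ¬ InWp a := by
  by_contra h
  push Not at h
  have hs : Function.Surjective (wpHom F) := fun a => h a
  have hi := Finite.injective_iff_surjective.2 hs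
  have h1 : wpHom F 1 = wpHom F 0 := by
    simp [wpHom, CharTwo.add_self_eq_zero]
  exact one_ne_zero (hi h1)

/-- A fixed scalar with bit one. -/
noncomputable def al (F : Type*) [Field F] [CharP F 2] [Finite F] : F := Classical.choose (exists_not_inWp (F := F))

theorem al_not_inWp : ¬ InWp (al F) := Classical.choose_spec (exists_not_inWp (F := F))

/-- The representative of a bit. -/
noncomputable def bv (F : Type*) [Field F] [CharP F 2] [Finite F] (b : Bool) : F := if b then al F else 0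

theorem inWp_add {a b : F} (ha : InWp a) (hb : InWp b) : InWp (a + b) := by
  obtain ⟨c, rfl⟩ := ha
  obtain ⟨d, rfl⟩ := hb
  exact ⟨c + d, (wpHom F).map_add c d⟩

theorem inWp_sq_add (c : F) : InWp (c ^ 2 + c) := ⟨c, rfl⟩

theorem inWp_add_al {a : F} (ha : ¬ InWp a) : InWp (a + al F) := by
  haveI := Fintype.ofFinite F
  set R : AddSubgroup F := (wpHom F).range with hR
  have hker : Nat.card (wpHom F).ker ≤ 2 := by
    have hsub : ((wpHom F).ker : Set F) ⊆ {0, 1} := by
      intro c hc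
      have h0 : c * (c + 1) = 0 := by
        have : c ^ 2 + c = 0 := hc
        rw [← this]; ring
      rcases mul_eq_zero.1 h0 with h | h
      · exact Or.inl h
      · exact Or.inr (Set.mem_singleton_iff.2 (CharTwo.add_eq_zero.1 h))
    refine le_trans (Nat.card_mono (Set.toFinite _) hsub) ?_
    rw [Nat.card_coe_set_eq]
    exact le_trans (Set.ncard_insert_le _ _) (by simp)
  have hidx : R.index ≤ 2 := by
    rw [hR, AddSubgroup.index_range]
    exact hker
  by_contra hcon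
  have hinR : ∀ b, InWp b ↔ b ∈ R := fun b => Iff.rfl
  have h3 : ({(QuotientAddGroup.mk 0 : F ⧸ R), QuotientAddGroup.mk a, QuotientAddGroup.mk (al F)} :
      Finset (F ⧸ R)).card = 3 := by
    have e : ∀ b c : F, (QuotientAddGroup.mk b : F ⧸ R) = QuotientAddGroup.mk c ↔ InWp (b + c) := fun b c => by
      rw [QuotientAddGroup.eq, CharTwo.neg_eq, hinR]
    refine Finset.card_eq_three.2 ⟨_, _, _, ?_, ?_, ?_, rfl⟩
    · rw [Ne, e, zero_add]; exact ha
    · rw [Ne, e, zero_add]; exact al_not_inWp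
    · rw [Ne, e]; exact hcon
  haveI := Fintype.ofFinite (F ⧸ R)
  have := Finset.card_le_univ ({(QuotientAddGroup.mk 0 : F ⧸ R), QuotientAddGroup.mk a, QuotientAddGroup.mk (al F)} :
      Finset (F ⧸ R))
  rw [h3, ← Nat.card_eq_fintype_card, ← AddSubgroup.index_eq_card] at this
  omega

theorem exists_shift (a : F) : ∃ c : F, a + (c ^ 2 + c) = bv F (cb a) := by
  by_cases h : InWp a
  · obtain ⟨c, rfl⟩ := h
    refine ⟨c, ?_⟩
    simp [cb, bv, inWp_sq_add, CharTwo.add_self_eq_zero]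
  · obtain ⟨c, hc⟩ := inWp_add_al h
    refine ⟨c, ?_⟩
    simp only [cb, bv, h, not_false_iff, decide_true, if_true]
    rw [hc, ← add_assoc, CharTwo.add_self_eq_zero, zero_add]

theorem cb_add_shift (a c : F) : cb (a + (c ^ 2 + c)) = cb a := by
  have : InWp (a + (c ^ 2 + c)) ↔ InWp a := by
    refine ⟨fun h => ?_, fun h => inWp_add h (inWp_sq_add c)⟩
    have := inWp_add h (inWp_sq_add c)
    rwa [add_assoc, CharTwo.add_self_eq_zero, add_zero] at this
  simp [cb, this]

theorem cb_bv (b : Bool) : cb (bv F b) = b := by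
  cases b
  · simp [cb, bv, show InWp (0 : F) from ⟨0, by simp⟩]
  · simp [cb, bv, al_not_inWp]

theorem exists_sqrt (a : F) : ∃ c : F, c ^ 2 = a := by
  obtain ⟨c, hc⟩ := FiniteField.isSquare_of_char_two (ringChar.eq F 2) a
  exact ⟨c, by rw [hc, sq]⟩

theorem descend {α : Type*} (P : ℕ → α → Prop) (h : ℕ) (hstep : ∀ t < h, ∀ a, P (t + 1) a → ∃ b, P t b) :
    ∀ a, P h a → ∃ b, P 0 b := by
  induction h with
  | zero => exact fun a ha => ⟨a, ha⟩
  | succ h ih =>
    intro a ha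
    obtain ⟨b, hb⟩ := hstep h (Nat.lt_succ_self h) a ha
    exact ih (fun t ht => hstep t (ht.trans (Nat.lt_succ_self h))) b hb

namespace QUni

variable (x : QUni F V)

/-- A standard generator of `V (2h)`, `h = k + 1`. -/
def StdV (k : ℕ) (b : Bool) (u : V) : Prop :=
  (x.T ^ (k + 1)) u = 0 ∧ ∀ j, x.lev j u = if j = k + 1 then 1 else if j = k then bv F b else 0

/-- Standard generators of `W (2h)`, `h = k + 1`. -/
def StdE (k : ℕ) (u v : V) : Prop :=
  (x.T ^ (k + 1)) u = 0 ∧ (x.T ^ (k + 1)) v = 0 ∧ (∀ j, x.lev j u = 0) ∧ (∀ j, x.lev j v = 0) ∧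
    (∀ i, x.B ((x.T ^ i) u) v = 0) ∧ ∀ i, x.B (x.N ((x.T ^ i) u)) v = if i = k then 1 else 0

/-- Standard generators of `W (2h+1)`, `h = k`. -/
def StdO (k : ℕ) (b : Bool) (u v : V) : Prop :=
  x.N ((x.T ^ k) u) = 0 ∧ x.N ((x.T ^ k) v) = 0 ∧ (∀ j, x.lev j u = if j = k ∧ b = true then 1 else 0) ∧
    (∀ j, x.lev j v = if j = k then bv F b else 0) ∧
    (∀ i, x.B ((x.T ^ i) u) v = if i = k then 1 else 0) ∧ ∀ i, x.B (x.N ((x.T ^ i) u)) v = 0

theorem lev_add_smul (j : ℕ) (c : F) (u w : V) :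
    x.lev j (u + c • w) = x.lev j u + c ^ 2 * x.lev j w + c * x.B ((x.T ^ j) u) w := by
  rw [x.lev_add, x.lev_smul, map_smul, smul_eq_mul]

theorem B_T_NT_self (i e : ℕ) (u : V) : x.B ((x.T ^ i) u) (x.N ((x.T ^ e) u)) = x.lev (i + e + 1) u := by
  rw [x.B_T_NT, x.B_T_pow_self, zero_add, lev_succ]

theorem T_pow_succ_zero {u : V} {k : ℕ} (hu : x.N ((x.T ^ k) u) = 0) : (x.T ^ (k + 1)) u = 0 := by
  have h := congrArg (fun z => x.N z) hu
  simp only [map_zero, x.NN_apply] at h
  rw [hu, map_zero, add_zero] at h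
  rw [pow_succ', Module.End.mul_apply, h]

theorem exists_stdV {k : ℕ} {u : V} (hu : (x.T ^ (k + 1)) u = 0) (hl : x.lev (k + 1) u ≠ 0) :
    ∃ u', x.StdV k (cb (x.lev k u / x.lev (k + 1) u)) u' := by
  obtain ⟨s, hs⟩ := exists_sqrt (x.lev (k + 1) u)⁻¹
  set a := x.lev k u / x.lev (k + 1) u with ha
  obtain ⟨c, hc⟩ := exists_shift a
  set u₁ := s • u with hu₁
  have hu₁T : (x.T ^ (k + 1)) u₁ = 0 := by rw [hu₁, map_smul, hu, smul_zero]
  have h1 : x.lev (k + 1) u₁ = 1 := by rw [hu₁, x.lev_smul, hs, inv_mul_cancel₀ hl]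
  have h1' : x.lev k u₁ = a := by rw [hu₁, x.lev_smul, hs, ha, div_eq_inv_mul]
  set u₂ := u₁ + c • x.N u₁ with hu₂
  let P : ℕ → V → Prop := fun t w => (x.T ^ (k + 1)) w = 0 ∧
    ∀ j, t ≤ j → x.lev j w = if j = k + 1 then 1 else if j = k then bv F (cb a) else 0
  have hbase : P k u₂ := by
    refine ⟨by simp only [hu₂, map_add, map_smul, x.T_pow_N, hu₁T, map_zero, smul_zero, add_zero], fun j hj => ?_⟩
    have e : x.lev j u₂ = x.lev j u₁ + c ^ 2 * x.lev (j + 1) u₁ + c * x.lev (j + 1) u₁ := by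
      rw [hu₂, x.lev_add_smul, x.lev_N]
      have := x.B_T_NT_self j 0 u₁
      rw [pow_zero, Module.End.one_apply, add_zero] at this
      rw [this]
    rw [e]
    rcases Nat.lt_or_ge k j with hj' | hj'
    · rcases eq_or_ne j (k + 1) with rfl | hne
      · rw [x.lev_eq_zero hu₁T (show k + 1 < k + 1 + 1 by omega), h1, if_pos rfl]; ring
      · rw [if_neg hne, if_neg (by omega), x.lev_eq_zero hu₁T (show k + 1 < j by omega),
          x.lev_eq_zero hu₁T (show k + 1 < j + 1 by omega)]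
        ring
    · obtain rfl : j = k := le_antisymm hj' hj
      rw [if_neg (by omega), if_pos rfl, h1', h1, ← hc]; ring
  have hstep : ∀ t < k, ∀ w, P (t + 1) w → ∃ w', P t w' := by
    rintro t ht w ⟨hwT, hw⟩
    set d := x.lev t w
    refine ⟨w + d • x.N ((x.T ^ (k - t)) w), ?_, fun j hj => ?_⟩
    · rw [map_add, map_smul, hwT, x.T_pow_N, x.T_pow_T_pow, x.T_pow_apply_zero hwT (by omega), map_zero, smul_zero,
        add_zero]
    · have htop : x.lev (k + 1) w = 1 := (hw _ (by omega)).trans (if_pos rfl)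
      rw [x.lev_add_smul, x.lev_N, x.lev_T_pow, x.B_T_NT_self, x.lev_eq_zero hwT (show k + 1 < j + 1 + 2 * (k - t) by omega)]
      rcases eq_or_lt_of_le hj with rfl | hj'
      · rw [show t + (k - t) + 1 = k + 1 by omega, htop, if_neg (by omega), if_neg (by omega)]
        simp [d, CharTwo.add_self_eq_zero]
      · rw [x.lev_eq_zero hwT (show k + 1 < j + (k - t) + 1 by omega), hw j hj']
        ring
  obtain ⟨w, hw⟩ := descend P k hstep u₂ hbase
  exact ⟨w, hw.1, fun j => hw.2 j (Nat.zero_le j)⟩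

theorem exists_stdE {k : ℕ} {u v : V} (hu : (x.T ^ (k + 1)) u = 0) (hv : (x.T ^ (k + 1)) v = 0)
    (hlu : x.lev (k + 1) u = 0) (hlv : x.lev (k + 1) v = 0) (htop : x.B (x.N ((x.T ^ k) u)) v = 1) :
    ∃ u' v', x.StdE k u' v' := by
  have kill : ∀ {w : V} (e : ℕ), (x.T ^ (k + 1)) w = 0 → (x.T ^ (k + 1)) (x.N ((x.T ^ e) w)) = 0 := by
    intro w e hw
    rw [x.T_pow_N, x.T_pow_T_pow, x.T_pow_apply_zero hw (by omega), map_zero]
  -- first the levels of `u`
  let P : ℕ → V → Prop := fun t w => (x.T ^ (k + 1)) w = 0 ∧ x.B (x.N ((x.T ^ k) w)) v = 1 ∧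
    ∀ j, t ≤ j → x.lev j w = 0
  have hPbase : P (k + 1) u := ⟨hu, htop, fun j hj => by
    rcases eq_or_lt_of_le hj with rfl | h
    · exact hlu
    · exact x.lev_eq_zero hu h⟩
  have hPstep : ∀ t < k + 1, ∀ w, P (t + 1) w → ∃ w', P t w' := by
    rintro t ht w ⟨hwT, hwtop, hw⟩
    set c := x.lev t w
    refine ⟨w + c • x.N ((x.T ^ (k - t)) v), ?_, ?_, fun j hj => ?_⟩
    · rw [map_add, map_smul, hwT, kill _ hv, smul_zero, add_zero]
    · have hz : x.N ((x.T ^ k) (x.N ((x.T ^ (k - t)) v))) = 0 := by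
        rw [x.T_pow_N, x.T_pow_T_pow, ← x.T_pow_N, ← x.T_pow_N]
        refine x.T_pow_apply_zero ?_ (show k ≤ k + (k - t) by omega)
        rw [x.NN_apply, map_add, ← Module.End.mul_apply, ← Module.End.mul_apply (x.T ^ k) x.T, ← pow_succ, hv,
          x.T_pow_N, hv, map_zero, add_zero]
      rw [map_add, map_smul, map_add, map_smul, map_add, map_smul, LinearMap.add_apply, LinearMap.smul_apply, hwtop,
        hz, map_zero, LinearMap.zero_apply, smul_zero, add_zero]
    · rw [x.lev_add_smul, x.lev_N, x.lev_T_pow, x.B_T_NT]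
      have h2 : x.lev (j + 1 + 2 * (k - t)) v = 0 := by
        rcases eq_or_lt_of_le (show k + 1 ≤ j + 1 + 2 * (k - t) by omega) with h | h
        · rw [← h, hlv]
        · exact x.lev_eq_zero hv h
      rw [h2, x.T_pow_apply_zero hwT (show k + 1 ≤ j + (k - t) + 1 by omega), map_zero, LinearMap.zero_apply]
      rcases eq_or_lt_of_le hj with rfl | hj'
      · rw [show t + (k - t) = k by omega, hwtop]
        simp [c, CharTwo.add_self_eq_zero]
      · rw [x.T_pow_apply_zero hwT (show k + 1 ≤ j + (k - t) by omega), map_zero, map_zero, LinearMap.zero_apply,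
          hw j hj']
        ring
  obtain ⟨w, hwT, hwtop, hw⟩ := descend P (k + 1) hPstep u hPbase
  -- then the second generator
  let R : ℕ → V → Prop := fun t z => (x.T ^ (k + 1)) z = 0 ∧ x.lev (k + 1) z = 0 ∧ x.B (x.N ((x.T ^ k) w)) z = 1 ∧
    (∀ j, t ≤ j → x.lev j z = 0) ∧ (∀ i, t ≤ i → x.B ((x.T ^ i) w) z = 0) ∧
    ∀ i, t ≤ i → x.B (x.N ((x.T ^ i) w)) z = if i = k then 1 else 0
  have hRbase : R (k + 1) v := by
    refine ⟨hv, hlv, hwtop, fun j hj => ?_, fun i hi => ?_, fun i hi => ?_⟩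
    · rcases eq_or_lt_of_le hj with rfl | h
      · exact hlv
      · exact x.lev_eq_zero hv h
    · rw [x.T_pow_apply_zero hwT hi, map_zero, LinearMap.zero_apply]
    · rw [if_neg (by omega), x.T_pow_apply_zero hwT hi, map_zero, map_zero, LinearMap.zero_apply]
  have hRstep : ∀ t < k + 1, ∀ z, R (t + 1) z → ∃ z', R t z' := by
    rintro t ht z ⟨hzT, hzl, hztop, hz1, hz2, hz3⟩
    have hzero : ∀ i, k + 1 ≤ i → (x.T ^ i) w = 0 := fun i hi => x.T_pow_apply_zero hwT hi
    -- (a) `R_t`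
    set d := if t = k then 0 else x.B (x.N ((x.T ^ t) w)) z with hd
    set z₁ := z + d • (x.T ^ (k - t)) z with hz₁
    have a3 : ∀ i, t ≤ i → x.B (x.N ((x.T ^ i) w)) z₁ = if i = k then 1 else 0 := by
      intro i hi
      rw [hz₁, map_add, map_smul, smul_eq_mul, x.B_NT_T, hd]
      by_cases htk : t = k
      · rw [if_pos htk, zero_mul, add_zero]
        rcases eq_or_lt_of_le hi with rfl | h
        · rw [if_pos htk, htk, hztop]
        · exact hz3 i h
      · rw [if_neg htk]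
        rcases eq_or_lt_of_le hi with rfl | h
        · rw [show t + (k - t) = k by omega, hztop, mul_one, CharTwo.add_self_eq_zero, if_neg htk]
        · rw [hzero (i + (k - t)) (by omega), map_zero, map_zero, LinearMap.zero_apply, mul_zero, add_zero, hz3 i h]
    have a2 : ∀ i, t + 1 ≤ i → x.B ((x.T ^ i) w) z₁ = 0 := fun i hi => by
      rw [hz₁, map_add, map_smul, smul_eq_mul, x.B_T_N, hzero (i + (k - t)) (by omega), map_zero, LinearMap.zero_apply,
        mul_zero, add_zero, hz2 i hi]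
    have a1 : ∀ j, t + 1 ≤ j → x.lev j z₁ = 0 := fun j hj => by
      rw [hz₁, x.lev_add_smul, x.lev_T_pow, x.B_T_N, x.B_T_pow_self, mul_zero, add_zero, hz1 j hj,
        hz1 (j + 2 * (k - t)) (by omega), mul_zero, add_zero]
    have aT : (x.T ^ (k + 1)) z₁ = 0 := by
      rw [hz₁, map_add, map_smul, hzT, x.T_pow_T_pow, x.T_pow_apply_zero hzT (by omega), smul_zero, add_zero]
    -- (b) `lev_t`
    set c := x.lev t z₁ with hc
    set z₂ := z₁ + c • x.N ((x.T ^ (k - t)) w) with hz₂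
    have b1 : ∀ j, t ≤ j → x.lev j z₂ = 0 := by
      intro j hj
      have e : x.B ((x.T ^ j) z₁) (x.N ((x.T ^ (k - t)) w)) = x.B (x.N ((x.T ^ (j + (k - t))) w)) z₁ := by
        rw [x.B_comm, x.B_NT_T, add_comm]
      rw [hz₂, x.lev_add_smul, x.lev_N, x.lev_T_pow, hw _ (Nat.zero_le _), mul_zero, add_zero, e]
      rcases eq_or_lt_of_le hj with rfl | hj'
      · rw [show t + (k - t) = k by omega, a3 k (by omega), if_pos rfl, mul_one, hc, CharTwo.add_self_eq_zero]
      · rw [hzero (j + (k - t)) (by omega), map_zero, map_zero, LinearMap.zero_apply, mul_zero, add_zero, a1 j hj']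
    have b2 : ∀ i, x.B ((x.T ^ i) w) z₂ = x.B ((x.T ^ i) w) z₁ := fun i => by
      rw [hz₂, map_add, map_smul, x.B_T_NT_self, hw _ (Nat.zero_le _), smul_zero, add_zero]
    have b3 : ∀ i, x.B (x.N ((x.T ^ i) w)) z₂ = x.B (x.N ((x.T ^ i) w)) z₁ := fun i => by
      rw [hz₂, map_add, map_smul, x.B_NT_NT, x.B_T_pow_self, smul_zero, add_zero]
    have bT : (x.T ^ (k + 1)) z₂ = 0 := by rw [hz₂, map_add, map_smul, aT, kill _ hwT, smul_zero, add_zero]
    -- (c) `P_t`
    set d' := x.B ((x.T ^ t) w) z₂ with hd'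
    refine ⟨z₂ + d' • x.N ((x.T ^ (k - t)) z₂), ?_, ?_, ?_, ?_, ?_, ?_⟩
    · rw [map_add, map_smul, bT, kill _ bT, smul_zero, add_zero]
    · rw [x.lev_add_smul, x.lev_N, x.lev_T_pow, x.B_T_NT_self,
        x.lev_eq_zero bT (show k + 1 < k + 1 + 1 + 2 * (k - t) by omega),
        x.lev_eq_zero bT (show k + 1 < k + 1 + (k - t) + 1 by omega), b1 (k + 1) (by omega)]
      ring
    · rw [map_add, map_smul, x.B_NT_NT, hzero (k + (k - t) + 1) (by omega), map_zero, LinearMap.zero_apply, smul_zero,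
        add_zero, b3, a3 k (by omega), if_pos rfl]
    · intro j hj
      rw [x.lev_add_smul, x.lev_N, x.lev_T_pow, x.B_T_NT_self, b1 j hj, b1 _ (by omega), b1 _ (by omega)]
      ring
    · intro i hi
      rw [map_add, map_smul, smul_eq_mul, x.B_T_NT, hzero (i + (k - t) + 1) (by omega), map_zero, LinearMap.zero_apply,
        zero_add]
      rcases eq_or_lt_of_le hi with rfl | hi'
      · rw [show t + (k - t) = k by omega, b3, a3 k (by omega), if_pos rfl, mul_one, ← hd', CharTwo.add_self_eq_zero]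
      · rw [hzero (i + (k - t)) (by omega), map_zero, map_zero, LinearMap.zero_apply, mul_zero, add_zero, b2, a2 i hi']
    · intro i hi
      rw [map_add, map_smul, x.B_NT_NT, hzero (i + (k - t) + 1) (by omega), map_zero, LinearMap.zero_apply, smul_zero,
        add_zero, b3, a3 i hi]
  obtain ⟨z, hzT, -, -, hz1, hz2, hz3⟩ := descend R (k + 1) hRstep v hRbase
  exact ⟨w, z, hwT, hzT, fun j => hw j (Nat.zero_le j), fun j => hz1 j (Nat.zero_le j),
    fun i => hz2 i (Nat.zero_le i), fun i => hz3 i (Nat.zero_le i)⟩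

theorem exists_top_plane {k : ℕ} {u v : V} (hu : x.N ((x.T ^ k) u) = 0) (hv : x.N ((x.T ^ k) v) = 0)
    (htop : x.B ((x.T ^ k) u) v = 1) :
    ∃ (b : Bool) (u' v' : V), (x.lev k u = 0 → b = false) ∧ x.N ((x.T ^ k) u') = 0 ∧ x.N ((x.T ^ k) v') = 0 ∧ x.B ((x.T ^ k) u') v' = 1 ∧
      x.lev k u' = (if b = true then 1 else 0) ∧ x.lev k v' = bv F b := by
  by_cases hp : x.lev k u = 0
  · set r := x.lev k v
    refine ⟨false, u, v + r • u, fun _ => rfl, hu, ?_, ?_, by simp [hp], ?_⟩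
    · simp [map_add, map_smul, hu, hv]
    · rw [map_add, map_smul, x.B_T_pow_self, smul_zero, add_zero, htop]
    · have h1 : x.B ((x.T ^ k) v) u = 1 := by rw [x.B_T_pow, x.B_comm]; exact htop
      rw [x.lev_add_smul, hp, h1]
      simp [bv, r, CharTwo.add_self_eq_zero]
  · obtain ⟨s, hs⟩ := exists_sqrt (x.lev k u)⁻¹
    have hs0 : s ≠ 0 := fun h => hp (by
      have : (x.lev k u)⁻¹ = 0 := by rw [← hs, h]; ring
      exact inv_eq_zero.1 this)
    set u₁ := s • u
    set v₁ := s⁻¹ • v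
    have h1 : x.lev k u₁ = 1 := by rw [x.lev_smul, hs, inv_mul_cancel₀ hp]
    have h2 : x.B ((x.T ^ k) u₁) v₁ = 1 := by
      simp [u₁, v₁, htop, hs0]
    have hu₁ : x.N ((x.T ^ k) u₁) = 0 := by simp [u₁, hu]
    have hv₁ : x.N ((x.T ^ k) v₁) = 0 := by simp [v₁, hv]
    obtain ⟨c, hc⟩ := exists_shift (x.lev k v₁)
    set v₂ := v₁ + c • u₁
    have hv₂ : x.N ((x.T ^ k) v₂) = 0 := by simp [v₂, hu₁, hv₁]
    have h3 : x.lev k v₂ = bv F (cb (x.lev k v₁)) := by
      have h : x.B ((x.T ^ k) v₁) u₁ = 1 := by rw [x.B_T_pow, x.B_comm]; exact h2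
      rw [x.lev_add_smul, h1, h, ← hc]; ring
    have h4 : x.B ((x.T ^ k) u₁) v₂ = 1 := by
      simp only [v₂, map_add, map_smul, x.B_T_pow_self, smul_zero, add_zero, h2]
    cases hb : cb (x.lev k v₁) with
    | true => exact ⟨true, u₁, v₂, fun h => absurd h hp, hu₁, hv₂, h4, by simpa using h1, by rw [h3, hb]⟩
    | false =>
      have h5 : x.lev k v₂ = 0 := by rw [h3, hb]; rfl
      refine ⟨false, u₁ + v₂, v₂, fun _ => rfl, by simp [hu₁, hv₂], hv₂, ?_, ?_, by rw [h5]; rfl⟩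
      · simp only [map_add, LinearMap.add_apply, x.B_T_pow_self, add_zero, h4]
      · rw [x.lev_add, h1, h5, h4, add_zero, CharTwo.add_self_eq_zero]
        rfl

theorem exists_stdO_aux {k : ℕ} {b : Bool} {u v : V} (hu : x.N ((x.T ^ k) u) = 0) (hv : x.N ((x.T ^ k) v) = 0)
    (htop : x.B ((x.T ^ k) u) v = 1) (hlu : x.lev k u = if b = true then 1 else 0) (hlv : x.lev k v = bv F b) :
    ∃ u' v' : V, x.StdO k b u' v' := by
  have killT : ∀ {w : V}, x.N ((x.T ^ k) w) = 0 → ∀ i, k + 1 ≤ i → (x.T ^ i) w = 0 := fun hw i hi =>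
    x.T_pow_apply_zero (x.T_pow_succ_zero hw) hi
  have killN : ∀ {w : V}, x.N ((x.T ^ k) w) = 0 → ∀ i, k ≤ i → x.N ((x.T ^ i) w) = 0 := fun {w} hw i hi => by
    rw [← x.T_pow_N] at hw ⊢
    exact x.T_pow_apply_zero hw hi
  have levz : ∀ {w : V}, x.N ((x.T ^ k) w) = 0 → ∀ j, k < j → x.lev j w = 0 := fun hw j hj => by
    obtain ⟨i, rfl⟩ : ∃ i, j = i + 1 := ⟨j - 1, by omega⟩
    rw [lev_succ, killN hw i (by omega), map_zero, LinearMap.zero_apply]
  have mem : ∀ {w : V} (e : ℕ), x.N ((x.T ^ k) w) = 0 → x.N ((x.T ^ k) ((x.T ^ e) w)) = 0 := fun {w} e hw => by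
    rw [x.T_pow_T_pow]; exact killN hw _ (by omega)
  have memN : ∀ {w : V} (e : ℕ), x.N ((x.T ^ k) w) = 0 → x.N ((x.T ^ k) (x.N ((x.T ^ e) w))) = 0 := fun {w} e hw => by
    rw [x.T_pow_N, mem e hw, map_zero]
  -- the levels of `u`
  let P : ℕ → V → Prop := fun t w => x.N ((x.T ^ k) w) = 0 ∧ x.B ((x.T ^ k) w) v = 1 ∧
    ∀ j, t ≤ j → x.lev j w = if j = k ∧ b = true then 1 else 0
  have hPbase : P k u := ⟨hu, htop, fun j hj => by
    rcases eq_or_lt_of_le hj with rfl | h
    · rw [hlu]; simp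
    · rw [levz hu j h, if_neg (by omega)]⟩
  have hPstep : ∀ t < k, ∀ w, P (t + 1) w → ∃ w', P t w' := by
    rintro t ht w ⟨hwT, hwtop, hw⟩
    set c := x.lev t w
    refine ⟨w + c • (x.T ^ (k - t)) v, ?_, ?_, fun j hj => ?_⟩
    · rw [map_add, map_smul, map_add, map_smul, hwT, mem _ hv, smul_zero, add_zero]
    · rw [map_add, map_smul, map_add, map_smul, LinearMap.add_apply, LinearMap.smul_apply, hwtop, x.T_pow_T_pow,
        killT hv _ (by omega), map_zero, LinearMap.zero_apply, smul_zero, add_zero]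
    · rw [x.lev_add_smul, x.lev_T_pow, x.B_T_N, levz hv _ (show k < j + 2 * (k - t) by omega)]
      rcases eq_or_lt_of_le hj with rfl | hj'
      · rw [show t + (k - t) = k by omega, hwtop, if_neg (by omega)]
        simp [c, CharTwo.add_self_eq_zero]
      · rw [killT hwT _ (show k + 1 ≤ j + (k - t) by omega), map_zero, LinearMap.zero_apply, hw j hj']
        ring
  obtain ⟨w, hwT, hwtop, hw⟩ := descend P k hPstep u hPbase
  have hwl : ∀ j, j ≠ k → x.lev j w = 0 := fun j hj => by rw [hw j (Nat.zero_le j), if_neg (fun h => hj h.1)]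
  -- the second generator
  let R : ℕ → V → Prop := fun t z => x.N ((x.T ^ k) z) = 0 ∧
    (∀ j, t ≤ j → x.lev j z = if j = k then bv F b else 0) ∧
    (∀ i, t ≤ i → x.B ((x.T ^ i) w) z = if i = k then 1 else 0) ∧
    ∀ i, t ≤ i → x.B (x.N ((x.T ^ i) w)) z = 0
  have hRbase : R k v := by
    refine ⟨hv, fun j hj => ?_, fun i hi => ?_, fun i hi => ?_⟩
    · rcases eq_or_lt_of_le hj with rfl | h
      · rw [hlv, if_pos rfl]
      · rw [levz hv j h, if_neg (by omega)]
    · rcases eq_or_lt_of_le hi with rfl | h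
      · rw [hwtop, if_pos rfl]
      · rw [killT hwT i (by omega), map_zero, LinearMap.zero_apply, if_neg (by omega)]
    · rw [killN hwT i hi, map_zero, LinearMap.zero_apply]
  have hRstep : ∀ t < k, ∀ z, R (t + 1) z → ∃ z', R t z' := by
    rintro t ht z ⟨hzT, hz1, hz2, hz3⟩
    have hztop : x.B ((x.T ^ k) w) z = 1 := (hz2 k (by omega)).trans (if_pos rfl)
    -- (a) `R_t`
    set d := x.B (x.N ((x.T ^ t) w)) z with hd
    set z₁ := z + d • x.N ((x.T ^ (k - 1 - t)) z) with hz₁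
    have aT : x.N ((x.T ^ k) z₁) = 0 := by
      rw [hz₁, map_add, map_smul, map_add, map_smul, hzT, memN _ hzT, smul_zero, add_zero]
    have a3 : ∀ i, t ≤ i → x.B (x.N ((x.T ^ i) w)) z₁ = 0 := by
      intro i hi
      rw [hz₁, map_add, map_smul, x.B_NT_NT, smul_eq_mul]
      rcases eq_or_lt_of_le hi with rfl | h
      · rw [show t + (k - 1 - t) + 1 = k by omega, hztop, mul_one, CharTwo.add_self_eq_zero]
      · rw [killT hwT _ (show k + 1 ≤ i + (k - 1 - t) + 1 by omega), map_zero, LinearMap.zero_apply, mul_zero, add_zero,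
          hz3 i h]
    have a2 : ∀ i, t + 1 ≤ i → x.B ((x.T ^ i) w) z₁ = if i = k then 1 else 0 := fun i hi => by
      rw [hz₁, map_add, map_smul, smul_eq_mul, x.B_T_NT, killT hwT _ (show k + 1 ≤ i + (k - 1 - t) + 1 by omega),
        killN hwT _ (show k ≤ i + (k - 1 - t) by omega), map_zero, LinearMap.zero_apply, zero_add, mul_zero, add_zero,
        hz2 i hi]
    have a1 : ∀ j, t + 1 ≤ j → x.lev j z₁ = if j = k then bv F b else 0 := fun j hj => by
      rw [hz₁, x.lev_add_smul, x.lev_N, x.lev_T_pow, x.B_T_NT_self, levz hzT _ (show k < j + 1 + 2 * (k - 1 - t) by omega),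
        levz hzT _ (show k < j + (k - 1 - t) + 1 by omega), hz1 j hj]
      ring
    -- (b) `lev_t`
    set c := x.lev t z₁ with hc
    set z₂ := z₁ + c • (x.T ^ (k - t)) w with hz₂
    have bT : x.N ((x.T ^ k) z₂) = 0 := by
      rw [hz₂, map_add, map_smul, map_add, map_smul, aT, mem _ hwT, smul_zero, add_zero]
    have b1 : ∀ j, t ≤ j → x.lev j z₂ = if j = k then bv F b else 0 := by
      intro j hj
      have e : x.B ((x.T ^ j) z₁) ((x.T ^ (k - t)) w) = x.B ((x.T ^ (j + (k - t))) w) z₁ := by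
        rw [x.B_comm, x.B_T_N, add_comm]
      rw [hz₂, x.lev_add_smul, x.lev_T_pow, hwl _ (show j + 2 * (k - t) ≠ k by omega), mul_zero, add_zero, e]
      rcases eq_or_lt_of_le hj with rfl | hj'
      · rw [show t + (k - t) = k by omega, a2 k (by omega), if_pos rfl, mul_one, if_neg (by omega), hc,
          CharTwo.add_self_eq_zero]
      · rw [killT hwT _ (show k + 1 ≤ j + (k - t) by omega), map_zero, LinearMap.zero_apply, mul_zero, add_zero,
          a1 j hj']
    have b2 : ∀ i, x.B ((x.T ^ i) w) z₂ = x.B ((x.T ^ i) w) z₁ := fun i => by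
      rw [hz₂, map_add, map_smul, x.B_T_N, x.B_T_pow_self, smul_zero, add_zero]
    have b3 : ∀ i, t ≤ i → x.B (x.N ((x.T ^ i) w)) z₂ = x.B (x.N ((x.T ^ i) w)) z₁ := fun i hi => by
      rw [hz₂, map_add, map_smul, x.B_NT_T, ← lev_succ, hwl _ (show i + (k - t) + 1 ≠ k by omega), smul_zero, add_zero]
    -- (c) `P_t`
    set d' := x.B ((x.T ^ t) w) z₂ with hd'
    refine ⟨z₂ + d' • (x.T ^ (k - t)) z₂, ?_, fun j hj => ?_, fun i hi => ?_, fun i hi => ?_⟩
    · rw [map_add, map_smul, map_add, map_smul, bT, mem _ bT, smul_zero, add_zero]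
    · rw [x.lev_add_smul, x.lev_T_pow, x.B_T_N, x.B_T_pow_self, b1 j hj, levz bT _ (show k < j + 2 * (k - t) by omega)]
      ring
    · rw [map_add, map_smul, smul_eq_mul, x.B_T_N]
      rcases eq_or_lt_of_le hi with rfl | hi'
      · rw [show t + (k - t) = k by omega, b2 k, a2 k (by omega), if_pos rfl, mul_one, ← hd', CharTwo.add_self_eq_zero,
          if_neg (by omega)]
      · rw [killT hwT _ (show k + 1 ≤ i + (k - t) by omega), map_zero, LinearMap.zero_apply, mul_zero, add_zero, b2,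
          a2 i hi']
    · rw [map_add, map_smul, x.B_NT_T, killN hwT _ (show k ≤ i + (k - t) by omega), map_zero, LinearMap.zero_apply,
        smul_zero, add_zero, b3 i hi, a3 i hi]
  obtain ⟨z, hzT, hz1, hz2, hz3⟩ := descend R k hRstep v hRbase
  exact ⟨w, z, hwT, hzT, fun j => hw j (Nat.zero_le j), fun j => hz1 j (Nat.zero_le j),
    fun i => hz2 i (Nat.zero_le i), fun i => hz3 i (Nat.zero_le i)⟩

theorem exists_stdO {k : ℕ} {u v : V} (hu : x.N ((x.T ^ k) u) = 0) (hv : x.N ((x.T ^ k) v) = 0)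
    (htop : x.B ((x.T ^ k) u) v = 1) :
    ∃ (b : Bool) (u' v' : V), (x.lev k u = 0 → b = false) ∧ x.StdO k b u' v' := by
  obtain ⟨b, u₁, v₁, hb, h1, h2, h3, h4, h5⟩ := x.exists_top_plane hu hv htop
  obtain ⟨u₂, v₂, h⟩ := x.exists_stdO_aux h1 h2 h3 h4 h5
  exact ⟨b, u₂, v₂, hb, h⟩

end QUni

end CfsgLib.Char.EvenClass
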