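import Cfsg.Agent.Lib.Char.EvenClass.OUpper
import Cfsg.Agent.Lib.Char.EvenClass.Block

/-!
# The class number of an even dimensional orthogonal group in characteristic two, from below

The symmetrised characteristic polynomials of the isometries are those of all `h` of degree `m` with root zero and
half of the others; so there are at least `q^m / 2` classes.
-/

set_option autoImplicit false
set_option linter.unusedSectionVars false

open scoped Classical

namespace CfsgLib.Char.EvenClass

open Module Matrix Polynomial CfsgLib.IsometryConj CfsgLib.Sp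

variable {F : Type*} [Field F] [Fintype F] [CharP F 2]

theorem psi_mul_self (a : F) : psi a * psi a = 1 := by
  rcases psi_abs a with h | h <;> rw [h] <;> norm_num

/-- Every monic polynomial is realised, with sign `psi (h₁ / h₀)` when zero is no root, with both signs otherwise. -/
theorem realises_monic : ∀ (n : ℕ) (h : F[X]), h.Monic → h.natDegree = n →
    (h.coeff 0 ≠ 0 → Realises h (psi (h.coeff 1 / h.coeff 0))) ∧ (h.coeff 0 = 0 → ∀ α : F, Realises h (psi α)) := by
  intro n
  induction n using Nat.strong_induction_on with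
  | _ n ih =>
    intro h hm hn
    rcases Nat.eq_zero_or_pos n with rfl | hpos
    · rw [Polynomial.eq_one_of_monic_natDegree_zero hm hn]
      refine ⟨fun _ => ?_, fun h0 => absurd h0 (by simp)⟩
      simpa [Polynomial.coeff_one, psi_zero] using realises_one (F := F)
    by_cases h0 : h.coeff 0 = 0
    · refine ⟨fun hc => absurd h0 hc, fun _ α => ?_⟩
      obtain ⟨h', rfl⟩ := Polynomial.X_dvd_iff.2 h0
      have hm' : h'.Monic := Polynomial.monic_X.of_mul_monic_left hm
      have hd := Polynomial.monic_X.natDegree_mul hm'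
      rw [Polynomial.natDegree_X] at hd
      obtain ⟨β, hβ⟩ : ∃ β, Realises h' (psi β) := by
        obtain ⟨h1, h2⟩ := ih h'.natDegree (by omega) h' hm' rfl
        by_cases hz : h'.coeff 0 = 0
        · exact ⟨α, h2 hz α⟩
        · exact ⟨_, h1 hz⟩
      have r := (realises_X (α + β)).mul Polynomial.monic_X hm' hβ
      rwa [psi_add, mul_assoc, psi_mul_self, mul_one] at r
    · refine ⟨fun _ => ?_, fun hc => absurd hc h0⟩
      obtain ⟨P, hPm, hPi, hPd⟩ := h.exists_monic_irreducible_factor (fun hu => by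
        have := Polynomial.natDegree_eq_zero_of_isUnit hu; omega)
      obtain ⟨h', rfl⟩ := hPd
      have hm' : h'.Monic := hPm.of_mul_monic_left hm
      have hd := hPm.natDegree_mul hm'
      have hc : (P * h').coeff 0 = P.coeff 0 * h'.coeff 0 := Polynomial.mul_coeff_zero P h'
      have hP0 : P.coeff 0 ≠ 0 := fun e => h0 (by rw [hc, e, zero_mul])
      have hh0 : h'.coeff 0 ≠ 0 := fun e => h0 (by rw [hc, e, mul_zero])
      have r := (realises_irreducible hPi hPm hP0).mul hPm hm'
        ((ih h'.natDegree (by have := hPi.natDegree_pos; omega) h' hm' rfl).1 hh0)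
      have e1 : (P * h').coeff 1 = P.coeff 0 * h'.coeff 1 + P.coeff 1 * h'.coeff 0 := by
        rw [Polynomial.coeff_mul, Finset.Nat.sum_antidiagonal_succ, Finset.Nat.antidiagonal_zero,
          Finset.sum_singleton]
      rw [← psi_add] at r
      convert r using 2
      rw [e1, hc]
      field_simp
      ring

variable {m : ℕ}

local notation "Mat" => Matrix (Fin m ⊕ Fin m) (Fin m ⊕ Fin m) F
local notation "Vec" => (Fin m ⊕ Fin m → F)
local notation "Sp" => Matrix.symplecticGroup (Fin m) F

/-- A realised polynomial belongs to an element of the group of a form of the same sign. -/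
theorem exists_mem_charpoly (Q' : Vec → F) (hQ : IsQ Q') {σ : ℤ} (hσ : gauss Q' = (Nat.card F : ℤ) ^ m * σ)
    {h : F[X]} (hd : h.natDegree = m) (hr : Realises h σ) :
    ∃ x : ↥(OQ Q'), ((x.1 : ↥Sp) : Mat).charpoly = symmetrize m h := by
  obtain ⟨d, z, g, hz, hdz, hQg, hc, hgs⟩ := hr
  have hfin : finrank F Vec = finrank F (Fin d → F) := by
    rw [Module.finrank_pi, Fintype.card_sum, Fintype.card_fin, Module.finrank_fin_fun, hdz, hd]; ring
  obtain ⟨φ, -, hφ⟩ := quad_iso (x := trivUni Q' hQ) (y := z) rfl hz hfin (by rw [hgs, hd, ← hσ]; rfl)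
  set f : Module.End F Vec := φ.symm.conj g with hf
  have hfQ : ∀ v, Q' (f v) = Q' v := fun v => by
    have h1 : z.Q (g (φ v)) = z.Q (φ v) := hQg _
    rw [← φ.apply_symm_apply (g (φ v)), hφ, hφ] at h1
    exact h1
  set M := LinearMap.toMatrix' f
  have hMv : ∀ v, M *ᵥ v = f v := fun v => LinearMap.toMatrix'_mulVec f v
  have hst : (sympAdjoint m F).st M * M = 1 := by
    have h1 := st_mul_eq_of_sf (M := M) (N := 1) fun u v => by
      have h2 := hQ.add (M *ᵥ u) (M *ᵥ v)
      rw [← Matrix.mulVec_add, hMv, hMv, hMv, hfQ, hfQ, hfQ, hQ.add] at h2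
      rw [hMv, hMv, Matrix.one_mulVec, Matrix.one_mulVec]
      exact (add_left_cancel h2).symm
    rwa [Adjoint.st_one, one_mul] at h1
  refine ⟨⟨⟨M, (sympAdjoint_mem_iff _).2 hst⟩, fun v => by rw [hMv, hfQ]⟩, ?_⟩
  show M.charpoly = _
  rw [show M = LinearMap.toMatrix (Pi.basisFun F (Fin m ⊕ Fin m)) (Pi.basisFun F (Fin m ⊕ Fin m)) f by
    rw [LinearMap.toMatrix_eq_toMatrix'], LinearMap.charpoly_toMatrix, hf, LinearEquiv.charpoly_conj, hc, hd]

theorem exists_sign (Q' : Vec → F) (hQ : IsQ Q') :
    ∃ α : F, gauss Q' = (Nat.card F : ℤ) ^ m * psi α := by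
  obtain ⟨s, hs, -⟩ := exists_good (trivUni Q' hQ)
  have h : gauss Q' = (Nat.card F : ℤ) ^ weight s * parSign (par s) := gs_of_isDec hs
  have hw : weight s = m := by
    have := hs.2.2
    rw [Module.finrank_pi, Fintype.card_sum, Fintype.card_fin] at this
    omega
  refine ⟨bv F (decide (par s = 1)), ?_⟩
  rw [h, hw, psi_bv, parSign]
  simp

theorem le_card_oq_classes (hm : 2 ≤ m) (Q' : Vec → F) (hQ : IsQ Q') :
    Fintype.card F ^ m ≤ 2 * Nat.card (ConjClasses ↥(OQ Q')) := by
  obtain ⟨α, hα⟩ := exists_sign Q' hQ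
  let i0 : Fin m := ⟨0, by omega⟩
  let i1 : Fin m := ⟨1, by omega⟩
  let e : {h : F[X] // h.Monic ∧ h.natDegree = m} ≃ (Fin m → F) :=
    (monicEquivDegreeLT (R := F) m).trans (degreeLTEquiv F m).toEquiv
  haveI : Fintype {h : F[X] // h.Monic ∧ h.natDegree = m} := Fintype.ofEquiv _ e.symm
  let S := Finset.univ.filter fun h : {h : F[X] // h.Monic ∧ h.natDegree = m} =>
    h.1.coeff 0 = 0 ∨ psi (h.1.coeff 1 / h.1.coeff 0) = psi α
  have hcard : Fintype.card F ^ m ≤ 2 * S.card := by
    have hall : (Finset.univ : Finset {h : F[X] // h.Monic ∧ h.natDegree = m}).card = Fintype.card F ^ m := by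
      rw [Finset.card_univ, Fintype.card_congr e, Fintype.card_fun, Fintype.card_fin]
    rw [← hall, ← Finset.card_filter_add_card_filter_not (s := Finset.univ) (fun h => h ∈ S),
      Finset.filter_univ_mem, two_mul]
    have hmem : ∀ h : {h : F[X] // h.Monic ∧ h.natDegree = m},
        (h.1 + Polynomial.C (al F * h.1.coeff 0) * X).Monic ∧
          (h.1 + Polynomial.C (al F * h.1.coeff 0) * X).natDegree = m := fun h => by
      have hlt : (Polynomial.C (al F * h.1.coeff 0) * X).degree < h.1.degree := by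
        refine lt_of_le_of_lt (Polynomial.degree_C_mul_X_le _) ?_
        rw [Polynomial.degree_eq_natDegree h.2.1.ne_zero, h.2.2]
        exact_mod_cast (show 1 < m by omega)
      refine ⟨h.2.1.add_of_left hlt, ?_⟩
      rw [Polynomial.natDegree_add_eq_left_of_degree_lt hlt, h.2.2]
    let flip : {h : F[X] // h.Monic ∧ h.natDegree = m} → {h : F[X] // h.Monic ∧ h.natDegree = m} :=
      fun h => ⟨h.1 + Polynomial.C (al F * h.1.coeff 0) * X, hmem h⟩
    refine Nat.add_le_add_left (Finset.card_le_card_of_injOn flip (fun h hh => ?_) ?_) _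
    · simp only [flip, S, Finset.coe_filter, Finset.mem_univ, true_and, Set.mem_ofPred_eq, Finset.mem_filter, not_or]
        at hh ⊢
      obtain ⟨h0, h1⟩ := hh
      refine Or.inr ?_
      simp only [Polynomial.coeff_add, Polynomial.coeff_mul_X_zero, Polynomial.coeff_mul_X, Polynomial.coeff_C_zero,
        add_zero, zero_add]
      rw [add_div, mul_div_assoc, div_self h0, mul_one, psi_add, show psi (al F) = -1 from if_neg al_not_inWp]
      rcases psi_abs (h.1.coeff 1 / h.1.coeff 0) with e1 | e1 <;> rcases psi_abs α with e2 | e2 <;>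
        simp_all
    · intro a _ b _ hab
      have h1 := congrArg (fun z : {h : F[X] // h.Monic ∧ h.natDegree = m} => z.1.coeff 0) hab
      simp only [flip, Polynomial.coeff_add, Polynomial.coeff_mul_X_zero, add_zero] at h1
      have h2 : a.1 + Polynomial.C (al F * a.1.coeff 0) * X = b.1 + Polynomial.C (al F * b.1.coeff 0) * X :=
        congrArg Subtype.val hab
      rw [h1] at h2
      exact Subtype.ext (add_right_cancel h2)
  have hex : ∀ h : S, ∃ x : ↥(OQ Q'), ((x.1 : ↥Sp) : Mat).charpoly = symmetrize m h.1.1 := by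
    intro h
    refine exists_mem_charpoly Q' hQ hα h.1.2.2 ?_
    obtain ⟨h1, h2⟩ := realises_monic m h.1.1 h.1.2.1 h.1.2.2
    by_cases h0 : h.1.1.coeff 0 = 0
    · exact h2 h0 α
    · have := ((Finset.mem_filter.1 h.2).2.resolve_left h0)
      rw [← this]
      exact h1 h0
  choose rep hrep using hex
  refine hcard.trans (Nat.mul_le_mul_left 2 ?_)
  rw [← Nat.card_eq_finsetCard]
  refine Nat.card_le_card_of_injective (fun h : S => ConjClasses.mk (rep h)) fun a b hab => ?_
  obtain ⟨c, hc⟩ := MonoidHom.map_isConj ((Matrix.symplecticGroup (Fin m) F).subtype.comp (OQ Q').subtype)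
    (ConjClasses.mk_eq_mk_iff_isConj.1 hab)
  refine Subtype.ext (Subtype.ext (symmetrize_injective a.1.2.2.le b.1.2.2.le ?_))
  rw [← hrep a, ← hrep b]
  have hh : ((rep b).1 : Mat) = (c : Mat) * ((rep a).1 : Mat) * ((c⁻¹ : (Mat)ˣ) : Mat) :=
    (Units.eq_mul_inv_iff_mul_eq c).2 hc.eq.symm
  rw [hh, Matrix.coe_units_inv, Matrix.charpoly_units_conj]

end CfsgLib.Char.EvenClass
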