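import Cfsg.Agent.Lib.Char.EvenClass.SpMain

/-!
# The class number of an even dimensional orthogonal group in characteristic two, from above

A class of the group of a quadratic form is decided by the normal form of its part at one and its stripped tuple, and
the stripped tuple decides the parity of the bits; so there are at most `15 q^m` classes.
-/

set_option autoImplicit false
set_option linter.unusedSectionVars false

open scoped Classical

namespace CfsgLib.Char.EvenClass

open Module Matrix CfsgLib.IsometryConj CfsgLib.GLClass CfsgLib.Sp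
open CfsgLib.Char.SpClass (bigExp bigExp_pos eid eid_idem pow_bigExp_idem one_sub_eid eid_conj eid_mulVec_mem eSpace
  toFin)

variable {F : Type*} [Field F] [Fintype F] [CharP F 2] {m : ℕ}

local notation "Mat" => Matrix (Fin m ⊕ Fin m) (Fin m ⊕ Fin m) F
local notation "Vec" => (Fin m ⊕ Fin m → F)
local notation "Jst" => Adjoint.st (sympAdjoint m F)
local notation "Sp" => Matrix.symplecticGroup (Fin m) F

/-- A quadratic form with symplectic polar as a space with trivial isometry. -/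
noncomputable def trivUni (Q' : Vec → F) (hQ : IsQ Q') : QUni F Vec where
  B := Classical.SympCount.sB m F
  g := 1
  Q := Q'
  alt := sf_self
  sep _ h := eq_zero_of_sf h
  inv _ _ := rfl
  nil := ⟨1, by rw [pow_one, add_self_end]⟩
  Q_smul := hQ.smul
  Q_add := hQ.add
  Q_g _ := rfl

theorem gauss_ne_zero (Q' : Vec → F) (hQ : IsQ Q') : gauss Q' ≠ 0 := by
  obtain ⟨s, hs, -⟩ := exists_good (trivUni Q' hQ)
  have h : gauss Q' = (Nat.card F : ℤ) ^ weight s * parSign (par s) := gs_of_isDec hs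
  rw [h]
  refine mul_ne_zero (pow_ne_zero _ (Nat.cast_ne_zero.2 Nat.card_pos.ne')) ?_
  unfold parSign; split_ifs <;> norm_num

/-- The complement of the eigenspace. -/
noncomputable abbrev kSpace (A : Mat) : Submodule F Vec := LinearMap.range (1 - eid 1 A).mulVecLin

theorem kSpace_mem (A : Mat) (u : kSpace A) : (1 - eid 1 A) *ᵥ (u : Vec) = u := by
  obtain ⟨_, v, rfl⟩ := u
  show (1 - eid 1 A) *ᵥ ((1 - eid 1 A) *ᵥ v) = (1 - eid 1 A) *ᵥ v
  rw [Matrix.mulVec_mulVec, mul_sub, mul_one, sub_mul, one_mul, eid_idem, sub_self, sub_zero]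

theorem gauss_split (Q' : Vec → F) (hQ : IsQ Q') {A : Mat} (hA : Jst A * A = 1)
    (hAQ : ∀ v, Q' (A *ᵥ v) = Q' v) :
    gauss Q' = (oE A hA Q' hQ hAQ).gs * gauss (fun w : kSpace A => Q' w) := by
  set e := eid 1 A
  have hee : e * e = e := eid_idem _ _
  let ψ : (↥(eSpace (1 : F) A) × ↥(kSpace A)) ≃ Vec :=
    { toFun := fun p => (p.1 : Vec) + (p.2 : Vec)
      invFun := fun v => (⟨e *ᵥ v, v, rfl⟩, ⟨(1 - e) *ᵥ v, v, rfl⟩)
      left_inv := fun p => by
        have h1 : e *ᵥ (p.2 : Vec) = 0 := by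
          rw [← kSpace_mem A p.2, Matrix.mulVec_mulVec, mul_sub, mul_one, hee, sub_self, Matrix.zero_mulVec]
        have h2 : (1 - e) *ᵥ (p.1 : Vec) = 0 := by
          rw [← eid_mulVec_mem 1 A p.1, Matrix.mulVec_mulVec, sub_mul, one_mul, hee, sub_self, Matrix.zero_mulVec]
        refine Prod.ext (Subtype.ext ?_) (Subtype.ext ?_)
        · show e *ᵥ ((p.1 : Vec) + (p.2 : Vec)) = p.1
          rw [Matrix.mulVec_add, eid_mulVec_mem, h1, add_zero]
        · show (1 - e) *ᵥ ((p.1 : Vec) + (p.2 : Vec)) = p.2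
          rw [Matrix.mulVec_add, kSpace_mem, h2, zero_add]
      right_inv := fun v => by
        show e *ᵥ v + (1 - e) *ᵥ v = v
        rw [← Matrix.add_mulVec, add_sub_cancel, Matrix.one_mulVec] }
  rw [QUni.gs, ← gauss_add, ← gauss_equiv ψ Q']
  refine congrArg gauss (funext fun p => ?_)
  show Q' ((p.1 : Vec) + (p.2 : Vec)) = Q' p.1 + Q' p.2
  rw [hQ.add, ← eid_mulVec_mem 1 A p.1, ← kSpace_mem A p.2, sf_comm, sf_cross hA, add_zero]

theorem add_one_pow_two_pow (A : Mat) (j : ℕ) : A ^ 2 ^ j + 1 = (A + 1) ^ 2 ^ j := by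
  induction j with
  | zero => simp
  | succ j ih =>
    rw [pow_succ, pow_mul, pow_mul, ← ih, sq, sq, add_mul, mul_add, mul_add, one_mul, mul_one, one_mul,
      show ∀ a b : Mat, a + b + (b + 1) = a + 1 + (b + b) from fun a b => by abel, ← sub_eq_add_mat (A ^ 2 ^ j),
      sub_self, add_zero]

theorem eid_pow_two_pow (A : Mat) (j : ℕ) : eid 1 (A ^ 2 ^ j) = eid 1 A := by
  have h : (1 : Mat) - eid 1 (A ^ 2 ^ j) = 1 - eid 1 A := by
    rw [one_sub_eid_eq, one_sub_eid_eq, add_one_pow_two_pow, ← pow_mul, mul_comm, pow_mul]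
    obtain ⟨k, hk⟩ : ∃ k, 2 ^ j = k + 1 := ⟨2 ^ j - 1, by have := Nat.one_le_two_pow (n := j); omega⟩
    rw [hk]
    exact IsIdempotentElem.pow_succ_eq k (pow_bigExp_idem (A + 1))
  exact sub_right_inj.1 h

/-- The group of a quadratic form inside the symplectic group. -/
def OQ (Q' : Vec → F) : Subgroup ↥Sp where
  carrier := {x | ∀ v, Q' ((x : Mat) *ᵥ v) = Q' v}
  one_mem' v := by simp
  mul_mem' {a b} ha hb v := by
    show Q' (((a : Mat) * (b : Mat)) *ᵥ v) = Q' v
    rw [← Matrix.mulVec_mulVec, ha, hb]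
  inv_mem' {a} ha v := by
    have h : (a : Mat) * ((a⁻¹ : ↥Sp) : Mat) = 1 := congrArg Subtype.val (mul_inv_cancel a)
    show Q' (((a⁻¹ : ↥Sp) : Mat) *ᵥ v) = Q' v
    conv_rhs => rw [← Matrix.one_mulVec v, ← h, ← Matrix.mulVec_mulVec, ha]

variable {Q' : (Fin m ⊕ Fin m → F) → F}

theorem mem_pow (x : ↥(OQ Q')) (j : ℕ) (v : Vec) : Q' (((x.1 ^ j : ↥Sp) : Mat) *ᵥ v) = Q' v :=
  (pow_mem x.2 j : x.1 ^ j ∈ OQ Q') v

variable (hQ : IsQ Q')

/-- The quadratic part at one. -/
noncomputable abbrev oX (x : ↥(OQ Q')) : QUni F (eSpace (1 : F) (x.1 : Mat)) :=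
  oE (x.1 : Mat) (st_mem _) Q' hQ x.2

/-- The normal form of the quadratic part at one. -/
noncomputable def oCode (x : ↥(OQ Q')) : Multiset Piece := (exists_good (oX hQ x)).choose

theorem oCode_spec (x : ↥(OQ Q')) : IsDec (oX hQ x) (oCode hQ x) ∧ Good (oCode hQ x) :=
  (exists_good (oX hQ x)).choose_spec

theorem oCode_weight (x : ↥(OQ Q')) : weight (oCode hQ x) ≤ m ∧
    ∑ k : Fin (m + m), (1 + k.val) * (strip x.1 k).1.natDegree = m - weight (oCode hQ x) :=
  strip_weight _ (oCode_spec hQ x).1.2.2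

include hQ in
/-- Off the eigenspaces the character sums only see the characteristic polynomial. -/
theorem gauss_kSpace_eq (x y : ↥(OQ Q')) (h : (x.1 : Mat).charpoly = (y.1 : Mat).charpoly) :
    gauss (fun w : kSpace (x.1 : Mat) => Q' w) = gauss (fun w : kSpace (y.1 : Mat) => Q' w) := by
  haveI : Fact (Nat.Prime 2) := ⟨Nat.prime_two⟩
  obtain ⟨f, -, hf⟩ := FiniteField.card F 2
  obtain ⟨i, hi, hic⟩ := coprime_pow_card 2 x.1
  obtain ⟨j, hj, hjc⟩ := coprime_pow_card 2 y.1
  obtain ⟨c, hc⟩ := sp_isConj_of_charpoly 2 _ _ hi hj (hic.trans (h.trans hjc.symm))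
  set A := ((x.1 ^ Fintype.card F ^ i : ↥Sp) : Mat)
  set B := ((y.1 ^ Fintype.card F ^ j : ↥Sp) : Mat)
  set U := ((c : ↥Sp) : Mat)
  have hUA : U * A = B * U := congrArg Subtype.val hc
  have hU : Jst U * U = 1 := st_mem _
  have hAe : eid 1 A = eid 1 (x.1 : Mat) := by
    simp only [A, SubmonoidClass.coe_pow, hf, ← pow_mul]
    exact eid_pow_two_pow _ _
  have hBe : eid 1 B = eid 1 (y.1 : Mat) := by
    simp only [B, SubmonoidClass.coe_pow, hf, ← pow_mul]
    exact eid_pow_two_pow _ _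
  have hk : U * (1 - eid 1 (x.1 : Mat)) = (1 - eid 1 (y.1 : Mat)) * U := by
    rw [mul_sub, sub_mul, mul_one, one_mul, ← hAe, ← hBe, eid_conj hUA]
  have hUu : IsUnit U := IsUnit.of_mul_eq_one (Jst U) (mul_eq_one_comm.1 hU)
  have hmap : (kSpace (x.1 : Mat)).map U.mulVecLin = kSpace (y.1 : Mat) := by
    ext v
    constructor
    · rintro ⟨_, ⟨w, rfl⟩, rfl⟩
      exact ⟨U *ᵥ w, by simp only [Matrix.mulVecLin_apply, Matrix.mulVec_mulVec, hk]⟩
    · rintro ⟨w, rfl⟩
      obtain ⟨z, rfl⟩ := Matrix.mulVec_surjective_iff_isUnit.2 hUu w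
      exact ⟨_, ⟨z, rfl⟩, by simp only [Matrix.mulVecLin_apply, Matrix.mulVec_mulVec, hk]⟩
  let φ := ((kSpace (x.1 : Mat)).equivMapOfInjective U.mulVecLin
    (Matrix.mulVec_injective_iff_isUnit.2 hUu)).trans (LinearEquiv.ofEq _ _ hmap)
  rw [← gauss_equiv φ.toEquiv (fun w : kSpace (y.1 : Mat) => Q' w)]
  refine congrArg gauss (funext fun w => ?_)
  show Q' w = Q' (U *ᵥ (w : Vec))
  conv_rhs => rw [← kSpace_mem _ w, ← hAe, Q_off Q' hQ (mem_pow x _) (mem_pow y _) hU hUA, hAe, kSpace_mem]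

/-- The stripped tuple decides the parity. -/
theorem par_eq_of_strip (x y : ↥(OQ Q')) (h : strip x.1 = strip y.1) :
    par (oCode hQ x) = par (oCode hQ y) := by
  have hx := oCode_weight hQ x
  have hy := oCode_weight hQ y
  rw [h] at hx
  have hw : weight (oCode hQ x) = weight (oCode hQ y) := by omega
  have hc : (x.1 : Mat).charpoly = (y.1 : Mat).charpoly := by
    rw [charpoly_strip, charpoly_strip, h, ← (oCode_spec hQ x).1.2.2, ← (oCode_spec hQ y).1.2.2, hw]
  have e : (oX hQ x).gs * gauss (fun w : kSpace (x.1 : Mat) => Q' w) =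
      (oX hQ y).gs * gauss (fun w : kSpace (y.1 : Mat) => Q' w) :=
    (gauss_split Q' hQ (st_mem _) x.2).symm.trans (gauss_split Q' hQ (st_mem _) y.2)
  rw [gauss_kSpace_eq hQ x y hc, gs_of_isDec (oCode_spec hQ x).1, gs_of_isDec (oCode_spec hQ y).1, hw] at e
  have hne : gauss (fun w : kSpace (y.1 : Mat) => Q' w) ≠ 0 := fun h0 =>
    gauss_ne_zero Q' hQ (by rw [gauss_split Q' hQ (st_mem _) y.2, h0, mul_zero])
  exact parSign_injective (mul_left_cancel₀ (pow_ne_zero _ (Nat.cast_ne_zero.2 Nat.card_pos.ne'))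
    (mul_right_cancel₀ hne e))

theorem two_mul_card_par_le (n w : ℕ) (hw : w ≤ n) (c : ZMod 2) :
    2 * ((codes false n).filter fun s => weight s = w ∧ par s = c).card ≤
      ((codes false n).filter fun s => weight s = w).card +
        ((codes false n).filter fun s => weight s = w ∧ ¬ (bitIdx s).Nonempty).card := by
  set S := (codes false n).filter fun s => weight s = w ∧ par s = c
  set X := S.filter fun s => (bitIdx s).Nonempty
  have hmem : ∀ s ∈ S, s ∈ codes false n ∧ weight s = w ∧ par s = c ∧ Good s := fun s hs => by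
    obtain ⟨h1, h2, h3⟩ := Finset.mem_filter.1 hs
    exact ⟨h1, h2, h3, (mem_codes.1 h1).1.1⟩
  have hinj : Set.InjOn flipBit (X : Set (Multiset Piece)) := fun s hs t ht e => by
    obtain ⟨hs, hs'⟩ := Finset.mem_filter.1 (Finset.mem_coe.1 hs)
    obtain ⟨ht, ht'⟩ := Finset.mem_filter.1 (Finset.mem_coe.1 ht)
    rw [← flipBit_flipBit (hmem s hs).2.2.2 hs', ← flipBit_flipBit (hmem t ht).2.2.2 ht', e]
  have h1 : (S ∪ X.image flipBit) ⊆ (codes false n).filter fun s => weight s = w := by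
    intro s hs
    rcases Finset.mem_union.1 hs with hs | hs
    · exact Finset.mem_filter.2 ⟨(hmem s hs).1, (hmem s hs).2.1⟩
    · obtain ⟨r, hr, rfl⟩ := Finset.mem_image.1 hs
      obtain ⟨hr, hr'⟩ := Finset.mem_filter.1 hr
      have hwr : weight (flipBit r) = w := (weight_flipBit hr').trans (hmem r hr).2.1
      exact Finset.mem_filter.2
        ⟨mem_codes.2 ⟨⟨good_flipBit (hmem r hr).2.2.2 hr', by simp⟩, hwr ▸ hw⟩, hwr⟩
  have h2 : Disjoint S (X.image flipBit) := Finset.disjoint_right.2 fun u hu huS => by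
    obtain ⟨r, hr, rfl⟩ := Finset.mem_image.1 hu
    obtain ⟨hr, hr'⟩ := Finset.mem_filter.1 hr
    exact par_flipBit hr' ((hmem _ huS).2.2.1.trans (hmem r hr).2.2.1.symm)
  have h3 := Finset.card_le_card h1
  rw [Finset.card_union_of_disjoint h2, Finset.card_image_of_injOn hinj] at h3
  have h4 : (S.filter fun s => ¬ (bitIdx s).Nonempty) ⊆
      (codes false n).filter fun s => weight s = w ∧ ¬ (bitIdx s).Nonempty := fun s hs => by
    obtain ⟨hs, hn⟩ := Finset.mem_filter.1 hs
    exact Finset.mem_filter.2 ⟨(hmem s hs).1, (hmem s hs).2.1, hn⟩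
  have h5 := Finset.card_le_card h4
  have h6 := Finset.card_filter_add_card_filter_not (s := S) fun s => (bitIdx s).Nonempty
  change X.card + _ = _ at h6
  omega

include hQ in
theorem card_oq_classes_le : Nat.card (ConjClasses ↥(OQ Q')) ≤ 15 * Fintype.card F ^ m := by
  choose rep hrep using (ConjClasses.mk_surjective : Function.Surjective (ConjClasses.mk (α := ↥(OQ Q'))))
  haveI : Fintype (ConjClasses ↥(OQ Q')) := Fintype.ofFinite _
  let deg : (Fin (m + m) → MonicNZ F) → ℕ := fun R => ∑ k : Fin (m + m), (1 + k.val) * (R k).1.natDegree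
  set Rs := Finset.univ.image fun C => strip (rep C).1
  have hpi : ∀ R ∈ Rs, ∃ c : ZMod 2, ∀ x : ↥(OQ Q'), strip x.1 = R → par (oCode hQ x) = c := by
    intro R hR
    obtain ⟨C, -, rfl⟩ := Finset.mem_image.1 hR
    exact ⟨_, fun x hx => par_eq_of_strip hQ x (rep C) hx⟩
  choose π hπ using hpi
  set T := codes false m
  let P : (Fin (m + m) → MonicNZ F) → Finset (Multiset Piece) := fun R =>
    if hR : R ∈ Rs then T.filter fun s => weight s = m - deg R ∧ par s = π R hR else ∅
  -- the classes inject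
  have hcard : Fintype.card (ConjClasses ↥(OQ Q')) ≤ ∑ R ∈ Rs, (P R).card := by
    rw [← Finset.card_sigma, ← Finset.card_univ]
    refine Finset.card_le_card_of_injOn (fun C => ⟨strip (rep C).1, oCode hQ (rep C)⟩) (fun C _ => ?_) ?_
    · have hR : strip (rep C).1 ∈ Rs := Finset.mem_image_of_mem _ (Finset.mem_univ C)
      have hw := oCode_weight hQ (rep C)
      simp only [Finset.mem_coe, Finset.mem_sigma]
      refine ⟨hR, ?_⟩
      simp only [P, dif_pos hR]
      refine Finset.mem_filter.2 ⟨mem_codes.2 ⟨⟨(oCode_spec hQ (rep C)).2, by simp⟩, hw.1⟩, ?_, hπ _ hR _ rfl⟩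
      simp only [deg]; omega
    · intro C _ D _ h
      simp only [Sigma.mk.injEq, heq_eq_eq] at h
      obtain ⟨h2, h1⟩ := h
      have hI : (oX hQ (rep C)).Iso (oX hQ (rep D)) :=
        iso_of_isDec (oCode_spec hQ _).1 (h1 ▸ (oCode_spec hQ (rep D)).1)
      have hS : (sX (rep C).1).SIso (sX (rep D).1) :=
        ((sIso_oE _ Q' hQ (rep C).2).trans hI.sIso).trans (sIso_oE _ Q' hQ (rep D).2).symm
      obtain ⟨p, hp⟩ := exists_units_of_classTup _ _ (classTup_eq_of _ _ hS h2)
      obtain ⟨U, hU, hUA, hUQ⟩ := exists_conj_Q (st_mem _) (st_mem _) p hp Q' hQ (rep C).2 (rep D).2 hI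
      rw [← hrep C, ← hrep D]
      exact ConjClasses.mk_eq_mk_iff_isConj.2
        ⟨toUnits (⟨⟨U, (sympAdjoint_mem_iff _).2 hU⟩, hUQ⟩ : ↥(OQ Q')), Subtype.ext (Subtype.ext hUA)⟩
  have hnum : ∀ a, (Rs.filter fun R => deg R = a).card ≤ Fintype.card F ^ a := by
    intro a
    by_cases ha : a ≤ m + m
    · refine le_trans ?_ (card_tup_le (F := F) ha)
      haveI : Finite (Tup F (m + m) 1 a) := finite_tup _ 0 _
      rw [← Nat.card_eq_finsetCard]
      exact Nat.card_le_card_of_injective (fun R => (⟨R.1, (Finset.mem_filter.1 R.2).2⟩ : Tup F (m + m) 1 a))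
        fun R S h => Subtype.ext (congrArg Subtype.val h :)
    · refine le_of_eq_of_le (Finset.card_eq_zero.2 (Finset.eq_empty_iff_forall_notMem.2 fun R hR => ha ?_))
        (Nat.zero_le _)
      obtain ⟨hR, hd⟩ := Finset.mem_filter.1 hR
      obtain ⟨C, -, rfl⟩ := Finset.mem_image.1 hR
      have := oCode_weight hQ (rep C)
      simp only [deg] at hd; omega
  have hswap : ∀ T' : Finset (Multiset Piece), (∀ s ∈ T', weight s ≤ m) →
      ∑ R ∈ Rs, (T'.filter fun s => weight s = m - deg R).card ≤ ∑ s ∈ T', Fintype.card F ^ (m - weight s) := by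
    intro T' hT'
    simp only [Finset.card_filter]
    rw [Finset.sum_comm]
    refine Finset.sum_le_sum fun s hs => le_trans ?_ (hnum (m - weight s))
    rw [Finset.card_filter]
    refine Finset.sum_le_sum fun R hR => ?_
    obtain ⟨C, -, rfl⟩ := Finset.mem_image.1 hR
    have := oCode_weight hQ (rep C)
    have := hT' s hs
    split_ifs <;> simp only [deg] at * <;> omega
  set Z := T.filter fun s => ¬ (bitIdx s).Nonempty
  have hmain : 2 * ∑ R ∈ Rs, (P R).card ≤
      ∑ s ∈ T, Fintype.card F ^ (m - weight s) + ∑ s ∈ Z, Fintype.card F ^ (m - weight s) := by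
    refine le_trans ?_ (Nat.add_le_add (hswap T fun s hs => (mem_codes.1 hs).2)
      (hswap Z fun s hs => (mem_codes.1 (Finset.mem_filter.1 hs).1).2))
    rw [Finset.mul_sum, ← Finset.sum_add_distrib]
    refine Finset.sum_le_sum fun R hR => ?_
    simp only [P, dif_pos hR]
    refine (two_mul_card_par_le m _ (Nat.sub_le _ _) _).trans (le_of_eq ?_)
    simp only [Z, Finset.filter_filter, T, and_comm]
  obtain ⟨K, hK⟩ := exists_idx_bound T
  have hT1 : ∑ s ∈ T, wt2 s ≤ 28 :=
    (sum_le_Utot false K T fun s hs => ⟨(mem_codes.1 hs).1, hK s hs⟩).trans (Utot_false_le K)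
  have hZ1 : ∑ s ∈ Z, wt2 s ≤ 3 / 2 := by
    refine (sum_noBit_le K Z fun s hs p hp => ?_).trans ?_
    · obtain ⟨hs, hn⟩ := Finset.mem_filter.1 hs
      have := hK s hs p hp
      rcases p with ⟨k, b⟩ | k | ⟨k, b⟩
      · exact absurd ⟨k, b, Or.inl hp⟩ hn
      · exact ⟨k, rfl, this⟩
      · exact absurd ⟨k, b, Or.inr hp⟩ hn
    · rw [div_le_iff₀] <;>
        linarith [show (0 : ℚ) ≤ (1 / 4) ^ K by positivity,
          show ((1 : ℚ) / 4) ^ K ≤ 1 from pow_le_one₀ (by norm_num) (by norm_num)]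
  have hq : (0 : ℚ) ≤ (Fintype.card F : ℚ) ^ m := by positivity
  have b1 := (sum_pow_le (F := F) T fun s hs => (mem_codes.1 hs).2).trans (mul_le_mul_of_nonneg_left hT1 hq)
  have b2 := (sum_pow_le (F := F) Z fun s hs => (mem_codes.1 (Finset.mem_filter.1 hs).1).2).trans
    (mul_le_mul_of_nonneg_left hZ1 hq)
  have h' : ((2 * Fintype.card (ConjClasses ↥(OQ Q')) : ℕ) : ℚ) ≤ ((30 * Fintype.card F ^ m : ℕ) : ℚ) := by
    have h := (Nat.cast_le (α := ℚ)).2 ((Nat.mul_le_mul_left 2 hcard).trans hmain)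
    push_cast at h b1 b2 ⊢
    linarith
  rw [Nat.card_eq_fintype_card]
  have := Nat.cast_le.1 h'
  omega

end CfsgLib.Char.EvenClass
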