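import Cfsg.Agent.Lib.Char.EvenClass.Norm

/-!
# Pieces

The three kinds of indecomposable pieces, their classes in the monoid, the decomposition of every space into pieces and
the relations between pieces.
-/

set_option autoImplicit false
set_option linter.unusedSectionVars false

open scoped Classical

namespace CfsgLib.Char.EvenClass

open Module

/-- The kinds of pieces: `v k b` is `V (2k+2)`, `e k` is `W (2k+2)`, `o k b` is `W (2k+1)`. -/
inductive Piece where
  | v (k : ℕ) (b : Bool)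
  | e (k : ℕ)
  | o (k : ℕ) (b : Bool)
deriving DecidableEq

/-- Half the dimension. -/
def Piece.half : Piece → ℕ
  | .v k _ => k + 1
  | .e k => 2 * k + 2
  | .o k _ => 2 * k + 1

variable {F : Type*} [Field F] [CharP F 2] [Finite F]
variable {V W : Type*} [AddCommGroup V] [Module F V] [AddCommGroup W] [Module F W]

namespace QUni

/-- A space is a piece. -/
def IsPiece (x : QUni F V) : Piece → Prop
  | .v k b => finrank F V = 2 * (k + 1) ∧ ∃ u, x.StdV k b u
  | .e k => finrank F V = 2 * (2 * k + 2) ∧ ∃ u v, x.StdE k u v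
  | .o k b => finrank F V = 2 * (2 * k + 1) ∧ ∃ u v, x.StdO k b u v

variable {x : QUni F V}

/-- The frame of a top generator of `V (2k+2)`. -/
noncomputable def frameV (x : QUni F V) {k : ℕ} {u : V} (hu : (x.T ^ (k + 1)) u = 0) (hl : x.lev (k + 1) u ≠ 0) :
    x.Frame 1 (k + 1) (k + 1) where
  w := fun _ => u
  shape := Or.inl rfl
  killT := fun _ => hu
  killN := fun _ => by rw [hu, map_zero]
  top := fun c hc => by
    have h := hc 0
    simp only [if_pos, Fin.sum_univ_one, Nat.add_sub_cancel, ← lev_succ] at h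
    funext i
    rw [Fin.fin_one_eq_zero i]
    exact (mul_eq_zero.1 h).resolve_right hl

/-- The frame of top generators of `W (2k+2)`. -/
noncomputable def frameE (x : QUni F V) {k : ℕ} {u v : V} (hu : (x.T ^ (k + 1)) u = 0) (hv : (x.T ^ (k + 1)) v = 0)
    (hlu : x.lev (k + 1) u = 0) (hlv : x.lev (k + 1) v = 0) (h : x.B (x.N ((x.T ^ k) u)) v = 1) :
    x.Frame 2 (k + 1) (k + 1) where
  w := ![u, v]
  shape := Or.inl rfl
  killT := fun i => by fin_cases i <;> simp [hu, hv]
  killN := fun i => by fin_cases i <;> simp [hu, hv]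
  top := fun c hc => by
    have h' : x.B (x.N ((x.T ^ k) v)) u = 1 := by
      have e := x.B_T_NT k 0 u v
      rw [pow_zero, Module.End.one_apply, add_zero, x.T_pow_apply_zero hu le_rfl, map_zero, LinearMap.zero_apply,
        zero_add, h] at e
      rw [← e, x.B_comm, x.B_T_pow, x.T_pow_N]
    have h0 := hc 0
    have h1 := hc 1
    simp only [if_pos, Fin.sum_univ_two, Nat.add_sub_cancel, Matrix.cons_val_zero, Matrix.cons_val_one, ← lev_succ,
      hlu, hlv, h, h', mul_zero, zero_add, add_zero, mul_one] at h0 h1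
    funext i
    fin_cases i
    · exact h1
    · exact h0

/-- The frame of top generators of `W (2k+1)`. -/
noncomputable def frameO (x : QUni F V) {k : ℕ} {u v : V} (hu : x.N ((x.T ^ k) u) = 0) (hv : x.N ((x.T ^ k) v) = 0)
    (h : x.B ((x.T ^ k) u) v = 1) : x.Frame 2 (k + 1) k where
  w := ![u, v]
  shape := Or.inr rfl
  killT := fun i => by fin_cases i <;> simp [x.T_pow_succ_zero hu, x.T_pow_succ_zero hv]
  killN := fun i => by fin_cases i <;> simp [hu, hv]
  top := fun c hc => by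
    have h' : x.B ((x.T ^ k) v) u = 1 := by rw [x.B_T_pow, x.B_comm]; exact h
    have h0 := hc 0
    have h1 := hc 1
    simp only [if_neg (show ¬ k + 1 = k by omega), Fin.sum_univ_two, Matrix.cons_val_zero, Matrix.cons_val_one,
      x.B_T_pow_self, h, h', mul_zero, zero_add, add_zero, mul_one] at h0 h1
    funext i
    fin_cases i
    · exact h1
    · exact h0

theorem B_rev (i : ℕ) (u v : V) :
    x.B (x.N ((x.T ^ i) v)) u = x.B ((x.T ^ (i + 1)) u) v + x.B (x.N ((x.T ^ i) u)) v := by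
  have e := x.B_T_NT i 0 u v
  rw [pow_zero, Module.End.one_apply, add_zero] at e
  rw [← e, x.B_comm, x.B_T_pow, x.T_pow_N]

variable [FiniteDimensional F V] [FiniteDimensional F W]

theorem Frame.span_eq_top {r n₀ n₁ : ℕ} (P : x.Frame r n₀ n₁) (h : finrank F V = r * (n₀ + n₁)) :
    P.span = ⊤ :=
  Submodule.eq_top_of_finrank_eq (P.finrank_span.trans h.symm)

theorem Frame.space_iso {r n₀ n₁ : ℕ} (P : x.Frame r n₀ n₁) (h : finrank F V = r * (n₀ + n₁)) : P.space.Iso x :=
  ⟨LinearEquiv.ofTop P.span (P.span_eq_top h), fun _ => rfl, fun _ => rfl⟩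

theorem Frame.finrank_rest {r n₀ n₁ : ℕ} (P : x.Frame r n₀ n₁) :
    r * (n₀ + n₁) + finrank F (x.B.orthogonal P.span) = finrank F V := by
  rw [← P.finrank_span]
  exact Submodule.finrank_add_eq_of_isCompl (x.isCompl_orth P.sep_span)

theorem iso_of_isPiece {y : QUni F W} {p : Piece} (hx : x.IsPiece p) (hy : y.IsPiece p) : x.Iso y := by
  cases p with
  | v k b =>
    obtain ⟨hd, u, hu, hl⟩ := hx
    obtain ⟨hd', u', hu', hl'⟩ := hy
    let P := x.frameV hu (by rw [hl, if_pos rfl]; exact one_ne_zero)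
    let R := y.frameV hu' (by rw [hl', if_pos rfl]; exact one_ne_zero)
    refine ((P.space_iso (by rw [hd, one_mul, two_mul])).symm.trans (P.iso R ?_ ?_ ?_)).trans
      (R.space_iso (by rw [hd', one_mul, two_mul]))
    · intro i _ _
      show x.B ((x.T ^ i) u) u = y.B ((y.T ^ i) u') u'
      rw [x.B_T_pow_self, y.B_T_pow_self]
    · intro i _ _
      show x.lev (i + 1) u = y.lev (i + 1) u'
      rw [hl, hl']
    · intro j _
      show x.lev j u = y.lev j u'
      rw [hl, hl']
  | e k =>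
    obtain ⟨hd, u, v, hu, hv, hlu, hlv, hP, hR⟩ := hx
    obtain ⟨hd', u', v', hu', hv', hlu', hlv', hP', hR'⟩ := hy
    let P := x.frameE hu hv (hlu _) (hlv _) (by rw [hR, if_pos rfl])
    let R := y.frameE hu' hv' (hlu' _) (hlv' _) (by rw [hR', if_pos rfl])
    refine ((P.space_iso (by rw [hd]; ring)).symm.trans (P.iso R ?_ ?_ ?_)).trans (R.space_iso (by rw [hd']; ring))
    · intro i a c
      fin_cases a <;> fin_cases c <;> simp only [P, R, frameE, Matrix.cons_val_zero, Matrix.cons_val_one, Fin.zero_eta,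
        Fin.mk_one, Fin.isValue]
      · rw [x.B_T_pow_self, y.B_T_pow_self]
      · rw [hP, hP']
      · rw [x.B_T_pow, x.B_comm, hP, y.B_T_pow, y.B_comm, hP']
      · rw [x.B_T_pow_self, y.B_T_pow_self]
    · intro i a c
      fin_cases a <;> fin_cases c <;> simp only [P, R, frameE, Matrix.cons_val_zero, Matrix.cons_val_one, Fin.zero_eta,
        Fin.mk_one, Fin.isValue]
      · rw [← lev_succ, ← lev_succ, hlu, hlu']
      · rw [hR, hR']
      · rw [B_rev i u v, B_rev i u' v', hP, hR, hP', hR']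
      · rw [← lev_succ, ← lev_succ, hlv, hlv']
    · intro j a
      fin_cases a <;> simp only [P, R, frameE, Matrix.cons_val_zero, Matrix.cons_val_one, Fin.zero_eta, Fin.mk_one,
        Fin.isValue, hlu, hlu', hlv, hlv']
  | o k b =>
    obtain ⟨hd, u, v, hu, hv, hlu, hlv, hP, hR⟩ := hx
    obtain ⟨hd', u', v', hu', hv', hlu', hlv', hP', hR'⟩ := hy
    let P := x.frameO hu hv (by rw [hP, if_pos rfl])
    let R := y.frameO hu' hv' (by rw [hP', if_pos rfl])
    refine ((P.space_iso (by rw [hd]; ring)).symm.trans (P.iso R ?_ ?_ ?_)).trans (R.space_iso (by rw [hd']; ring))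
    · intro i a c
      fin_cases a <;> fin_cases c <;> simp only [P, R, frameO, Matrix.cons_val_zero, Matrix.cons_val_one, Fin.zero_eta,
        Fin.mk_one, Fin.isValue]
      · rw [x.B_T_pow_self, y.B_T_pow_self]
      · rw [hP, hP']
      · rw [x.B_T_pow, x.B_comm, hP, y.B_T_pow, y.B_comm, hP']
      · rw [x.B_T_pow_self, y.B_T_pow_self]
    · intro i a c
      fin_cases a <;> fin_cases c <;> simp only [P, R, frameO, Matrix.cons_val_zero, Matrix.cons_val_one, Fin.zero_eta,
        Fin.mk_one, Fin.isValue]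
      · rw [← lev_succ, ← lev_succ, hlu, hlu']
      · rw [hR, hR']
      · rw [B_rev i u v, B_rev i u' v', hP, hR, hP', hR']
      · rw [← lev_succ, ← lev_succ, hlv, hlv']
    · intro j a
      fin_cases a <;> simp only [P, R, frameO, Matrix.cons_val_zero, Matrix.cons_val_one, Fin.zero_eta, Fin.mk_one,
        Fin.isValue, hlu, hlu', hlv, hlv']

theorem map_lev {y : QUni F W} {φ : V ≃ₗ[F] W} (hg : ∀ u, φ (x.g u) = y.g (φ u)) (hQ : ∀ u, y.Q (φ u) = x.Q u)
    (j : ℕ) (u : V) : y.lev j (φ u) = x.lev j u := by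
  cases j with
  | zero => exact hQ u
  | succ i => rw [lev_succ, lev_succ, ← map_T_pow hg, ← map_N hg, B_map hQ]

theorem IsPiece.of_iso {y : QUni F W} {p : Piece} (h : x.Iso y) (hx : x.IsPiece p) : y.IsPiece p := by
  obtain ⟨φ, hg, hQ⟩ := h
  have hd := φ.finrank_eq
  have eT : ∀ (i : ℕ) (a b : V), y.B ((y.T ^ i) (φ a)) (φ b) = x.B ((x.T ^ i) a) b := fun i a b => by
    rw [← map_T_pow hg, B_map hQ]
  have eN : ∀ (i : ℕ) (a b : V), y.B (y.N ((y.T ^ i) (φ a))) (φ b) = x.B (x.N ((x.T ^ i) a)) b := fun i a b => by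
    rw [← map_T_pow hg, ← map_N hg, B_map hQ]
  cases p with
  | v k b =>
    obtain ⟨hd', u, hu, hl⟩ := hx
    exact ⟨hd ▸ hd', φ u, by rw [← map_T_pow hg, hu, map_zero], fun j => by rw [map_lev hg hQ, hl]⟩
  | e k =>
    obtain ⟨hd', u, v, hu, hv, hlu, hlv, hP, hR⟩ := hx
    exact ⟨hd ▸ hd', φ u, φ v, by rw [← map_T_pow hg, hu, map_zero], by rw [← map_T_pow hg, hv, map_zero],
      fun j => by rw [map_lev hg hQ, hlu], fun j => by rw [map_lev hg hQ, hlv], fun i => by rw [eT, hP],
      fun i => by rw [eN, hR]⟩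
  | o k b =>
    obtain ⟨hd', u, v, hu, hv, hlu, hlv, hP, hR⟩ := hx
    exact ⟨hd ▸ hd', φ u, φ v, by rw [← map_T_pow hg, ← map_N hg, hu, map_zero],
      by rw [← map_T_pow hg, ← map_N hg, hv, map_zero], fun j => by rw [map_lev hg hQ, hlu],
      fun j => by rw [map_lev hg hQ, hlv], fun i => by rw [eT, hP], fun i => by rw [eN, hR]⟩

end QUni

/-- A piece occurs. -/
def Real (F : Type*) [Field F] [CharP F 2] [Finite F] (p : Piece) : Prop :=
  ∃ (d : ℕ) (x : QUni F (Fin d → F)), x.IsPiece p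

/-- The class of a piece. -/
noncomputable def pc (F : Type*) [Field F] [CharP F 2] [Finite F] (p : Piece) : Mon F :=
  if h : Real F p then cls h.choose_spec.choose else 0

variable [FiniteDimensional F V]

theorem real_of_isPiece {x : QUni F V} {p : Piece} (h : x.IsPiece p) : Real F p :=
  ⟨_, _, h.of_iso (x.pull_iso (Module.finBasis F V).equivFun.symm).symm⟩

theorem cls_eq_pc {x : QUni F V} {p : Piece} (h : x.IsPiece p) : cls x = pc F p := by
  have hr := real_of_isPiece h
  rw [pc, dif_pos hr]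
  exact cls_eq_iff.2 (QUni.iso_of_isPiece h hr.choose_spec.choose_spec)

theorem Real.exists_rep {p : Piece} (h : Real F p) :
    ∃ (d : ℕ) (x : QUni F (Fin d → F)), x.IsPiece p ∧ cls x = pc F p :=
  ⟨_, _, h.choose_spec.choose_spec, cls_eq_pc h.choose_spec.choose_spec⟩

namespace QUni

variable {x : QUni F V}

theorem space_lev {r n₀ n₁ : ℕ} (P : x.Frame r n₀ n₁) (j : ℕ) (u : P.span) : P.space.lev j u = x.lev j u ∧
    ((P.space.T ^ j) u : V) = (x.T ^ j) u := by
  have hT : ∀ (a : ℕ) (z : P.span), ((P.space.T ^ a) z : V) = (x.T ^ a) z := by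
    intro a
    induction a with
    | zero => intro z; rfl
    | succ a ih =>
      intro z
      rw [pow_succ', pow_succ', Module.End.mul_apply, Module.End.mul_apply, T_apply, T_apply, Submodule.coe_add, ← ih]
      congr 1
      set q := (P.space.T ^ a) z
      conv_rhs => rw [show (q : V) = x.g (P.space.gi q : V) from (congrArg Subtype.val (P.space.g_gi q)).symm]
      rw [x.gi_g]
  refine ⟨?_, hT j u⟩
  cases j with
  | zero => rfl
  | succ i =>
    rw [lev_succ, lev_succ, ← hT]
    rfl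

theorem space_N {r n₀ n₁ : ℕ} (P : x.Frame r n₀ n₁) (u : P.span) : (P.space.N u : V) = x.N u := rfl

theorem space_B {r n₀ n₁ : ℕ} (P : x.Frame r n₀ n₁) (u v : P.span) : P.space.B u v = x.B u v := rfl

theorem Frame.cls_split {r n₀ n₁ : ℕ} (P : x.Frame r n₀ n₁) :
    cls P.space + cls (x.rest P.span P.invariant P.sep_span) = cls x :=
  EvenClass.cls_split x P.span P.invariant P.sep_span

theorem isPiece_v {k : ℕ} {b : Bool} {u : V} (h : x.StdV k b u) :
    (x.frameV h.1 (by rw [h.2, if_pos rfl]; exact one_ne_zero)).space.IsPiece (.v k b) := by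
  set P := x.frameV h.1 (by rw [h.2, if_pos rfl]; exact one_ne_zero)
  refine ⟨by rw [P.finrank_span, one_mul, two_mul], ⟨u, P.w_mem 0⟩, Subtype.ext ?_, fun j => ?_⟩
  · rw [(space_lev P (k + 1) _).2]; exact h.1
  · rw [(space_lev P j _).1]; exact h.2 j

theorem isPiece_e {k : ℕ} {u v : V} (h : x.StdE k u v) :
    (x.frameE h.1 h.2.1 (h.2.2.1 _) (h.2.2.2.1 _) (by rw [h.2.2.2.2.2, if_pos rfl])).space.IsPiece (.e k) := by
  set P := x.frameE h.1 h.2.1 (h.2.2.1 _) (h.2.2.2.1 _) (by rw [h.2.2.2.2.2, if_pos rfl])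
  obtain ⟨hu, hv, hlu, hlv, hP, hR⟩ := h
  refine ⟨by rw [P.finrank_span]; ring, ⟨u, P.w_mem 0⟩, ⟨v, P.w_mem 1⟩, Subtype.ext ?_, Subtype.ext ?_,
    fun j => ?_, fun j => ?_, fun i => ?_, fun i => ?_⟩
  · rw [(space_lev P (k + 1) _).2]; exact hu
  · rw [(space_lev P (k + 1) _).2]; exact hv
  · rw [(space_lev P j _).1]; exact hlu j
  · rw [(space_lev P j _).1]; exact hlv j
  · rw [space_B, (space_lev P i _).2]; exact hP i
  · rw [space_B, space_N, (space_lev P i _).2]; exact hR i

theorem isPiece_o {k : ℕ} {b : Bool} {u v : V} (h : x.StdO k b u v) :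
    (x.frameO h.1 h.2.1 (by rw [h.2.2.2.2.1, if_pos rfl])).space.IsPiece (.o k b) := by
  set P := x.frameO h.1 h.2.1 (by rw [h.2.2.2.2.1, if_pos rfl])
  obtain ⟨hu, hv, hlu, hlv, hP, hR⟩ := h
  refine ⟨by rw [P.finrank_span]; ring, ⟨u, P.w_mem 0⟩, ⟨v, P.w_mem 1⟩, Subtype.ext ?_, Subtype.ext ?_,
    fun j => ?_, fun j => ?_, fun i => ?_, fun i => ?_⟩
  · rw [space_N, (space_lev P k _).2]; exact hu
  · rw [space_N, (space_lev P k _).2]; exact hv
  · rw [(space_lev P j _).1]; exact hlu j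
  · rw [(space_lev P j _).1]; exact hlv j
  · rw [space_B, (space_lev P i _).2]; exact hP i
  · rw [space_B, space_N, (space_lev P i _).2]; exact hR i

end QUni

/-! ### existence of decompositions -/

/-- The class of a multiset of pieces. -/
noncomputable def val (F : Type*) [Field F] [CharP F 2] [Finite F] (s : Multiset Piece) : Mon F := (s.map (pc F)).sum

/-- Half the dimension of a multiset of pieces. -/
def weight (s : Multiset Piece) : ℕ := (s.map Piece.half).sum

/-- A multiset is a decomposition. -/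
def IsDec (x : QUni F V) (s : Multiset Piece) : Prop :=
  val F s = cls x ∧ (∀ p ∈ s, Real F p) ∧ 2 * weight s = finrank F V

theorem exists_dec.{u} : ∀ (d : ℕ) {V : Type u} [AddCommGroup V] [Module F V] [FiniteDimensional F V] (x : QUni F V),
    finrank F V = d → ∃ s, IsDec x s := by
  intro d
  induction d using Nat.strong_induction_on with
  | _ d ih =>
  intro V _ _ _ x hd
  rcases Nat.eq_zero_or_pos d with hd0 | hd0
  · haveI : Subsingleton V := Module.finrank_zero_iff.1 (hd.trans hd0)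
    exact ⟨0, by rw [cls_eq_zero x, val, Multiset.map_zero, Multiset.sum_zero], fun p hp => absurd hp (Multiset.notMem_zero p),
      by rw [hd, hd0]; rfl⟩
  haveI : Nontrivial V := Module.finrank_pos_iff.1 (hd.symm ▸ hd0)
  have hnil := x.T_nilpotent
  set m := Nat.find hnil with hm
  have hTm : x.T ^ m = 0 := Nat.find_spec hnil
  obtain ⟨k, hk⟩ : ∃ k, m = k + 1 := ⟨m - 1, by
    have : m ≠ 0 := fun h => by rw [h, pow_zero] at hTm; exact one_ne_zero hTm
    omega⟩
  rw [hk] at hTm
  have hz : ∀ u, (x.T ^ (k + 1)) u = 0 := fun u => by rw [hTm]; rfl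
  -- it suffices to split off one piece
  suffices h : ∃ (p : Piece) (r n₀ n₁ : ℕ) (P : x.Frame r n₀ n₁), P.space.IsPiece p by
    obtain ⟨p, r, n₀, n₁, P, hp⟩ := h
    have hph : finrank F P.span = 2 * p.half := by cases p <;> exact hp.1
    have hsum := P.finrank_rest
    rw [← P.finrank_span, hph] at hsum
    have hpos : 0 < p.half := by cases p <;> simp [Piece.half]
    obtain ⟨s, hs1, hs2, hs3⟩ := ih (finrank F (x.B.orthogonal P.span)) (by omega)
      (x.rest P.span P.invariant P.sep_span) rfl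
    refine ⟨p ::ₘ s, ?_, fun q hq => ?_, ?_⟩
    · have hs1' := hs1
      simp only [val] at hs1' ⊢
      rw [Multiset.map_cons, Multiset.sum_cons, hs1', ← cls_eq_pc hp, P.cls_split]
    · rcases Multiset.mem_cons.1 hq with rfl | h
      · exact real_of_isPiece hp
      · exact hs2 q h
    · simp only [weight] at hs3 ⊢
      rw [Multiset.map_cons, Multiset.sum_cons]
      omega
  by_cases h1 : ∃ u, x.lev (k + 1) u ≠ 0
  · obtain ⟨u, hu⟩ := h1
    obtain ⟨u', hu'⟩ := x.exists_stdV (hz u) hu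
    exact ⟨_, _, _, _, _, x.isPiece_v hu'⟩
  push Not at h1
  by_cases h2 : ∃ u, x.N ((x.T ^ k) u) ≠ 0
  · obtain ⟨u, hu⟩ := h2
    obtain ⟨v, hv⟩ : ∃ v, x.B (x.N ((x.T ^ k) u)) v ≠ 0 := by
      by_contra h; push Not at h; exact hu (x.sep _ h)
    obtain ⟨u', v', h⟩ := x.exists_stdE (hz u) (hz ((x.B (x.N ((x.T ^ k) u)) v)⁻¹ • v)) (h1 u) (h1 _)
      (by rw [map_smul, smul_eq_mul, inv_mul_cancel₀ hv])
    exact ⟨_, _, _, _, _, x.isPiece_e h⟩
  push Not at h2
  obtain ⟨u, hu⟩ : ∃ u, (x.T ^ k) u ≠ 0 := by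
    by_contra h
    push Not at h
    exact Nat.find_min hnil (show k < m by omega) (LinearMap.ext h)
  obtain ⟨v, hv⟩ : ∃ v, x.B ((x.T ^ k) u) v ≠ 0 := by
    by_contra h; push Not at h; exact hu (x.sep _ h)
  obtain ⟨b, u', v', -, h⟩ := x.exists_stdO (h2 u) (h2 ((x.B ((x.T ^ k) u) v)⁻¹ • v))
    (by rw [map_smul, smul_eq_mul, inv_mul_cancel₀ hv])
  exact ⟨_, _, _, _, _, x.isPiece_o h⟩

end CfsgLib.Char.EvenClass
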