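import Cfsg.Agent.Lib.Char.EvenClass.Split
import Cfsg.Agent.Lib.Char.SpClass.Count
import Cfsg.Agent.Lib.IsometryConj.OrthBlock

/-!
# The tuple of a symplectic matrix in characteristic two, stripped of the root one

The entries of the tuple are powers of `X - 1` times symmetrisations; the multiplicities are the numbers of blocks on
the eigenspace at one, and the symmetrised parts form a tuple of half the remaining weight.
-/

set_option autoImplicit false
set_option linter.unusedSectionVars false

open scoped Classical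

namespace CfsgLib.Char.EvenClass

open Polynomial Matrix Module CfsgLib.IsometryConj CfsgLib.GLClass
open CfsgLib.Char.SpClass (bigExp eid eSpace rnk rdual coeff_rdual rdual_mul rdual_pow rdual_X_sub_C toFin toFin_val
  rdual_classTup rank_aeval_toFin rnk_conj)

variable {F : Type*} [Field F] [CharP F 2]

theorem exists_symmetrize_of_fixed [Fintype F] {h : F[X]} (hm : h.Monic) (h0 : h.eval 0 ≠ 0) (hs : rdual h = h)
    (h1 : h.eval 1 ≠ 0) :
    ∃ Q : F[X], Q.Monic ∧ h.natDegree = 2 * Q.natDegree ∧ Q.eval 0 ≠ 0 ∧ symmetrize Q.natDegree Q = h := by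
  have hco : ∀ j ≤ h.natDegree, h.coeff (h.natDegree - j) = h.eval 0 * h.coeff j := fun j hj => by
    have e := coeff_rdual (g := h) j hj
    rw [hs] at e
    rw [e, ← mul_assoc, mul_inv_cancel₀ h0, one_mul]
  have hc1 : h.eval 0 = 1 := by
    have e : h.eval 1 = h.eval 0 * h.eval 1 := by
      conv_lhs => rw [Polynomial.eval_eq_sum_range, ← Finset.sum_range_reflect]
      conv_rhs => arg 2; rw [Polynomial.eval_eq_sum_range]
      rw [Finset.mul_sum]
      refine Finset.sum_congr rfl fun i hi => ?_
      have hi' : i ≤ h.natDegree := Nat.le_of_lt_succ (Finset.mem_range.1 hi)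
      rw [show h.natDegree + 1 - 1 - i = h.natDegree - i by omega, hco i hi', one_pow, one_pow, mul_one, mul_one]
    exact (mul_eq_right₀ h1).1 e.symm
  have hev : Even h.natDegree := by
    by_contra hodd
    refine h1 ?_
    rw [Polynomial.eval_eq_sum_range]
    refine Finset.sum_involution (fun i _ => h.natDegree - i) (fun i hi => ?_) (fun i hi _ he => ?_)
      (fun i hi => ?_) (fun i hi => ?_)
    · have hi' := Nat.le_of_lt_succ (Finset.mem_range.1 hi)
      rw [hco i hi', hc1, one_mul, one_pow, one_pow, mul_one]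
      exact CharTwo.add_self_eq_zero _
    · have hi' := Nat.le_of_lt_succ (Finset.mem_range.1 hi)
      exact hodd ⟨i, by omega⟩
    · exact Finset.mem_range.2 (by omega)
    · have := Finset.mem_range.1 hi; omega
  obtain ⟨d, hd⟩ := hev
  rw [← two_mul] at hd
  obtain ⟨Q, hQm, hQd, hQs⟩ := exists_symmetrize h hm hd fun j hj => by
    rw [← hd] at hj ⊢
    rw [hco j hj, hc1, one_mul]
  subst hQd
  refine ⟨Q, hQm, hd, ?_, hQs⟩
  have h2 := symmetrize_eval_one Q.natDegree Q le_rfl
  rw [hQs, show (2 : F) = 0 from CharTwo.two_eq_zero] at h2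
  rwa [← h2]

variable [Fintype F] {m : ℕ}

local notation "Mat" => Matrix (Fin m ⊕ Fin m) (Fin m ⊕ Fin m) F
local notation "Jst" => Adjoint.st (sympAdjoint m F)

theorem st_mem (x : ↥(Matrix.symplecticGroup (Fin m) F)) : Jst (x : Mat) * (x : Mat) = 1 :=
  (sympAdjoint_mem_iff _).1 x.2

/-- The part at one of a group element. -/
noncomputable abbrev sX (x : ↥(Matrix.symplecticGroup (Fin m) F)) : QUni F (eSpace (1 : F) (x : Mat)) :=
  sE (x : Mat) (st_mem x)

/-- The multiplicity of the root one. -/
noncomputable def mu (x : ↥(Matrix.symplecticGroup (Fin m) F)) (k : Fin (m + m)) : ℕ :=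
  ((classTup (toFin m F x)).1 k).1.rootMultiplicity 1

theorem count_normalizedFactors_root {g : F[X]} (hg : g ≠ 0) (c : F) :
    Multiset.count (X - Polynomial.C c) (UniqueFactorizationMonoid.normalizedFactors g) = g.rootMultiplicity c := by
  obtain ⟨h, hh, hn⟩ := g.exists_eq_pow_rootMultiplicity_mul_and_not_dvd hg c
  refine UniqueFactorizationMonoid.count_normalizedFactors_eq (irreducible_X_sub_C c)
    ((monic_X_sub_C c).normalize_eq_self) (pow_rootMultiplicity_dvd g c) fun hd => ?_
  conv at hd => arg 2; rw [hh]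
  rw [pow_succ] at hd
  exact hn ((mul_dvd_mul_iff_left (pow_ne_zero _ (X_sub_C_ne_zero c))).1 hd)

theorem mu_add (x : ↥(Matrix.symplecticGroup (Fin m) F)) (k : Fin (m + m)) :
    mu x k + 2 * rnk (sX x).N (k.val + 1) = rnk (sX x).N k.val + rnk (sX x).N (k.val + 2) := by
  set D := classDecomp (toFin m F x)
  set P := X - Polynomial.C (1 : F)
  let f : ℕ → ℕ := fun j => ∑ i, if D.P i = P then min (D.e i) j else 0
  have hrk : ∀ j, rnk (sX x).N j + (1 - eid 1 (x : Mat)).rank + f j = ∑ i, D.e i * (D.P i).natDegree := by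
    intro j
    rw [sX, rnk_sE]
    have h := D.rk_add (monic_X_sub_C (1 : F)) (irreducible_X_sub_C (1 : F)) j
    rw [rk_mod, rank_aeval_toFin, map_pow] at h
    simp only [map_sub, aeval_X, aeval_C, Algebra.algebraMap_eq_smul_one, natDegree_X_sub_C, mul_one] at h
    rw [← h, ← sub_one_eq]
  have hc : D.count P (k.val + 1) + f k + f (k.val + 2) = 2 * f (k.val + 1) := by
    rw [Decomp.count, Nat.card_eq_fintype_card, Fintype.card_subtype, Finset.card_filter]
    simp only [f, ← Finset.sum_add_distrib, Finset.mul_sum]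
    refine Finset.sum_congr rfl fun i _ => ?_
    by_cases hR : D.P i = P <;> simp [hR] <;> split_ifs <;> omega
  have hmu : mu x k = D.count P (k.val + 1) := by
    rw [mu, Nat.add_comm k.val 1, count_eq_classTup,
      count_normalizedFactors_root ((classTup (toFin m F x)).1 k).2.1.ne_zero]
  have a0 := hrk k
  have a1 := hrk (k.val + 1)
  have a2 := hrk (k.val + 2)
  omega

theorem sum_mu (x : ↥(Matrix.symplecticGroup (Fin m) F)) :
    ∑ k : Fin (m + m), (1 + k.val) * mu x k = finrank F (eSpace (1 : F) (x : Mat)) := by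
  set N := (sX x).N
  have hdim : finrank F (eSpace (1 : F) (x : Mat)) ≤ m + m := by
    have := Submodule.finrank_le (eSpace (1 : F) (x : Mat))
    rwa [Module.finrank_pi, Fintype.card_sum, Fintype.card_fin] at this
  have hzero : ∀ M, m + m ≤ M → rnk N M = 0 := fun M hM => by
    have hn : N ^ M = 0 := by
      have h1 : N ^ finrank F (eSpace (1 : F) (x : Mat)) = 0 := by
        have h := LinearMap.aeval_self_charpoly N
        have hnil : IsNilpotent N := (sX x).nil
        rwa [hnil.charpoly_eq_X_pow_finrank, map_pow, aeval_X] at h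
      rw [← Nat.sub_add_cancel (hdim.trans hM), pow_add, h1, mul_zero]
    rw [rnk, hn, LinearMap.range_zero, finrank_bot]
  have h0 : rnk N 0 = finrank F (eSpace (1 : F) (x : Mat)) := by
    rw [rnk, pow_zero]
    rw [LinearMap.range_eq_top.2 fun v => ⟨v, rfl⟩, finrank_top]
  let g : ℕ → ℕ := fun k => if h : k < m + m then mu x ⟨k, h⟩ else 0
  have hg : ∀ k < m + m, g k + 2 * rnk N (k + 1) = rnk N k + rnk N (k + 2) := fun k hk => by
    simp only [g, dif_pos hk]; exact mu_add x ⟨k, hk⟩
  have key : ∀ M ≤ m + m,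
      ∑ k ∈ Finset.range M, (1 + k) * g k + (M + 1) * rnk N M = rnk N 0 + M * rnk N (M + 1) := by
    intro M
    induction M with
    | zero => simp
    | succ M ih =>
      intro hM
      have h1 := ih (by omega)
      have h2 := hg M (by omega)
      rw [Finset.sum_range_succ]
      have h3 := congrArg (fun t => (M + 1) * t) h2
      simp only [mul_add] at h3
      linarith
  have h := key (m + m) le_rfl
  rw [h0, hzero _ le_rfl, hzero _ (by omega)] at h
  rw [← Fin.sum_univ_eq_sum_range (fun k => (1 + k) * g k) (m + m)] at h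
  simp only [g, Fin.is_lt, dite_true, Fin.eta, mul_zero, add_zero] at h
  exact h

theorem exists_strip (x : ↥(Matrix.symplecticGroup (Fin m) F)) :
    ∃ R : Fin (m + m) → MonicNZ F,
      (∀ k, ((classTup (toFin m F x)).1 k).1 =
        (X - Polynomial.C 1) ^ mu x k * symmetrize (R k).1.natDegree (R k).1) ∧
      2 * ∑ k : Fin (m + m), (1 + k.val) * (R k).1.natDegree + finrank F (eSpace (1 : F) (x : Mat)) = m + m := by
  have hk : ∀ k : Fin (m + m), ∃ R : MonicNZ F,
      ((classTup (toFin m F x)).1 k).1 = (X - Polynomial.C 1) ^ mu x k * symmetrize R.1.natDegree R.1 ∧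
        ((classTup (toFin m F x)).1 k).1.natDegree = mu x k + 2 * R.1.natDegree := by
    intro k
    set g := (classTup (toFin m F x)).1 k with hgdef
    obtain ⟨h, hh, hn⟩ := g.1.exists_eq_pow_rootMultiplicity_mul_and_not_dvd g.2.1.ne_zero 1
    change g.1 = (X - Polynomial.C 1) ^ mu x k * h at hh
    have hp : ((X - Polynomial.C (1 : F)) ^ mu x k).Monic := (monic_X_sub_C 1).pow _
    have hm : h.Monic := hp.of_mul_monic_left (hh ▸ g.2.1)
    have h0 : h.eval 0 ≠ 0 := fun hz => g.2.2 (by rw [hh, eval_mul, hz, mul_zero])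
    have h1 : h.eval 1 ≠ 0 := fun hz => hn (dvd_iff_isRoot.2 hz)
    have hs : rdual h = h := by
      have e2 : rdual g.1 = (X - Polynomial.C 1) ^ mu x k * rdual h := by
        rw [hh, rdual_mul, rdual_pow, rdual_X_sub_C (one_mul 1)]
      rw [hgdef, rdual_classTup x k, ← hgdef, hh] at e2
      exact (mul_left_cancel₀ hp.ne_zero e2).symm
    obtain ⟨Q, hQm, hQd, hQ0, hQs⟩ := exists_symmetrize_of_fixed hm h0 hs h1
    refine ⟨⟨Q, hQm, hQ0⟩, by rw [hQs, ← hh], ?_⟩
    rw [hh, hp.natDegree_mul hm, natDegree_pow, natDegree_X_sub_C, mul_one, hQd]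
  choose R hR hRd using hk
  refine ⟨R, hR, ?_⟩
  have h := (classTup (toFin m F x)).2
  simp only [hRd, mul_add, Finset.sum_add_distrib, sum_mu] at h
  rw [Finset.mul_sum]
  rw [show ∑ k : Fin (m + m), 2 * ((1 + k.val) * (R k).1.natDegree) =
    ∑ k : Fin (m + m), (1 + k.val) * (2 * (R k).1.natDegree) from Finset.sum_congr rfl fun k _ => by ring]
  omega

/-- The symmetrised parts. -/
noncomputable def strip (x : ↥(Matrix.symplecticGroup (Fin m) F)) : Fin (m + m) → MonicNZ F :=
  (exists_strip x).choose

theorem classTup_eq_strip (x : ↥(Matrix.symplecticGroup (Fin m) F)) (k : Fin (m + m)) :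
    ((classTup (toFin m F x)).1 k).1 =
      (X - Polynomial.C 1) ^ mu x k * symmetrize (strip x k).1.natDegree (strip x k).1 :=
  (exists_strip x).choose_spec.1 k

theorem weight_strip (x : ↥(Matrix.symplecticGroup (Fin m) F)) :
    2 * ∑ k : Fin (m + m), (1 + k.val) * (strip x k).1.natDegree + finrank F (eSpace (1 : F) (x : Mat)) = m + m :=
  (exists_strip x).choose_spec.2

/-- Symplectic matrices with isometric parts at one and equal stripped tuples are similar. -/
theorem classTup_eq_of (x y : ↥(Matrix.symplecticGroup (Fin m) F)) (h : (sX x).SIso (sX y))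
    (hs : strip x = strip y) : classTup (toFin m F x) = classTup (toFin m F y) := by
  obtain ⟨φ, hg, -⟩ := h
  have hN : ∀ j, rnk (sX x).N j = rnk (sX y).N j := rnk_conj φ (QUni.map_N hg)
  refine Subtype.ext (funext fun k => Subtype.ext ?_)
  have hk : mu x k = mu y k := by
    have h1 := mu_add x k
    have h2 := mu_add y k
    rw [hN, hN, hN] at h1
    omega
  rw [classTup_eq_strip, classTup_eq_strip, hk, hs]

theorem exists_units_of_classTup (x y : ↥(Matrix.symplecticGroup (Fin m) F))
    (h : classTup (toFin m F x) = classTup (toFin m F y)) :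
    ∃ p : (Mat)ˣ, (p : Mat) * (x : Mat) = (y : Mat) * p := by
  obtain ⟨u, hu⟩ := isConj_of_classTup_eq h
  let p : (Mat)ˣ := Units.map (Matrix.reindexAlgEquiv F F finSumFinEquiv.symm).toMonoidHom (u : GL (Fin (m + m)) F)
  have hrr : ∀ z : ↥(Matrix.symplecticGroup (Fin m) F), (Matrix.reindexAlgEquiv F F finSumFinEquiv.symm)
      ((toFin m F z : GL (Fin (m + m)) F) : Matrix (Fin (m + m)) (Fin (m + m)) F) = (z : Mat) := fun z => by
    rw [toFin_val]; ext i j; simp
  refine ⟨p, ?_⟩
  have h := congrArg (fun z : GL (Fin (m + m)) F => (Matrix.reindexAlgEquiv F F finSumFinEquiv.symm)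
    (z : Matrix (Fin (m + m)) (Fin (m + m)) F)) hu.eq
  simp only [Units.val_mul, map_mul, hrr] at h
  exact h

/-- The characteristic polynomial from the stripped tuple. -/
theorem charpoly_strip (x : ↥(Matrix.symplecticGroup (Fin m) F)) :
    (x : Mat).charpoly = (X - Polynomial.C 1) ^ finrank F (eSpace (1 : F) (x : Mat)) *
      ∏ k : Fin (m + m), symmetrize (strip x k).1.natDegree (strip x k).1 ^ (1 + k.val) := by
  have h1 : ((toFin m F x : GL (Fin (m + m)) F) : Matrix (Fin (m + m)) (Fin (m + m)) F).charpoly =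
      ∏ k : Fin (m + m), ((classTup (toFin m F x)).1 k).1 ^ (1 + k.val) := by
    rw [charpoly_eq_prod, ← Finset.prod_fiberwise Finset.univ (classIdx (toFin m F x))]
    refine Finset.prod_congr rfl fun k _ => ?_
    simp only [classTup]
    rw [← Finset.prod_pow]
    refine Finset.prod_congr rfl fun i hi => ?_
    rw [← (Finset.mem_filter.1 hi).2, one_add_classIdx]
  rw [toFin_val, Matrix.charpoly_reindex] at h1
  rw [h1, ← sum_mu x]
  simp only [classTup_eq_strip, mul_pow, Finset.prod_mul_distrib, ← pow_mul, Finset.prod_pow_eq_pow_sum]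
  congr 2
  exact Finset.sum_congr rfl fun k _ => mul_comm _ _

theorem card_tup_le {M W : ℕ} (hW : W ≤ M) : Nat.card (Tup F M 1 W) ≤ Fintype.card F ^ W := by
  rcases Nat.eq_zero_or_pos W with rfl | h
  · exact le_of_eq (tupCard_zero (F := F) M le_rfl)
  · exact (tupCard_lt_pow M W h hW).le

end CfsgLib.Char.EvenClass
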