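import Cfsg.Agent.Lib.Char.EvenClass.Piece

/-!
# Relations between pieces

Bits can be moved away from `V (2h)` by `V (2h)` and `V (2h-2)` and from `W (2h+1)` by `W (2h+1)`, `V (2h)` and
`V (2h+2)`; three copies of `V (2h)` contain a `W (2h)`. Changing the quadratic form removes the bits of `V 2`
and `W 1`.
-/

set_option autoImplicit false
set_option linter.unusedSectionVars false

open scoped Classical

namespace CfsgLib.Char.EvenClass

open Module

/-- A piece with another bit. -/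
def Piece.setBit : Piece → Bool → Piece
  | .v k _, b => .v k b
  | .e k, _ => .e k
  | .o k _, b => .o k b

variable {F : Type*} [Field F] [CharP F 2] [Finite F]
variable {V W : Type*} [AddCommGroup V] [Module F V] [AddCommGroup W] [Module F W]

namespace QUni

variable {x : QUni F V}

theorem T_pow_eq_zero_of_frame {r n₀ n₁ : ℕ} (P : x.Frame r n₀ n₁) (hP : P.span = ⊤) : x.T ^ n₀ = 0 := by
  refine LinearMap.ext fun u => ?_
  have hu : u ∈ P.span := hP ▸ Submodule.mem_top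
  induction hu using Submodule.span_induction with
  | mem v hv =>
    obtain ⟨s, rfl⟩ := hv
    rcases s with ⟨k, a⟩ | ⟨k, a⟩
    · exact (x.T_pow_T_pow _ _ _).trans (x.T_pow_apply_zero (P.killT k) (by omega))
    · show (x.T ^ n₀) (x.N _) = 0
      rw [x.T_pow_N, x.T_pow_T_pow, x.T_pow_apply_zero (P.killT k) (by omega), map_zero]
  | zero => simp
  | add a b _ _ ha hb => rw [map_add, ha, hb]; simp
  | smul c a _ ha => rw [map_smul, ha]; simp

theorem NT_eq_zero_of_frame {r n₀ n₁ : ℕ} (P : x.Frame r n₀ n₁) (hP : P.span = ⊤) : x.N * x.T ^ n₁ = 0 := by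
  refine LinearMap.ext fun u => ?_
  have hu : u ∈ P.span := hP ▸ Submodule.mem_top
  induction hu using Submodule.span_induction with
  | mem v hv =>
    obtain ⟨s, rfl⟩ := hv
    rcases s with ⟨k, a⟩ | ⟨k, a⟩
    · show x.N ((x.T ^ n₁) ((x.T ^ (a : ℕ)) (P.w k))) = 0
      rw [x.T_pow_T_pow, P.NT_eq_zero (by omega)]
    · show x.N ((x.T ^ n₁) (x.N ((x.T ^ (a : ℕ)) (P.w k)))) = 0
      rw [x.T_pow_N, x.T_pow_T_pow, P.NT_eq_zero (by omega), map_zero]
  | zero => simp
  | add a b _ _ ha hb => rw [map_add, ha, hb]; simp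
  | smul c a _ ha => rw [map_smul, ha]; simp

variable [FiniteDimensional F V] [FiniteDimensional F W]

theorem prod_N (x : QUni F V) (y : QUni F W) (u : V × W) : (x.prod y).N u = (x.N u.1, y.N u.2) := rfl

theorem prod_B (x : QUni F V) (y : QUni F W) (u v : V × W) : (x.prod y).B u v = x.B u.1 v.1 + y.B u.2 v.2 := by
  simp [QUni.prod]

theorem prod_lev (x : QUni F V) (y : QUni F W) (j : ℕ) (u : V × W) :
    (x.prod y).lev j u = x.lev j u.1 + y.lev j u.2 := by
  cases j with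
  | zero => rfl
  | succ i => rw [lev_succ, lev_succ, lev_succ, prod_T_pow, prod_N, prod_B]

theorem facts_v {k : ℕ} {b : Bool} (h : x.IsPiece (.v k b)) : x.rkT (k + 1) = 0 ∧ x.rkN k ≠ 0 := by
  obtain ⟨hd, u, hu, hl⟩ := h
  let P := x.frameV hu (by rw [hl, if_pos rfl]; exact one_ne_zero)
  refine ⟨rkT_eq_zero.2 (T_pow_eq_zero_of_frame P (P.span_eq_top (by rw [hd, one_mul, two_mul]))), fun h0 => ?_⟩
  have h1 := hl (k + 1)
  rw [if_pos rfl, lev_succ, ← Module.End.mul_apply, rkN_eq_zero.1 h0, LinearMap.zero_apply, map_zero,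
    LinearMap.zero_apply] at h1
  exact zero_ne_one h1

theorem facts_o {k : ℕ} {b : Bool} (h : x.IsPiece (.o k b)) : x.rkN k = 0 ∧ x.rkT k ≠ 0 := by
  obtain ⟨hd, u, v, hu, hv, -, -, hP, -⟩ := h
  let P := x.frameO hu hv (by rw [hP, if_pos rfl])
  refine ⟨rkN_eq_zero.2 (NT_eq_zero_of_frame P (P.span_eq_top (by rw [hd]; ring))), fun h0 => ?_⟩
  have h1 := hP k
  rw [if_pos rfl, rkT_eq_zero.1 h0, LinearMap.zero_apply, map_zero, LinearMap.zero_apply] at h1
  exact zero_ne_one h1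

theorem single_v {k : ℕ} (hd : finrank F V = 2 * (k + 1)) (hT : x.rkT (k + 1) = 0) (hN : x.rkN k ≠ 0) :
    ∃ b, x.IsPiece (.v k b) := by
  have hz : ∀ u, (x.T ^ (k + 1)) u = 0 := fun u => by rw [rkT_eq_zero.1 hT]; rfl
  by_cases h1 : ∃ u, x.lev (k + 1) u ≠ 0
  · obtain ⟨u, hu⟩ := h1
    obtain ⟨u', h⟩ := x.exists_stdV (hz u) hu
    exact ⟨_, hd, u', h⟩
  push Not at h1
  exfalso
  obtain ⟨u, hu⟩ : ∃ u, x.N ((x.T ^ k) u) ≠ 0 := by
    by_contra h; push Not at h; exact hN (rkN_eq_zero.2 (LinearMap.ext h))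
  obtain ⟨v, hv⟩ : ∃ v, x.B (x.N ((x.T ^ k) u)) v ≠ 0 := by
    by_contra h; push Not at h; exact hu (x.sep _ h)
  have P := x.frameE (hz u) (hz ((x.B (x.N ((x.T ^ k) u)) v)⁻¹ • v)) (h1 u) (h1 _)
    (by rw [map_smul, smul_eq_mul, inv_mul_cancel₀ hv])
  have := P.finrank_rest
  omega

theorem single_o {k : ℕ} (hd : finrank F V = 2 * (2 * k + 1)) (hN : x.rkN k = 0) (hT : x.rkT k ≠ 0) :
    ∃ b, x.IsPiece (.o k b) := by
  have hz : ∀ u, x.N ((x.T ^ k) u) = 0 := fun u => by rw [← Module.End.mul_apply, rkN_eq_zero.1 hN]; rfl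
  obtain ⟨u, hu⟩ : ∃ u, (x.T ^ k) u ≠ 0 := by
    by_contra h; push Not at h; exact hT (rkT_eq_zero.2 (LinearMap.ext h))
  obtain ⟨v, hv⟩ : ∃ v, x.B ((x.T ^ k) u) v ≠ 0 := by
    by_contra h; push Not at h; exact hu (x.sep _ h)
  obtain ⟨b, u', v', -, h⟩ := x.exists_stdO (hz u) (hz ((x.B ((x.T ^ k) u) v)⁻¹ • v))
    (by rw [map_smul, smul_eq_mul, inv_mul_cancel₀ hv])
  exact ⟨b, hd, u', v', h⟩

/-- A space of the size and the ranks of a piece is such a piece. -/
theorem single_of_ranks {y : QUni F W} {q : Piece} (hq : y.IsPiece q) (he : ∀ k, q ≠ .e k)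
    (hd : finrank F V = finrank F W) (hT : ∀ a, x.rkT a = y.rkT a) (hN : ∀ a, x.rkN a = y.rkN a) :
    ∃ b, x.IsPiece (q.setBit b) := by
  cases q with
  | v k b =>
    obtain ⟨h1, h2⟩ := facts_v hq
    exact single_v (hd.trans hq.1) ((hT _).trans h1) (by rw [hN]; exact h2)
  | e k => exact absurd rfl (he k)
  | o k b =>
    obtain ⟨h1, h2⟩ := facts_o hq
    exact single_o (hd.trans hq.1) ((hN _).trans h1) (by rw [hT]; exact h2)

/-- Exchanging a piece of the same shape inside an orthogonal sum. -/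
theorem exchange {U : Type*} [AddCommGroup U] [Module F U] [FiniteDimensional F U] {z : QUni F U} {y : QUni F W}
    {r n₀ n₁ : ℕ} (P : z.Frame r n₀ n₁) (hP : finrank F U = r * (n₀ + n₁)) (P' : (z.prod y).Frame r n₀ n₁) {q : Piece}
    (hq : y.IsPiece q) (he : ∀ k, q ≠ .e k) :
    ∃ b, cls P'.space + pc F (q.setBit b) = cls z + cls y ∧ Real F (q.setBit b) := by
  set R := (z.prod y).rest P'.span P'.invariant P'.sep_span
  have hsum := P'.finrank_rest
  rw [Module.finrank_prod, hP] at hsum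
  have hT : ∀ a, R.rkT a = y.rkT a := fun a => by
    have h := rkT_rest (z.prod y) P'.span P'.invariant P'.sep_span a
    rw [rkT_prod, ← (P.space_iso hP).sIso.rkT_eq a, (P.rk_eq P' a).1] at h
    exact Nat.add_left_cancel h
  have hN : ∀ a, R.rkN a = y.rkN a := fun a => by
    have h := rkN_rest (z.prod y) P'.span P'.invariant P'.sep_span a
    rw [rkN_prod, ← (P.space_iso hP).sIso.rkN_eq a, (P.rk_eq P' a).2] at h
    exact Nat.add_left_cancel h
  obtain ⟨b, hb⟩ := single_of_ranks (x := R) hq he (by omega) hT hN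
  refine ⟨b, ?_, real_of_isPiece hb⟩
  rw [← cls_eq_pc hb, P'.cls_split, cls_prod]

theorem kill_v {z : QUni F V} {y : QUni F W} {k : ℕ} {q : Piece} (hz : z.IsPiece (.v k true)) (hy : y.IsPiece q)
    (he : ∀ j, q ≠ .e j) (w : W) (hw : (y.T ^ (k + 1)) w = 0) (hw1 : y.lev (k + 1) w = 0) (hw0 : y.lev k w ≠ 0) :
    ∃ b, pc F (.v k true) + pc F q = pc F (.v k false) + pc F (q.setBit b) ∧ Real F (.v k false) ∧
      Real F (q.setBit b) := by
  obtain ⟨hd, u, hu, hl⟩ := id hz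
  obtain ⟨c, hc⟩ := exists_sqrt (al F / y.lev k w)
  set u' : V × W := (u, c • w)
  have hT : ((z.prod y).T ^ (k + 1)) u' = 0 := by
    rw [prod_T_pow]; simp [u', hu, hw]
  have h1 : (z.prod y).lev (k + 1) u' = 1 := by
    rw [prod_lev]; simp [u', hl, y.lev_smul, hw1]
  have h0 : (z.prod y).lev k u' = 0 := by
    rw [prod_lev]
    simp only [u', hl, y.lev_smul, hc, bv, if_neg (show ¬ k = k + 1 by omega), if_pos]
    rw [div_mul_cancel₀ _ hw0, CharTwo.add_self_eq_zero]
  obtain ⟨u₂, hu₂⟩ := (z.prod y).exists_stdV hT (by rw [h1]; exact one_ne_zero)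
  rw [h0, zero_div, show cb (0 : F) = false by simpa [bv] using cb_bv (F := F) false] at hu₂
  let P := z.frameV hu (by rw [hl, if_pos rfl]; exact one_ne_zero)
  obtain ⟨b, hb, hr⟩ := exchange P (by rw [hd, one_mul, two_mul])
    ((z.prod y).frameV hu₂.1 (by rw [hu₂.2, if_pos rfl]; exact one_ne_zero)) hy he
  have h' := (z.prod y).isPiece_v hu₂
  rw [cls_eq_pc h', cls_eq_pc hz, cls_eq_pc hy] at hb
  exact ⟨b, hb.symm, real_of_isPiece h', hr⟩

theorem kill_o {z : QUni F V} {y : QUni F W} {k : ℕ} {q : Piece} (hz : z.IsPiece (.o k true)) (hy : y.IsPiece q)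
    (he : ∀ j, q ≠ .e j) (w : W) (hw : y.N ((y.T ^ k) w) = 0) (hw0 : y.lev k w ≠ 0) :
    ∃ b, pc F (.o k true) + pc F q = pc F (.o k false) + pc F (q.setBit b) ∧ Real F (.o k false) ∧
      Real F (q.setBit b) := by
  obtain ⟨hd, u, v, hu, hv, hlu, hlv, hP, hR⟩ := id hz
  obtain ⟨c, hc⟩ := exists_sqrt (y.lev k w)⁻¹
  set u' : V × W := (u, c • w)
  set v' : V × W := (v, 0)
  have hu' : (z.prod y).N (((z.prod y).T ^ k) u') = 0 := by
    rw [prod_T_pow, prod_N]; simp [u', hu, hw]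
  have hv' : (z.prod y).N (((z.prod y).T ^ k) v') = 0 := by
    rw [prod_T_pow, prod_N]; simp [v', hv]
  have htop : (z.prod y).B (((z.prod y).T ^ k) u') v' = 1 := by
    rw [prod_T_pow, prod_B]; simp [u', v', hP]
  have h0 : (z.prod y).lev k u' = 0 := by
    rw [prod_lev]
    simp [u', hlu, y.lev_smul, hc, inv_mul_cancel₀ hw0, CharTwo.add_self_eq_zero]
  obtain ⟨b₀, u₂, v₂, hb₀, h₂⟩ := (z.prod y).exists_stdO hu' hv' htop
  obtain rfl := hb₀ h0
  let P := z.frameO hu hv (by rw [hP, if_pos rfl])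
  obtain ⟨b, hb, hr⟩ := exchange P (by rw [hd]; ring)
    ((z.prod y).frameO h₂.1 h₂.2.1 (by rw [h₂.2.2.2.2.1, if_pos rfl])) hy he
  have h' := (z.prod y).isPiece_o h₂
  rw [cls_eq_pc h', cls_eq_pc hz, cls_eq_pc hy] at hb
  exact ⟨b, hb.symm, real_of_isPiece h', hr⟩

theorem lev_top_span {r n₀ n₁ : ℕ} (P : x.Frame r n₀ n₁) {j : ℕ} (hj : n₀ ≤ j)
    (h : ∀ i k, j ≤ i → x.lev i (P.w k) = 0) : ∀ u ∈ P.span, x.lev j u = 0 := by
  have hz : ∀ a ∈ P.span, (x.T ^ j) a = 0 := by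
    intro a hma
    induction hma using Submodule.span_induction with
    | mem v hv =>
      obtain ⟨s, rfl⟩ := hv
      rcases s with ⟨k, i⟩ | ⟨k, i⟩
      · exact (x.T_pow_T_pow _ _ _).trans (x.T_pow_apply_zero (P.killT k) (by omega))
      · show (x.T ^ j) (x.N _) = 0
        rw [x.T_pow_N, x.T_pow_T_pow, x.T_pow_apply_zero (P.killT k) (by omega), map_zero]
    | zero => simp
    | add a b _ _ ha hb => rw [map_add, ha, hb, add_zero]
    | smul c a _ ha => rw [map_smul, ha, smul_zero]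
  intro u hu
  induction hu using Submodule.span_induction with
  | mem v hv =>
    obtain ⟨s, rfl⟩ := hv
    rcases s with ⟨k, a⟩ | ⟨k, a⟩
    · exact (x.lev_T_pow _ _ _).trans (h _ k (by omega))
    · show x.lev j (x.N ((x.T ^ (a : ℕ)) (P.w k))) = 0
      rw [x.lev_N, x.lev_T_pow]; exact h _ k (by omega)
  | zero => exact x.lev_zero_vec j
  | add a b hma _ ha hb =>
    rw [x.lev_add, ha, hb, hz a hma, map_zero, LinearMap.zero_apply, add_zero, add_zero]
  | smul c a _ ha => rw [x.lev_smul, ha, mul_zero]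

theorem triple_v {k : ℕ} {b₁ b₂ b₃ : Bool} {U : Type*} [AddCommGroup U] [Module F U] [FiniteDimensional F U]
    {z : QUni F U} (hx : x.IsPiece (.v k b₁)) {y : QUni F W} (hy : y.IsPiece (.v k b₂)) (hz : z.IsPiece (.v k b₃)) :
    ∃ b, pc F (.v k b₁) + pc F (.v k b₂) + pc F (.v k b₃) = pc F (.e k) + pc F (.v k b) ∧ Real F (.e k) ∧
      Real F (.v k b) := by
  obtain ⟨hd1, u1, hu1, hl1⟩ := id hx
  obtain ⟨hd2, u2, hu2, hl2⟩ := id hy
  obtain ⟨hd3, u3, hu3, hl3⟩ := id hz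
  set X := (x.prod y).prod z with hX
  have hTk : ∀ (a : V) (b : W) (c : U), (x.T ^ (k + 1)) a = 0 → (y.T ^ (k + 1)) b = 0 → (z.T ^ (k + 1)) c = 0 →
      (X.T ^ (k + 1)) ((a, b), c) = 0 := fun a b c ha hb hc => by
    rw [hX, prod_T_pow, prod_T_pow]; simp [ha, hb, hc]
  have hlk : ∀ (j : ℕ) (a : V) (b : W) (c : U), X.lev j ((a, b), c) = x.lev j a + y.lev j b + z.lev j c :=
    fun j a b c => by rw [hX, prod_lev, prod_lev]
  set u' : (V × W) × U := ((u1, u2), 0)
  set v' : (V × W) × U := ((0, u2), u3)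
  have hlu : X.lev (k + 1) u' = 0 := by
    rw [hlk, hl1, hl2, z.lev_zero_vec, if_pos rfl, if_pos rfl, CharTwo.add_self_eq_zero, zero_add]
  have hlv : X.lev (k + 1) v' = 0 := by
    rw [hlk, hl3, hl2, x.lev_zero_vec, if_pos rfl, if_pos rfl, zero_add, CharTwo.add_self_eq_zero]
  have htop : X.B (X.N ((X.T ^ k) u')) v' = 1 := by
    rw [hX, prod_T_pow, prod_T_pow, prod_N, prod_N, prod_B, prod_B]
    simp only [u', v', map_zero, LinearMap.zero_apply, ← lev_succ, hl2, if_pos, zero_add, add_zero]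
  obtain ⟨u₂, v₂, h₂⟩ := X.exists_stdE (hTk _ _ _ hu1 hu2 (map_zero _)) (hTk _ _ _ (map_zero _) hu2 hu3) hlu hlv htop
  set P := X.frameE h₂.1 h₂.2.1 (h₂.2.2.1 _) (h₂.2.2.2.1 _) (by rw [h₂.2.2.2.2.2, if_pos rfl])
  have hsum := P.finrank_rest
  rw [Module.finrank_prod, Module.finrank_prod, hd1, hd2, hd3] at hsum
  set R := X.rest P.span P.invariant P.sep_span
  have hTX : X.T ^ (k + 1) = 0 := by
    refine LinearMap.ext fun w => ?_
    have e1 := rkT_eq_zero.1 (facts_v hx).1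
    have e2 := rkT_eq_zero.1 (facts_v hy).1
    have e3 := rkT_eq_zero.1 (facts_v hz).1
    rw [hX, prod_T_pow, prod_T_pow, e1, e2, e3]
    simp
  have hR : ∀ (i : ℕ) (w : X.B.orthogonal P.span), ((R.T ^ i) w : (V × W) × U) = (X.T ^ i) w := by
    intro i
    induction i with
    | zero => intro w; rfl
    | succ i ih =>
      intro w
      rw [pow_succ', pow_succ', Module.End.mul_apply, Module.End.mul_apply, T_apply, T_apply, Submodule.coe_add, ← ih]
      congr 1
      set q := (R.T ^ i) w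
      conv_rhs => rw [show (q : (V × W) × U) = X.g (R.gi q : (V × W) × U) from
        (congrArg Subtype.val (R.g_gi q)).symm]
      rw [X.gi_g]
  obtain ⟨s, hs, r, hr, hsr⟩ := Submodule.mem_sup.1
    ((X.isCompl_orth P.sep_span).sup_eq_top ▸ Submodule.mem_top : (((0 : V), (0 : W)), u3) ∈ P.span ⊔ X.B.orthogonal P.span)
  have hlr : X.lev (k + 1) r = 1 := by
    have h := congrArg (X.lev (k + 1)) hsr
    rw [X.lev_add, lev_top_span P (j := k + 1) le_rfl (fun i a _ => by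
        fin_cases a
        · exact h₂.2.2.1 i
        · exact h₂.2.2.2.1 i) s hs, hTX, LinearMap.zero_apply,
      map_zero, LinearMap.zero_apply, hlk (k + 1) 0 0 u3, x.lev_zero_vec, y.lev_zero_vec, hl3, if_pos rfl] at h
    simpa using h
  obtain ⟨r', hr'⟩ := R.exists_stdV (u := ⟨r, hr⟩) (k := k) (Subtype.ext (by rw [hR, hTX]; rfl)) (by
    have : R.lev (k + 1) ⟨r, hr⟩ = X.lev (k + 1) r := by
      rw [lev_succ, lev_succ, ← hR k ⟨r, hr⟩]; rfl
    rw [this, hlr]; exact one_ne_zero)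
  have hpE := X.isPiece_e h₂
  have hpV : R.IsPiece (.v k (cb (R.lev k ⟨r, hr⟩ / R.lev (k + 1) ⟨r, hr⟩))) := ⟨by omega, r', hr'⟩
  refine ⟨_, ?_, real_of_isPiece hpE, real_of_isPiece hpV⟩
  rw [← cls_eq_pc hx, ← cls_eq_pc hy, ← cls_eq_pc hz, cls_prod, cls_prod, ← cls_eq_pc hpE, ← cls_eq_pc hpV,
    P.cls_split]

/-- Adding the square of a linear form vanishing on the image of `N`. -/
noncomputable def twist (x : QUni F V) (z : V) (hz : x.N z = 0) : QUni F V where
  B := x.B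
  g := x.g
  Q := fun u => x.Q u + x.B z u ^ 2
  alt := x.alt
  sep := x.sep
  inv := x.inv
  nil := x.nil
  Q_smul c u := by simp [x.Q_smul]; ring
  Q_add u v := by
    rw [x.Q_add, map_add, CharTwo.add_sq]; ring
  Q_g u := by
    have e : x.g z = z := by
      have := congrArg (· + z) hz
      simpa [N_apply, add_assoc, add_self_vec F] using this
    rw [x.Q_g]
    conv_lhs => rw [← e, x.inv]

theorem twist_lev_succ (x : QUni F V) (z : V) (hz : x.N z = 0) (i : ℕ) (u : V) :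
    (x.twist z hz).lev (i + 1) u = x.lev (i + 1) u := rfl

theorem sIso_twist (x : QUni F V) (z : V) (hz : x.N z = 0) : x.SIso (x.twist z hz) :=
  ⟨LinearEquiv.refl F V, fun _ => rfl, fun _ _ => rfl⟩

theorem flip_v0 (hx : x.IsPiece (.v 0 true)) :
    ∃ x' : QUni F V, x.SIso x' ∧ x'.IsPiece (.v 0 false) := by
  obtain ⟨hd, u, hu, hl⟩ := hx
  obtain ⟨s, hs⟩ := exists_sqrt (al F)
  have hz : x.N (s • x.N u) = 0 := by
    rw [pow_one] at hu
    rw [map_smul, x.NN_apply, hu, ← pow_one x.T, x.T_pow_N, pow_one, hu, map_zero, add_zero, smul_zero]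
  refine ⟨_, x.sIso_twist _ hz, hd, u, hu, fun j => ?_⟩
  cases j with
  | zero =>
    have h1 := hl 1
    rw [if_pos rfl, lev_succ, pow_zero, Module.End.one_apply] at h1
    have h0 := hl 0
    rw [if_neg (by omega), if_pos rfl] at h0
    show x.Q u + x.B (s • x.N u) u ^ 2 = _
    rw [← lev_zero, h0, map_smul, LinearMap.smul_apply, h1, smul_eq_mul, mul_one, hs]
    simp [bv, CharTwo.add_self_eq_zero]
  | succ i =>
    rw [twist_lev_succ, hl]
    simp [bv]

theorem flip_o0 (hx : x.IsPiece (.o 0 true)) :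
    ∃ x' : QUni F V, x.SIso x' ∧ x'.IsPiece (.o 0 false) := by
  obtain ⟨hd, u, v, hu, hv, hlu, hlv, hP, hR⟩ := hx
  obtain ⟨s, hs⟩ := exists_sqrt (al F)
  have hu' : x.N u = 0 := by simpa using hu
  have hv' : x.N v = 0 := by simpa using hv
  have huv : x.B u v = 1 := by simpa using hP 0
  have hz : x.N (s • u + v) = 0 := by simp [hu', hv']
  refine ⟨_, x.sIso_twist _ hz, hd, u, v, hu, hv, fun j => ?_, fun j => ?_, hP, hR⟩
  · cases j with
    | zero =>
      show x.Q u + x.B (s • u + v) u ^ 2 = _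
      have h0 := hlu 0
      rw [lev_zero] at h0
      rw [h0]
      simp [x.alt, x.B_comm v u, huv, CharTwo.add_self_eq_zero]
    | succ i => rw [twist_lev_succ, hlu]; simp
  · cases j with
    | zero =>
      show x.Q v + x.B (s • u + v) v ^ 2 = _
      have h0 := hlv 0
      rw [lev_zero] at h0
      rw [h0]
      simp [x.alt, huv, hs, bv, CharTwo.add_self_eq_zero]
    | succ i => rw [twist_lev_succ, hlv]; simp [bv]

end QUni

end CfsgLib.Char.EvenClass
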