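import Cfsg.Agent.Lib.Char.EvenClass.Poly
import Cfsg.Agent.Lib.Char.SpClass.Main

/-!
# The class number of the symplectic group in characteristic two

A class of `Sp_{2m}(q)` is decided by the normal form of its part at one and its stripped tuple; so there are at
most `15.2 q^m` of them.
-/

set_option autoImplicit false
set_option linter.unusedSectionVars false

open scoped Classical

namespace CfsgLib.Char.EvenClass

open Module CfsgLib.IsometryConj CfsgLib.GLClass
open CfsgLib.Char.SpClass (eSpace toFin)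

/-- The pieces of index at most `m`. -/
def pieceList (m : ℕ) : Finset Piece :=
  (Finset.range (m + 1)).biUnion fun k => {.v k true, .v k false, .e k, .o k true, .o k false}

/-- The normal forms of weight at most `m`. -/
noncomputable def codes (sp : Bool) (m : ℕ) : Finset (Multiset Piece) :=
  ((m • (pieceList m).val).powerset.toFinset).filter fun s => GoodSp sp s ∧ weight s ≤ m

theorem mem_codes {sp : Bool} {m : ℕ} {s : Multiset Piece} : s ∈ codes sp m ↔ GoodSp sp s ∧ weight s ≤ m := by
  refine ⟨fun h => (Finset.mem_filter.1 h).2, fun h => Finset.mem_filter.2 ⟨?_, h⟩⟩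
  rw [Multiset.mem_toFinset, Multiset.mem_powerset]
  refine Multiset.le_iff_count.2 fun p => ?_
  rcases Nat.eq_zero_or_pos (s.count p) with h0 | h0
  · rw [h0]; exact Nat.zero_le _
  have hp : p ∈ s := Multiset.count_pos.1 h0
  have hhalf : p.half ≤ weight s := Multiset.le_sum_of_mem (Multiset.mem_map_of_mem Piece.half hp)
  have hcard : s.card ≤ weight s := by
    have e := Multiset.card_nsmul_le_sum (s := s.map Piece.half) (a := 1) fun n hn => by
      obtain ⟨q, -, rfl⟩ := Multiset.mem_map.1 hn
      cases q <;> simp [Piece.half]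
    rwa [Multiset.card_map, smul_eq_mul, mul_one] at e
  have hmem : p ∈ (pieceList m).val := by
    show p ∈ pieceList m
    simp only [pieceList, Finset.mem_biUnion, Finset.mem_range, Finset.mem_insert, Finset.mem_singleton]
    rcases p with ⟨k, b⟩ | k | ⟨k, b⟩ <;> simp only [Piece.half] at hhalf <;>
      refine ⟨k, by omega, ?_⟩
    · cases b <;> simp
    · simp
    · cases b <;> simp
  rw [Multiset.count_nsmul, Multiset.count_eq_one_of_mem (pieceList m).nodup hmem, mul_one]
  exact ((Multiset.count_le_card _ _).trans hcard).trans h.2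

variable {F : Type*} [Field F] [Fintype F]

/-- Replacing `q ^ (m - w)` by `q ^ m 2 ^ (-w)`. -/
theorem sum_pow_le {m : ℕ} (T : Finset (Multiset Piece)) (hT : ∀ s ∈ T, weight s ≤ m) :
    ((∑ s ∈ T, Fintype.card F ^ (m - weight s) : ℕ) : ℚ) ≤ (Fintype.card F : ℚ) ^ m * ∑ s ∈ T, wt2 s := by
  rw [Nat.cast_sum, Finset.mul_sum]
  refine Finset.sum_le_sum fun s hs => ?_
  have hq : (2 : ℚ) ≤ (Fintype.card F : ℚ) := by exact_mod_cast (Fintype.one_lt_card : 1 < Fintype.card F)
  rw [Nat.cast_pow, wt2, one_div, inv_pow, ← div_eq_mul_inv, le_div_iff₀ (by positivity)]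
  calc (Fintype.card F : ℚ) ^ (m - weight s) * 2 ^ weight s
      ≤ (Fintype.card F : ℚ) ^ (m - weight s) * (Fintype.card F : ℚ) ^ weight s :=
        mul_le_mul_of_nonneg_left (pow_le_pow_left₀ (by norm_num) hq _) (by positivity)
    _ = _ := by rw [← pow_add, Nat.sub_add_cancel (hT s hs)]

variable [CharP F 2]

/-- Counting pairs of a normal form and a stripped tuple. -/
theorem card_sigma_le {m : ℕ} (T : Finset (Multiset Piece)) :
    Nat.card (Σ s : T, Tup F (m + m) 1 (m - weight (s : Multiset Piece))) ≤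
      ∑ s ∈ T, Fintype.card F ^ (m - weight s) := by
  haveI : ∀ s : T, Finite (Tup F (m + m) 1 (m - weight (s : Multiset Piece))) := fun s => finite_tup _ 0 _
  rw [Nat.card_sigma, ← Finset.sum_coe_sort T]
  exact Finset.sum_le_sum fun s _ => card_tup_le (by omega)

variable {m : ℕ}

theorem two_weight {V : Type*} [AddCommGroup V] [Module F V] [FiniteDimensional F V] {x : QUni F V}
    {s : Multiset Piece} (h : IsSDec x s) : 2 * weight s = finrank F V := by
  obtain ⟨d, y, ⟨φ, -, -⟩, -, -, h3⟩ := h
  rw [h3, φ.finrank_eq]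

local notation "Sp" => Matrix.symplecticGroup (Fin m) F

/-- The normal form of the part at one. -/
noncomputable def spCode (x : ↥Sp) : Multiset Piece := (exists_good_sIso (sX x)).choose

theorem spCode_spec (x : ↥Sp) : IsSDec (sX x) (spCode x) ∧ GoodSp true (spCode x) := by
  obtain ⟨h1, h2, h3, h4⟩ := (exists_good_sIso (sX x)).choose_spec
  exact ⟨h1, h2, fun _ => ⟨h3, h4⟩⟩

theorem strip_weight (x : ↥Sp) {s : Multiset Piece} (hs : 2 * weight s = finrank F (eSpace (1 : F) (x : Matrix (Fin m ⊕ Fin m) (Fin m ⊕ Fin m) F))) :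
    weight s ≤ m ∧ ∑ k : Fin (m + m), (1 + k.val) * (strip x k).1.natDegree = m - weight s := by
  have := weight_strip x
  omega

theorem card_sp_classes_le_even :
    5 * Nat.card (ConjClasses ↥Sp) ≤ 76 * Fintype.card F ^ m := by
  set T := codes true m
  choose rep hrep using (ConjClasses.mk_surjective : Function.Surjective (ConjClasses.mk (α := ↥Sp)))
  have hw : ∀ x : ↥Sp, weight (spCode x) ≤ m ∧
      ∑ k : Fin (m + m), (1 + k.val) * (strip x k).1.natDegree = m - weight (spCode x) :=
    fun x => strip_weight x (two_weight (spCode_spec x).1)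
  let Φ : ConjClasses ↥Sp → Σ s : T, Tup F (m + m) 1 (m - weight (s : Multiset Piece)) := fun C =>
    ⟨⟨spCode (rep C), mem_codes.2 ⟨(spCode_spec _).2, (hw _).1⟩⟩, ⟨strip (rep C), (hw _).2⟩⟩
  have hinj : Function.Injective Φ := by
    intro C D hCD
    have h1 : spCode (rep C) = spCode (rep D) := congrArg (fun z => (z.1 : Multiset Piece)) hCD
    have h2 : strip (rep C) = strip (rep D) :=
      congrArg (fun z : Σ s : T, Tup F (m + m) 1 (m - weight (s : Multiset Piece)) => z.2.1) hCD
    have hS : (sX (rep C)).SIso (sX (rep D)) :=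
      sIso_of_isSDec (spCode_spec _).1 (h1 ▸ (spCode_spec (rep D)).1)
    obtain ⟨p, hp⟩ := exists_units_of_classTup _ _ (classTup_eq_of _ _ hS h2)
    obtain ⟨U, hU, hUA⟩ := exists_conj (st_mem _) (st_mem _) p hp hS
    rw [← hrep C, ← hrep D]
    exact ConjClasses.mk_eq_mk_iff_isConj.2
      ⟨toUnits (⟨U, (sympAdjoint_mem_iff _).2 hU⟩ : ↥Sp), Subtype.ext hUA⟩
  haveI : ∀ s : T, Finite (Tup F (m + m) 1 (m - weight (s : Multiset Piece))) := fun s => finite_tup _ 0 _
  have h := (Nat.card_le_card_of_injective Φ hinj).trans (card_sigma_le T)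
  have h' : (Nat.card (ConjClasses ↥Sp) : ℚ) ≤ (Fintype.card F : ℚ) ^ m * (76 / 5) :=
    ((Nat.cast_le.2 h).trans (sum_pow_le T fun s hs => (mem_codes.1 hs).2)).trans
      (mul_le_mul_of_nonneg_left (sum_goodSp_le T fun s hs => (mem_codes.1 hs).1) (by positivity))
  have : ((5 * Nat.card (ConjClasses ↥Sp) : ℕ) : ℚ) ≤ ((76 * Fintype.card F ^ m : ℕ) : ℚ) := by
    push_cast; linarith
  exact_mod_cast this

end CfsgLib.Char.EvenClass
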