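import Cfsg.Agent.Lib.Char.EvenClass.Gauss
import Cfsg.Agent.Lib.Char.SpClass.Dual

/-!
# The part at one of a symplectic matrix in characteristic two

On the generalised eigenspace at one a symplectic matrix gives an alternating form with a unipotent isometry. Two
similar symplectic matrices are conjugate by a symplectic matrix when these parts are isometric; if they preserve a
quadratic form and the parts are isometric as quadratic spaces, by one preserving the quadratic form.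
-/

set_option autoImplicit false
set_option linter.unusedSectionVars false

open scoped Classical

namespace CfsgLib.Char.EvenClass

open Matrix Module CfsgLib.IsometryConj CfsgLib.Sp
open CfsgLib.Char.SpClass (bigExp bigExp_pos eid eid_idem one_sub_eid pow_mul_eid pow_bigExp_idem commute_eid
  eid_conj eSpace eid_mulVec_mem sf_adjoint st_eid rnk)

variable {F : Type*} [Field F] [CharP F 2]

section OfAlt

variable [Finite F] {V : Type*} [AddCommGroup V] [Module F V] [FiniteDimensional F V]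

theorem exists_quadratic (B : LinearMap.BilinForm F V) (halt : ∀ u, B u u = 0) :
    ∃ Q : V → F, (∀ (c : F) u, Q (c • u) = c ^ 2 * Q u) ∧ ∀ u v, Q (u + v) = Q u + Q v + B u v := by
  set b := Module.finBasis F V
  let C : LinearMap.BilinForm F V :=
    (b.constr F fun i => b.constr F fun j => if i < j then B (b i) (b j) else 0 : V →ₗ[F] V →ₗ[F] F)
  have hswap : ∀ u v, B u v = B v u := fun u v => by
    have h := halt (u + v)
    simp only [map_add, LinearMap.add_apply, halt, add_zero, zero_add] at h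
    exact (CharTwo.add_eq_zero.1 h).symm
  have hC : C + C.flip = B := by
    refine LinearMap.BilinForm.ext_basis b fun i j => ?_
    simp only [LinearMap.add_apply, LinearMap.BilinForm.flip_apply, C, Basis.constr_basis]
    rcases lt_trichotomy i j with h | h | h
    · rw [if_pos h, if_neg h.not_gt, add_zero]
    · subst h; rw [if_neg (lt_irrefl i), halt, add_zero]
    · rw [if_neg h.not_gt, if_pos h, zero_add, hswap]
  refine ⟨fun u => C u u, fun c u => by simp only [map_smul, LinearMap.smul_apply, smul_eq_mul]; ring, fun u v => ?_⟩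
  rw [← hC]
  simp only [map_add, LinearMap.add_apply, LinearMap.BilinForm.flip_apply]
  ring

theorem exists_invariant_quadratic (B : LinearMap.BilinForm F V) (g : Module.End F V) (halt : ∀ u, B u u = 0)
    (inv : ∀ u v, B (g u) (g v) = B u v) :
    ∃ Q : V → F, (∀ (c : F) u, Q (c • u) = c ^ 2 * Q u) ∧ (∀ u v, Q (u + v) = Q u + Q v + B u v) ∧
      ∀ u, Q (g u) = Q u := by
  obtain ⟨Q, hs, ha⟩ := exists_quadratic B halt
  have hinj : ∀ x y : F, x ^ 2 = y ^ 2 → x = y := fun x y h => by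
    have e : (x + y) ^ 2 = 0 := by rw [CharTwo.add_sq, h, CharTwo.add_self_eq_zero]
    exact CharTwo.add_eq_zero.1 (pow_eq_zero_iff (two_ne_zero) |>.1 e)
  choose s hs2 using fun u => exists_sqrt (Q (g u) + Q u)
  let lam : V →ₗ[F] F :=
    { toFun := s
      map_add' := fun u v => hinj _ _ (by
        rw [CharTwo.add_sq, hs2, hs2, hs2, map_add, ha, ha, inv]
        linear_combination (CharTwo.add_self_eq_zero (B u v)))
      map_smul' := fun c u => hinj _ _ (by
        rw [RingHom.id_apply, smul_eq_mul, mul_pow, hs2, hs2, map_smul, hs, hs]; ring) }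
  set N := g + 1 with hN
  have hker : ∀ w, N w = 0 → lam w = 0 := fun w hw => by
    have hgw : g w = w := by
      have h1 : g w + w = 0 := hw
      calc g w = g w + (w + w) := by rw [add_self_vec F, add_zero]
        _ = (g w + w) + w := by abel
        _ = w := by rw [h1, zero_add]
    refine hinj _ _ ?_
    show s w ^ 2 = 0 ^ 2
    rw [hs2, hgw, CharTwo.add_self_eq_zero]; simp
  obtain ⟨r, hr⟩ := N.rangeRestrict.exists_rightInverse_of_surjective N.range_rangeRestrict
  obtain ⟨mu, hmu⟩ := LinearMap.exists_extend (lam.comp r)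
  have hmuN : ∀ u, mu (N u) = lam u := fun u => by
    have h1 : mu (N u) = lam (r (N.rangeRestrict u)) := LinearMap.congr_fun hmu (N.rangeRestrict u)
    have h2 : N (r (N.rangeRestrict u)) = N u :=
      congrArg Subtype.val (LinearMap.congr_fun hr (N.rangeRestrict u))
    rw [h1]
    have := hker (r (N.rangeRestrict u) - u) (by rw [map_sub, h2, sub_self])
    rwa [map_sub, sub_eq_zero] at this
  refine ⟨fun u => Q u + mu u ^ 2, fun c u => ?_, fun u v => ?_, fun u => ?_⟩
  · simp only [hs, map_smul, smul_eq_mul]; ring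
  · simp only [ha, map_add, CharTwo.add_sq]; ring
  · have h1 : mu (g u) + mu u = lam u := by rw [← map_add]; exact hmuN u
    have h2 : mu (g u) ^ 2 + mu u ^ 2 = Q (g u) + Q u := by
      rw [← CharTwo.add_sq, h1]; exact hs2 u
    refine CharTwo.add_eq_zero.1 ?_
    linear_combination h2 + CharTwo.add_self_eq_zero (Q (g u) + Q u)

/-- An alternating form with a unipotent isometry as a quadratic space. -/
noncomputable def ofAlt (B : LinearMap.BilinForm F V) (g : Module.End F V) (alt : ∀ u, B u u = 0)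
    (sep : ∀ u, (∀ v, B u v = 0) → u = 0) (inv : ∀ u v, B (g u) (g v) = B u v) (nil : IsNilpotent (g + 1)) :
    QUni F V where
  B := B
  g := g
  Q := (exists_invariant_quadratic B g alt inv).choose
  alt := alt
  sep := sep
  inv := inv
  nil := nil
  Q_smul := (exists_invariant_quadratic B g alt inv).choose_spec.1
  Q_add := (exists_invariant_quadratic B g alt inv).choose_spec.2.1
  Q_g := (exists_invariant_quadratic B g alt inv).choose_spec.2.2

end OfAlt

variable [Fintype F] {m : ℕ}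

local notation "Mat" => Matrix (Fin m ⊕ Fin m) (Fin m ⊕ Fin m) F
local notation "Vec" => (Fin m ⊕ Fin m → F)
local notation "Jst" => Adjoint.st (sympAdjoint m F)

theorem sub_eq_add_mat (A B : Mat) : A - B = A + B := by
  ext i j; exact CharTwo.sub_eq_add (A i j) (B i j)

theorem sf_comm (u v : Vec) : sf u v = sf v u := by rw [sf_swap, CharTwo.neg_eq]

theorem sf_st (A : Mat) (hA : Jst A * A = 1) (u v : Vec) : sf (A *ᵥ u) (A *ᵥ v) = sf u v := by
  rw [sf_adjoint, Matrix.mulVec_mulVec, hA, Matrix.one_mulVec]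

/-- Matrices with the same pulled back form. -/
theorem st_mul_eq_of_sf {M N : Mat} (h : ∀ u v, sf (M *ᵥ u) (M *ᵥ v) = sf (N *ᵥ u) (N *ᵥ v)) :
    Jst M * M = Jst N * N := by
  refine Matrix.ext_iff_mulVec.2 fun v => ?_
  rw [← sub_eq_zero]
  refine eq_zero_of_sf' fun u => ?_
  rw [sub_eq_add_neg, sf_add_right, ← Matrix.neg_mulVec, Matrix.neg_mulVec, ← neg_one_smul F ((Jst N * N) *ᵥ v),
    sf_smul_right, ← Matrix.mulVec_mulVec, ← Matrix.mulVec_mulVec, ← sf_adjoint, ← sf_adjoint, h]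
  ring

/-- The ambient quadratic forms. -/
structure IsQ (Q' : Vec → F) : Prop where
  smul : ∀ (c : F) u, Q' (c • u) = c ^ 2 * Q' u
  add : ∀ u v, Q' (u + v) = Q' u + Q' v + sf u v

variable {A B : Matrix (Fin m ⊕ Fin m) (Fin m ⊕ Fin m) F}

theorem sub_one_eq (A : Mat) : A - (1 : F) • (1 : Mat) = A + 1 := by rw [one_smul, sub_eq_add_mat]

theorem one_sub_eid_eq (A : Mat) : 1 - eid 1 A = (A + 1) ^ bigExp m F := by rw [one_sub_eid, sub_one_eq]

theorem st_eid' (hA : Jst A * A = 1) : Jst (eid 1 A) = eid 1 A := st_eid (one_mul 1) hA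

theorem sf_eid (hA : Jst A * A = 1) (u v : Vec) : sf (eid 1 A *ᵥ u) v = sf u (eid 1 A *ᵥ v) := by
  rw [sf_adjoint, st_eid' hA]

theorem sf_cross (hA : Jst A * A = 1) (u v : Vec) : sf ((1 - eid 1 A) *ᵥ u) (eid 1 A *ᵥ v) = 0 := by
  rw [sf_adjoint, Adjoint.st_sub, Adjoint.st_one, st_eid' hA, Matrix.mulVec_mulVec, sub_mul, one_mul, eid_idem,
    sub_self, Matrix.zero_mulVec]
  exact (Classical.SympCount.sB m F u).map_zero

/-- The form on the eigenspace. -/
noncomputable def eForm (A : Mat) : LinearMap.BilinForm F (eSpace (1 : F) A) :=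
  (Classical.SympCount.sB m F).compl₁₂ (eSpace (1 : F) A).subtype (eSpace (1 : F) A).subtype

theorem eForm_apply (A : Mat) (u v : eSpace (1 : F) A) : eForm A u v = sf (u : Vec) (v : Vec) := rfl

theorem A_mem (A : Mat) : ∀ u ∈ eSpace (1 : F) A, A.mulVecLin u ∈ eSpace (1 : F) A := by
  rintro _ ⟨v, rfl⟩
  refine ⟨A *ᵥ v, ?_⟩
  simp only [Matrix.mulVecLin_apply, Matrix.mulVec_mulVec, (commute_eid (l := (1 : F)) (Commute.refl A)).eq]

/-- The isometry on the eigenspace. -/
noncomputable def eEnd (A : Mat) : Module.End F (eSpace (1 : F) A) := A.mulVecLin.restrict (A_mem A)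

theorem eEnd_apply (A : Mat) (u : eSpace (1 : F) A) : (eEnd A u : Vec) = A *ᵥ (u : Vec) := rfl

theorem eEnd_pow (A : Mat) (i : ℕ) (u : eSpace (1 : F) A) :
    (((eEnd A + 1) ^ i) u : Vec) = (A + 1) ^ i *ᵥ (u : Vec) := by
  induction i generalizing u with
  | zero => simp
  | succ i ih =>
    rw [pow_succ, pow_succ, Module.End.mul_apply, ih, ← Matrix.mulVec_mulVec, Matrix.add_mulVec, Matrix.one_mulVec]
    rfl

theorem eForm_sep (hA : Jst A * A = 1) (u : eSpace (1 : F) A) (hu : ∀ v, eForm A u v = 0) : u = 0 := by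
  refine Subtype.ext (eq_zero_of_sf fun v => ?_)
  rw [← eid_mulVec_mem 1 A u, sf_eid hA]
  exact hu ⟨eid 1 A *ᵥ v, v, rfl⟩

theorem eEnd_nil (A : Mat) : IsNilpotent (eEnd A + 1) := by
  refine ⟨bigExp m F, LinearMap.ext fun u => Subtype.ext ?_⟩
  rw [eEnd_pow, ← eid_mulVec_mem 1 A u, Matrix.mulVec_mulVec, ← sub_one_eq, pow_mul_eid, Matrix.zero_mulVec]
  rfl

/-- The eigenspace at one with the alternating form. -/
noncomputable def sE (A : Mat) (hA : Jst A * A = 1) : QUni F (eSpace (1 : F) A) :=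
  ofAlt (eForm A) (eEnd A) (fun u => sf_self _) (eForm_sep hA) (fun _ _ => sf_st A hA _ _) (eEnd_nil A)

/-- The eigenspace at one with a quadratic form. -/
noncomputable def oE (A : Mat) (hA : Jst A * A = 1) (Q' : Vec → F) (hQ : IsQ Q') (hAQ : ∀ v, Q' (A *ᵥ v) = Q' v) :
    QUni F (eSpace (1 : F) A) where
  B := eForm A
  g := eEnd A
  Q u := Q' u
  alt u := sf_self _
  sep := eForm_sep hA
  inv _ _ := sf_st A hA _ _
  nil := eEnd_nil A
  Q_smul c u := hQ.smul c u
  Q_add u v := hQ.add u v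
  Q_g u := hAQ u

theorem sIso_oE (hA : Jst A * A = 1) (Q' : Vec → F) (hQ : IsQ Q') (hAQ : ∀ v, Q' (A *ᵥ v) = Q' v) :
    (sE A hA).SIso (oE A hA Q' hQ hAQ) := ⟨LinearEquiv.refl F _, fun _ => rfl, fun _ _ => rfl⟩

/-- The matrix of an intertwiner of the eigenspaces. -/
theorem exists_intertwiner (φ : eSpace (1 : F) A ≃ₗ[F] eSpace (1 : F) B)
    (hφ : ∀ u, φ (eEnd A u) = eEnd B (φ u)) :
    ∃ R : Mat, R * eid 1 A = R ∧ eid 1 B * R = R ∧ R * A = B * R ∧
      ∀ v, R *ᵥ v = (φ ⟨eid 1 A *ᵥ v, v, rfl⟩ : Vec) := by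
  let f : Vec →ₗ[F] Vec := (eSpace (1 : F) B).subtype.comp (φ.toLinearMap.comp (eid 1 A).mulVecLin.rangeRestrict)
  have hf : ∀ v, LinearMap.toMatrix' f *ᵥ v = (φ ⟨eid 1 A *ᵥ v, v, rfl⟩ : Vec) := fun v => by
    rw [LinearMap.toMatrix'_mulVec]; rfl
  refine ⟨LinearMap.toMatrix' f, Matrix.ext_iff_mulVec.2 fun v => ?_, Matrix.ext_iff_mulVec.2 fun v => ?_,
    Matrix.ext_iff_mulVec.2 fun v => ?_, hf⟩
  · rw [← Matrix.mulVec_mulVec, hf, hf]
    congr 2
    exact Subtype.ext ((Matrix.mulVec_mulVec v _ _).trans (congrArg (· *ᵥ v) (eid_idem 1 A)))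
  · rw [← Matrix.mulVec_mulVec, hf]
    exact eid_mulVec_mem 1 B _
  · rw [← Matrix.mulVec_mulVec, ← Matrix.mulVec_mulVec, hf, hf, ← eEnd_apply, ← hφ]
    congr 2
    refine Subtype.ext ?_
    show eid 1 A *ᵥ (A *ᵥ v) = A *ᵥ (eid 1 A *ᵥ v)
    rw [Matrix.mulVec_mulVec, Matrix.mulVec_mulVec, (commute_eid (l := (1 : F)) (Commute.refl A)).eq]

theorem isUnit_sub_add_eid (hA : Jst A * A = 1) : IsUnit (A - Jst A + eid 1 A) := by
  set e := eid 1 A with he
  set D := A + 1 with hD
  have hA' : A * Jst A = 1 := mul_eq_one_comm.1 hA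
  have hAD : Commute A D := (Commute.refl A).add_right (Commute.one_right A)
  have h1 : A - Jst A = Jst A * (D * D) := by
    have hee : D * D = A * A + 1 := by
      rw [hD, add_mul, mul_add, mul_add, one_mul, mul_one, show A * A + A + (A + 1 * 1) = A * A + 1 + (A + A) by
        rw [one_mul]; abel, ← sub_eq_add_mat A A, sub_self, add_zero]
    rw [hee, mul_add, mul_one, ← mul_assoc, hA, one_mul, sub_eq_add_mat]
  have hsD : Commute (Jst A) D := (show Commute (Jst A) A from hA.trans hA'.symm).add_right (Commute.one_right _)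
  set E := bigExp m F with hE
  have hE0 : 0 < E := bigExp_pos
  have hidem : ∀ j : ℕ, (1 - e) ^ (j + 1) = 1 - e := fun j =>
    IsIdempotentElem.pow_succ_eq j (show (1 - e) * (1 - e) = 1 - e by
      rw [sub_mul, one_mul, mul_sub, mul_one, he, eid_idem, sub_self, sub_zero])
  have h1e : 1 - e = D ^ E := one_sub_eid_eq A
  set z := A * (D ^ (2 * E - 2)) * (1 - e) with hz
  have hcz : ∀ x, Commute x A → Commute x z := fun x hx =>
    (hx.mul_right ((hx.add_right (Commute.one_right x)).pow_right _)).mul_right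
      ((Commute.one_right x).sub_right (commute_eid hx))
  have hee : e * e = e := eid_idem _ _
  have hz1 : (A - Jst A) * z = 1 - e := by
    have e1 : (A - Jst A) * z = Jst A * A * (D * D * D ^ (2 * E - 2)) * (1 - e) := by
      rw [h1, hz]
      simp only [← mul_assoc]
      rw [mul_assoc (Jst A) D D, mul_assoc (Jst A) (D * D) A, ← (hAD.mul_right hAD).eq, ← mul_assoc (Jst A) A]
      simp only [mul_assoc]
    rw [e1, hA, one_mul, ← sq, ← pow_add, show 2 + (2 * E - 2) = E + E by omega, pow_add, ← h1e,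
      mul_assoc, show (1 - e) * (1 - e) = 1 - e by simpa [pow_succ] using hidem 1, ← pow_two, hidem 1]
  have hze : z * e = 0 := by rw [hz, mul_assoc, sub_mul, one_mul, hee, sub_self, mul_zero]
  have hcA : Commute (A - Jst A) A := (Commute.refl A).sub_left (hA.trans hA'.symm)
  have hnil : IsNilpotent ((A - Jst A) * e) := by
    refine ⟨E, ?_⟩
    rw [(commute_eid hcA).mul_pow, h1, (hsD.mul_right hsD).mul_pow, (Commute.refl D).mul_pow,
      show e ^ E = e by rw [← Nat.sub_add_cancel hE0]; exact IsIdempotentElem.pow_succ_eq _ hee,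
      mul_assoc, mul_assoc, hD, ← sub_one_eq, hE, he, pow_mul_eid, mul_zero, mul_zero]
  obtain ⟨v, hv⟩ := hnil.isUnit_one_add
  have h7 : (A - Jst A + e) * (z + e) = 1 + (A - Jst A) * e := by
    calc (A - Jst A + e) * (z + e) = (A - Jst A) * z + (A - Jst A) * e + e * z + e * e := by
          simp only [mul_add, add_mul]; abel
      _ = 1 + (A - Jst A) * e := by
          rw [hz1, (show Commute e z from hcz e (commute_eid (Commute.refl A)).symm).eq, hze, hee]; abel
  refine isUnit_iff_exists.2 ⟨(z + e) * (v⁻¹ : (Mat)ˣ), ?_, mul_eq_one_comm.1 ?_⟩ <;>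
    rw [← mul_assoc, h7, ← hv, Units.mul_inv]

/-- Similar symplectic matrices with isometric parts at one are conjugate by a symplectic matrix. -/
theorem exists_conj (hA : Jst A * A = 1) (hB : Jst B * B = 1) (p : (Mat)ˣ) (hp : (p : Mat) * A = B * p)
    (h : (sE A hA).SIso (sE B hB)) : ∃ U : Mat, Jst U * U = 1 ∧ U * A = B * U := by
  obtain ⟨φ, hg, hφB⟩ := h.symm
  obtain ⟨R, hR1, hR2, hR3, hR⟩ := exists_intertwiner φ hg
  let uA : (Mat)ˣ := ⟨A, Jst A, mul_eq_one_comm.1 hA, hA⟩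
  let uB : (Mat)ˣ := ⟨B, Jst B, mul_eq_one_comm.1 hB, hB⟩
  set e := eid 1 A
  have hpe : (p : Mat) * e = eid 1 B * p := eid_conj hp
  obtain ⟨U, hU, hUA⟩ := exists_isometry_conj_corner (sympAdjoint m F) uA uB p hA hB hp e (eid_idem _ _)
    (st_eid' hA) (fun x hx => commute_eid hx) (isUnit_sub_add_eid hA) (R * p)
    (by rw [mul_assoc, hpe, ← mul_assoc, hR1])
    (show R * p * A = A * (R * p) by rw [mul_assoc, hp, ← mul_assoc, hR3, mul_assoc])
    (by
      have h1 : Jst (R * p) * (R * p) = Jst ((p : Mat) * e) * ((p : Mat) * e) := st_mul_eq_of_sf fun u v => by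
        rw [← Matrix.mulVec_mulVec, ← Matrix.mulVec_mulVec, hR, hR]
        have h2 := hφB ⟨eid 1 B *ᵥ ((p : Mat) *ᵥ u), _, rfl⟩ ⟨eid 1 B *ᵥ ((p : Mat) *ᵥ v), _, rfl⟩
        rw [hpe, ← Matrix.mulVec_mulVec, ← Matrix.mulVec_mulVec]
        exact h2
      rw [h1, Adjoint.st_mul, st_eid' hA]
      have hS : Commute (Jst (p : Mat) * p) e := commute_eid (commute_st_mul (sympAdjoint m F) uA uB p hA hB hp)
      calc e * Jst (p : Mat) * ((p : Mat) * e) = e * (Jst (p : Mat) * p) * e := by simp only [mul_assoc]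
        _ = _ := by rw [← hS.eq, mul_assoc, eid_idem])
  exact ⟨(U : Mat), hU, hUA⟩

/-- A symplectic intertwiner preserves a quadratic form off the eigenspace. -/
theorem Q_off (Q' : Vec → F) (hQ : IsQ Q') (hAQ : ∀ v, Q' (A *ᵥ v) = Q' v) (hBQ : ∀ v, Q' (B *ᵥ v) = Q' v)
    {U : Mat} (hU : Jst U * U = 1) (hUA : U * A = B * U) (u : Vec) :
    Q' (U *ᵥ ((1 - eid 1 A) *ᵥ u)) = Q' ((1 - eid 1 A) *ᵥ u) := by
  set z := (A + 1) ^ (bigExp m F - 1) *ᵥ u
  have hw : (1 - eid 1 A) *ᵥ u = A *ᵥ z + z := by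
    rw [one_sub_eid_eq, show bigExp m F = (bigExp m F - 1) + 1 by have := bigExp_pos (m := m) (F := F); omega,
      pow_succ', ← Matrix.mulVec_mulVec, Matrix.add_mulVec, Matrix.one_mulVec]
  rw [hw, Matrix.mulVec_add, hQ.add, hQ.add, sf_st U hU, Matrix.mulVec_mulVec, hUA, ← Matrix.mulVec_mulVec, hBQ, hAQ]
  rw [CharTwo.add_self_eq_zero, CharTwo.add_self_eq_zero]

/-- With isometric quadratic parts at one, the conjugating matrix preserves the quadratic form. -/
theorem exists_conj_Q (hA : Jst A * A = 1) (hB : Jst B * B = 1) (p : (Mat)ˣ) (hp : (p : Mat) * A = B * p)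
    (Q' : Vec → F) (hQ : IsQ Q') (hAQ : ∀ v, Q' (A *ᵥ v) = Q' v) (hBQ : ∀ v, Q' (B *ᵥ v) = Q' v)
    (h : (oE A hA Q' hQ hAQ).Iso (oE B hB Q' hQ hBQ)) :
    ∃ U : Mat, Jst U * U = 1 ∧ U * A = B * U ∧ ∀ v, Q' (U *ᵥ v) = Q' v := by
  have hS : (sE A hA).SIso (sE B hB) :=
    ((sIso_oE hA Q' hQ hAQ).trans h.sIso).trans (sIso_oE hB Q' hQ hBQ).symm
  obtain ⟨U, hU, hUA⟩ := exists_conj hA hB p hp hS
  obtain ⟨φ, hg, hφQ⟩ := h
  obtain ⟨R, hR1, hR2, hR3, hR⟩ := exists_intertwiner φ hg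
  set e := eid 1 A
  set W := U * (1 - e) + R with hW
  have hUe : U * e = eid 1 B * U := eid_conj hUA
  have hWv : ∀ v, W *ᵥ v = U *ᵥ ((1 - e) *ᵥ v) + R *ᵥ v := fun v => by
    rw [hW, Matrix.add_mulVec, Matrix.mulVec_mulVec]
  have hdec : ∀ v : Vec, v = (1 - e) *ᵥ v + e *ᵥ v := fun v => by
    rw [← Matrix.add_mulVec, sub_add_cancel, Matrix.one_mulVec]
  have hcr : ∀ u v, sf (U *ᵥ ((1 - e) *ᵥ u)) (R *ᵥ v) = 0 := fun u v => by
    rw [← hR2, ← Matrix.mulVec_mulVec, Matrix.mulVec_mulVec u U,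
      show U * (1 - e) = (1 - eid 1 B) * U by rw [mul_sub, sub_mul, mul_one, one_mul, hUe], ← Matrix.mulVec_mulVec]
    exact sf_cross hB _ _
  have hQW : ∀ v, Q' (W *ᵥ v) = Q' v := fun v => by
    conv_rhs => rw [hdec v, hQ.add, sf_cross hA]
    rw [hWv, hQ.add, hcr, Q_off Q' hQ hAQ hBQ hU hUA, hR]
    exact congrArg (fun t => _ + t + _) (hφQ ⟨e *ᵥ v, v, rfl⟩)
  refine ⟨W, ?_, ?_, hQW⟩
  · have h1 := st_mul_eq_of_sf (M := W) (N := 1) fun u v => by
      have h2 := hQ.add (W *ᵥ u) (W *ᵥ v)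
      rw [← Matrix.mulVec_add, hQW, hQW, hQW, hQ.add] at h2
      rw [Matrix.one_mulVec, Matrix.one_mulVec]
      exact (add_left_cancel h2).symm
    rwa [Adjoint.st_one, one_mul] at h1
  · rw [hW, add_mul, mul_add, hR3, ← mul_assoc, ← hUA, mul_assoc U A, mul_assoc U (1 - e) A,
      ((Commute.one_left A).sub_left (commute_eid (l := (1 : F)) (Commute.refl A)).symm).eq]

/-- The ranks of the powers on the eigenspace. -/
theorem rnk_sE (hA : Jst A * A = 1) (i : ℕ) :
    rnk (sE A hA).N i + (1 - eid 1 A).rank = ((A + 1) ^ i).rank := by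
  set e := eid 1 A
  set D := A + 1
  have h1 : rnk (sE A hA).N i = (D ^ i * e).rank := by
    rw [rnk, ← Submodule.finrank_map_subtype_eq, Matrix.rank]
    have hN : ∀ u, (((sE A hA).N ^ i) u : Vec) = D ^ i *ᵥ (u : Vec) := fun u => eEnd_pow A i u
    have e1 : (LinearMap.range ((sE A hA).N ^ i)).map (eSpace (1 : F) A).subtype =
        LinearMap.range (D ^ i * e).mulVecLin := by
      ext v
      constructor
      · rintro ⟨_, ⟨u, rfl⟩, rfl⟩
        refine ⟨u, ?_⟩
        show (D ^ i * e) *ᵥ (u : Vec) = (((sE A hA).N ^ i) u : Vec)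
        rw [hN, ← Matrix.mulVec_mulVec, eid_mulVec_mem]
      · rintro ⟨w, rfl⟩
        refine ⟨_, ⟨⟨e *ᵥ w, w, rfl⟩, rfl⟩, ?_⟩
        show (((sE A hA).N ^ i) _ : Vec) = (D ^ i * e) *ᵥ w
        rw [hN, ← Matrix.mulVec_mulVec]
    rw [e1]
  have hDe : Commute D e := commute_eid ((Commute.refl A).add_left (Commute.one_left A))
  have e3 : 1 - e = D ^ bigExp m F := one_sub_eid_eq A
  have h3 : (1 - e).rank = (D ^ i * (1 - e)).rank := by
    refine le_antisymm ?_ (Matrix.rank_mul_le_right _ _)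
    have hidem : ∀ j : ℕ, (D ^ bigExp m F) ^ (j + 1) = D ^ bigExp m F := fun j =>
      IsIdempotentElem.pow_succ_eq j (pow_bigExp_idem D)
    have e4 : 1 - e = D ^ (bigExp m F * (i + 1) - i) * (D ^ i * (1 - e)) := by
      have : i ≤ bigExp m F * (i + 1) := le_trans (Nat.le_succ i) (Nat.le_mul_of_pos_left _ bigExp_pos)
      rw [← mul_assoc, ← pow_add, Nat.sub_add_cancel this, pow_mul, hidem, e3, pow_bigExp_idem]
    conv_lhs => rw [e4]
    exact Matrix.rank_mul_le_right _ _
  rw [h1, h3]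
  have hee : e * e = e := eid_idem _ _
  have hX : Commute (D ^ i) e := hDe.pow_left _
  set X := D ^ i
  set R1 := LinearMap.range (X * e).mulVecLin
  set R2 := LinearMap.range (X * (1 - e)).mulVecLin
  have hsup : R1 ⊔ R2 = LinearMap.range X.mulVecLin := by
    refine le_antisymm (sup_le ?_ ?_) ?_
    · rintro _ ⟨v, rfl⟩; exact ⟨e *ᵥ v, by simp [Matrix.mulVec_mulVec]⟩
    · rintro _ ⟨v, rfl⟩; exact ⟨(1 - e) *ᵥ v, by simp only [Matrix.mulVecLin_apply]; exact Matrix.mulVec_mulVec _ _ _⟩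
    · rintro _ ⟨v, rfl⟩
      refine Submodule.mem_sup.2 ⟨_, ⟨v, rfl⟩, _, ⟨v, rfl⟩, ?_⟩
      simp only [Matrix.mulVecLin_apply, ← Matrix.add_mulVec, ← mul_add, add_sub_cancel, mul_one]
  have hinf : R1 ⊓ R2 = ⊥ := by
    refine eq_bot_iff.2 ?_
    rintro v ⟨⟨a, ha⟩, ⟨b, hb⟩⟩
    simp only [Matrix.mulVecLin_apply] at ha hb
    have e1 : e *ᵥ v = v := by rw [← ha, Matrix.mulVec_mulVec, ← mul_assoc, ← hX.eq, mul_assoc, hee]
    have e2 : e *ᵥ v = 0 := by
      rw [← hb, Matrix.mulVec_mulVec, ← mul_assoc, ← hX.eq, mul_assoc, mul_sub, mul_one, hee, sub_self, mul_zero,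
        Matrix.zero_mulVec]
    exact (Submodule.mem_bot F).2 (e1.symm.trans e2)
  have := Submodule.finrank_sup_add_finrank_inf_eq R1 R2
  rw [hsup, hinf, finrank_bot, add_zero] at this
  exact this.symm

end CfsgLib.Char.EvenClass
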