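import Cfsg.Agent.Lib.Char.EvenClass.OLower
import Cfsg.Agent.Lib.Classical.QuadBasic

/-!
# Isometry groups as groups of forms inside the symplectic group
-/

set_option autoImplicit false
set_option linter.unusedSectionVars false

open scoped Classical

namespace CfsgLib.Char.EvenClass

open Module Matrix CfsgLib.IsometryConj CfsgLib.Sp

variable {F : Type*} [Field F] [Fintype F] [CharP F 2]

/-- Bounds for the class number of the isometry group of a non-degenerate quadratic form in dimension `2m`. -/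
theorem card_isometry_classes {ι : Type} [Fintype ι] [DecidableEq ι] {m : ℕ} (hm : 2 ≤ m) (hι : Fintype.card ι = 2 * m)
    (Q : (ι → F) → F) (x : QUni F (ι → F)) (hx : x.Q = Q) :
    Fintype.card F ^ m ≤ 2 * Nat.card (ConjClasses ↥(Cfsg.isometryGroup F Q)) ∧
      Nat.card (ConjClasses ↥(Cfsg.isometryGroup F Q)) ≤ 15 * Fintype.card F ^ m := by
  subst hx
  let φ₀ : (Fin m ⊕ Fin m → F) ≃ₗ[F] (ι → F) := LinearEquiv.ofFinrankEq _ _ (by
    rw [Module.finrank_pi, Module.finrank_pi, hι, Fintype.card_sum, Fintype.card_fin]; ring)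
  let B' : LinearMap.BilinForm F (Fin m ⊕ Fin m → F) := x.B.compl₁₂ φ₀.toLinearMap φ₀.toLinearMap
  have halt : B'.IsAlt := fun u => x.alt _
  have hsep : B'.Nondegenerate := (LinearMap.IsRefl.nondegenerate_iff_separatingLeft halt.isRefl).2 fun u hu =>
    φ₀.injective (by rw [map_zero]; exact x.sep _ fun v => by simpa [B'] using hu (φ₀.symm v))
  have hs : (Classical.SympCount.sB m F).IsAlt := fun u => sf_self u
  have hsn : (Classical.SympCount.sB m F).Nondegenerate :=
    (LinearMap.IsRefl.nondegenerate_iff_separatingLeft hs.isRefl).2 fun u hu => eq_zero_of_sf hu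
  obtain ⟨ψ, hψ⟩ := exists_alt_iso B' (Classical.SympCount.sB m F) halt hs hsep hsn
  set φ : (Fin m ⊕ Fin m → F) ≃ₗ[F] (ι → F) := ψ.trans φ₀
  have hφ : ∀ u v, x.B (φ u) (φ v) = sf u v := hψ
  set Q' : (Fin m ⊕ Fin m → F) → F := fun v => x.Q (φ v) with hQ'
  have hQ : IsQ Q' := ⟨fun c u => by simp only [hQ', map_smul, x.Q_smul],
    fun u v => by simp only [hQ', map_add, x.Q_add, hφ]⟩
  let Ψ : Matrix ι ι F ≃ₐ[F] Matrix (Fin m ⊕ Fin m) (Fin m ⊕ Fin m) F :=
    (LinearMap.toMatrixAlgEquiv'.symm.trans (φ.symm.conjAlgEquiv F)).trans LinearMap.toMatrixAlgEquiv'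
  have hΨ : ∀ (M : Matrix ι ι F) (v : Fin m ⊕ Fin m → F), Ψ M *ᵥ v = φ.symm (M *ᵥ φ v) := fun M v => by
    show LinearMap.toMatrixAlgEquiv' ((φ.symm.conjAlgEquiv F) (LinearMap.toMatrixAlgEquiv'.symm M)) *ᵥ v = _
    rw [← Matrix.toLinAlgEquiv'_apply, Matrix.toLinAlgEquiv'_toMatrixAlgEquiv']
    rfl
  have hfwd : ∀ g : ↥(Cfsg.isometryGroup F x.Q), ∀ v, Q' (Ψ ((g : GL ι F) : Matrix ι ι F) *ᵥ v) = Q' v := fun g v => by
    simp only [hQ', hΨ, φ.apply_symm_apply]
    exact CfsgLib.Classical.mem_isometryGroup_iff.1 g.2 (φ v)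
  have hst : ∀ M : Matrix (Fin m ⊕ Fin m) (Fin m ⊕ Fin m) F, (∀ v, Q' (M *ᵥ v) = Q' v) →
      (sympAdjoint m F).st M * M = 1 := fun M hM => by
    have h1 := st_mul_eq_of_sf (M := M) (N := 1) fun u v => by
      have h2 := hQ.add (M *ᵥ u) (M *ᵥ v)
      rw [← Matrix.mulVec_add, hM, hM, hM, hQ.add] at h2
      rw [Matrix.one_mulVec, Matrix.one_mulVec]
      exact (add_left_cancel h2).symm
    rwa [Adjoint.st_one, one_mul] at h1
  let f : ↥(Cfsg.isometryGroup F x.Q) →* ↥(OQ Q') :=
    { toFun := fun g => ⟨⟨Ψ ((g : GL ι F) : Matrix ι ι F), (sympAdjoint_mem_iff _).2 (hst _ (hfwd g))⟩, hfwd g⟩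
      map_one' := Subtype.ext (Subtype.ext (by simp))
      map_mul' := fun a b => Subtype.ext (Subtype.ext (by simp)) }
  have hinj : Function.Injective f := fun a b h => Subtype.ext (Units.ext
    (Ψ.injective (congrArg (fun z : ↥(OQ Q') => ((z.1 : ↥(Matrix.symplecticGroup (Fin m) F)) :
      Matrix (Fin m ⊕ Fin m) (Fin m ⊕ Fin m) F)) h)))
  have hsurj : Function.Surjective f := fun y => by
    let u : GL ι F := Units.map (Ψ.symm : _ →* Matrix ι ι F)
      ((Units.map (Matrix.symplecticGroup (Fin m) F).subtype) (toUnits y.1))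
    have hu : ∀ v, x.Q ((u : Matrix ι ι F) *ᵥ v) = x.Q v := fun v => by
      have h := y.2 (φ.symm v)
      have e : Ψ (u : Matrix ι ι F) = ((y.1 : ↥(Matrix.symplecticGroup (Fin m) F)) :
          Matrix (Fin m ⊕ Fin m) (Fin m ⊕ Fin m) F) := Ψ.apply_symm_apply _
      simp only [hQ', ← e, hΨ, φ.apply_symm_apply] at h
      exact h
    exact ⟨⟨u, CfsgLib.Classical.mem_isometryGroup_iff.2 hu⟩, Subtype.ext (Subtype.ext (Ψ.apply_symm_apply _))⟩
  let e := MulEquiv.ofBijective f ⟨hinj, hsurj⟩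
  have hcard : Nat.card (ConjClasses ↥(Cfsg.isometryGroup F x.Q)) = Nat.card (ConjClasses ↥(OQ Q')) := by
    refine Nat.card_congr
      { toFun := ConjClasses.map e.toMonoidHom
        invFun := ConjClasses.map e.symm.toMonoidHom
        left_inv := fun c => ?_
        right_inv := fun c => ?_ }
    · obtain ⟨g, rfl⟩ := ConjClasses.mk_surjective c
      exact congrArg ConjClasses.mk (e.symm_apply_apply g)
    · obtain ⟨g, rfl⟩ := ConjClasses.mk_surjective c
      exact congrArg ConjClasses.mk (e.apply_symm_apply g)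
  rw [hcard]
  exact ⟨le_card_oq_classes hm Q' hQ, card_oq_classes_le hQ⟩

/-- The hyperbolic form. -/
noncomputable def plusUni (n : ℕ) (F : Type*) [Field F] [CharP F 2] : QUni F (Fin n ⊕ Fin n → F) where
  B := LinearMap.mk₂ F (fun u v => ∑ i, (u (.inl i) * v (.inr i) + u (.inr i) * v (.inl i)))
    (fun a b c => by simp only [Pi.add_apply, ← Finset.sum_add_distrib]; exact Finset.sum_congr rfl fun i _ => by ring)
    (fun t a b => by simp only [Pi.smul_apply, smul_eq_mul, Finset.mul_sum]; exact Finset.sum_congr rfl fun i _ => by ring)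
    (fun a b c => by simp only [Pi.add_apply, ← Finset.sum_add_distrib]; exact Finset.sum_congr rfl fun i _ => by ring)
    (fun t a b => by simp only [Pi.smul_apply, smul_eq_mul, Finset.mul_sum]; exact Finset.sum_congr rfl fun i _ => by ring)
  g := 1
  Q := Cfsg.quadFormPlus n F
  alt u := show ∑ i, (u (.inl i) * u (.inr i) + u (.inr i) * u (.inl i)) = 0 from Finset.sum_eq_zero fun i _ => by
    rw [mul_comm (u (.inr i))]; exact CharTwo.add_self_eq_zero _
  sep u hu := funext fun j => by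
    rcases j with i | i
    · simpa [Pi.single_apply, Finset.sum_add_distrib] using hu (Pi.single (.inr i) 1)
    · simpa [Pi.single_apply, Finset.sum_add_distrib] using hu (Pi.single (.inl i) 1)
  inv _ _ := rfl
  nil := ⟨1, by rw [pow_one, add_self_end]⟩
  Q_smul c u := by
    simp only [Cfsg.quadFormPlus, Pi.smul_apply, smul_eq_mul, Finset.mul_sum]
    exact Finset.sum_congr rfl fun i _ => by ring
  Q_add u v := by
    simp only [Cfsg.quadFormPlus, Pi.add_apply, LinearMap.mk₂_apply, ← Finset.sum_add_distrib]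
    exact Finset.sum_congr rfl fun i _ => by ring
  Q_g _ := rfl

/-- The plane of the elliptic form. -/
noncomputable def binUni (a b : F) (ha : a ≠ 0) : QUni F (Fin 2 → F) where
  B := LinearMap.mk₂ F (fun u v => a * (u 0 * v 1 + u 1 * v 0))
    (fun a b c => by simp only [Pi.add_apply]; ring) (fun t a b => by simp only [Pi.smul_apply, smul_eq_mul]; ring)
    (fun a b c => by simp only [Pi.add_apply]; ring) (fun t a b => by simp only [Pi.smul_apply, smul_eq_mul]; ring)
  g := 1
  Q v := v 0 ^ 2 + a * v 0 * v 1 + b * v 1 ^ 2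
  alt u := by
    show a * (u 0 * u 1 + u 1 * u 0) = 0
    rw [mul_comm (u 1), CharTwo.add_self_eq_zero, mul_zero]
  sep u hu := funext fun j => by
    have h1 := hu (Pi.single 1 1)
    have h2 := hu (Pi.single 0 1)
    fin_cases j <;> simp_all
  inv _ _ := rfl
  nil := ⟨1, by rw [pow_one, add_self_end]⟩
  Q_smul c u := by simp only [Pi.smul_apply, smul_eq_mul]; ring
  Q_add u v := by simp only [Pi.add_apply, LinearMap.mk₂_apply, CharTwo.add_sq]; ring
  Q_g _ := rfl

/-- The elliptic form. -/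
noncomputable def minusUni (n : ℕ) (a b : F) (ha : a ≠ 0) : QUni F ((Fin n ⊕ Fin n) ⊕ Fin 2 → F) :=
  ((plusUni n F).prod (binUni a b ha)).pull (LinearEquiv.sumArrowLequivProdArrow (Fin n ⊕ Fin n) (Fin 2) F F)

theorem minusUni_Q (n : ℕ) (a b : F) (ha : a ≠ 0) :
    (minusUni n a b ha).Q = Cfsg.quadFormMinus n F a b := rfl

theorem ne_zero_of_anisotropic {a b : F}
    (hab : ∀ z₁ z₂ : F, z₁ ^ 2 + a * z₁ * z₂ + b * z₂ ^ 2 = 0 → z₁ = 0 ∧ z₂ = 0) : a ≠ 0 := by
  rintro rfl
  obtain ⟨s, hs⟩ := exists_sqrt b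
  exact one_ne_zero (hab s 1 (by rw [hs, zero_mul, zero_mul, add_zero, one_pow, mul_one, CharTwo.add_self_eq_zero])).2

end CfsgLib.Char.EvenClass
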