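import Mathlib

/-!
# Unipotent isometries of quadratic spaces in characteristic two

A quadratic space with alternating non-degenerate polar form and a unipotent isometry `g`. With `N = g + 1` and
`T = g + g⁻¹` there is a quadratic form `lev j` for each `j`: the given form for `j = 0`, and `u ↦ B (N T^(j-1) u) u`
otherwise; the polar form of `lev j` is `B (T^j ·) ·`, and `lev j (N u) = lev (j + 1) u`.
-/

set_option autoImplicit false
set_option linter.unusedSectionVars false

namespace CfsgLib.Char.EvenClass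

/-- A quadratic space with a unipotent isometry. -/
structure QUni (F V : Type*) [Field F] [AddCommGroup V] [Module F V] where
  B : LinearMap.BilinForm F V
  g : Module.End F V
  Q : V → F
  alt : ∀ u, B u u = 0
  sep : ∀ u, (∀ v, B u v = 0) → u = 0
  inv : ∀ u v, B (g u) (g v) = B u v
  nil : IsNilpotent (g + 1)
  Q_smul : ∀ (c : F) u, Q (c • u) = c ^ 2 * Q u
  Q_add : ∀ u v, Q (u + v) = Q u + Q v + B u v
  Q_g : ∀ u, Q (g u) = Q u

variable {F : Type*} [Field F] [CharP F 2]
variable {V : Type*} [AddCommGroup V] [Module F V]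

theorem add_self_vec (F : Type*) [Field F] [CharP F 2] {V : Type*} [AddCommGroup V] [Module F V] (v : V) :
    v + v = 0 := by
  rw [← two_smul F v, show (2 : F) = 0 from CharTwo.two_eq_zero, zero_smul]

theorem add_self_end (f : Module.End F V) : f + f = 0 :=
  LinearMap.ext fun v => add_self_vec F _

namespace QUni

variable (x : QUni F V)

theorem B_comm (u v : V) : x.B u v = x.B v u := by
  have h := x.alt (u + v)
  simp only [map_add, LinearMap.add_apply, x.alt, add_zero, zero_add] at h
  linear_combination (norm := ring_nf) h - (CharTwo.add_self_eq_zero (x.B v u))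

/-- `N = g + 1`. -/
def N : Module.End F V := x.g + 1

theorem isUnit_g : IsUnit x.g := by
  have h := x.nil.isUnit_add_one
  rwa [add_assoc, add_self_end, add_zero] at h

/-- The inverse of `g`. -/
noncomputable def gi : Module.End F V := Ring.inverse x.g

theorem gi_mul : x.gi * x.g = 1 := Ring.inverse_mul_cancel _ x.isUnit_g

theorem mul_gi : x.g * x.gi = 1 := Ring.mul_inverse_cancel _ x.isUnit_g

theorem g_gi (v : V) : x.g (x.gi v) = v := by
  rw [← Module.End.mul_apply, x.mul_gi, Module.End.one_apply]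

theorem gi_g (v : V) : x.gi (x.g v) = v := by
  rw [← Module.End.mul_apply, x.gi_mul, Module.End.one_apply]

theorem commute_g_gi : Commute x.g x.gi := x.mul_gi.trans x.gi_mul.symm

/-- `T = g + g⁻¹`. -/
noncomputable def T : Module.End F V := x.g + x.gi

theorem commute_g_T : Commute x.g x.T := (Commute.refl _).add_right x.commute_g_gi

theorem commute_gi_T : Commute x.gi x.T := x.commute_g_gi.symm.add_right (Commute.refl _)

theorem commute_N_T : Commute x.N x.T := x.commute_g_T.add_left (Commute.one_left _)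

theorem commute_g_N : Commute x.g x.N := (Commute.refl _).add_right (Commute.one_right _)

theorem N_apply (v : V) : x.N v = x.g v + v := rfl

theorem T_apply (v : V) : x.T v = x.g v + x.gi v := rfl

theorem B_g_left (u v : V) : x.B (x.g u) v = x.B u (x.gi v) := by
  conv_lhs => rw [← x.g_gi v, x.inv]

theorem B_gi_left (u v : V) : x.B (x.gi u) v = x.B u (x.g v) := by
  rw [x.B_comm, ← x.B_g_left, x.B_comm]

theorem B_T (u v : V) : x.B (x.T u) v = x.B u (x.T v) := by
  simp only [T_apply, map_add, LinearMap.add_apply, x.B_g_left, x.B_gi_left]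
  ring

theorem B_T_pow (i : ℕ) (u v : V) : x.B ((x.T ^ i) u) v = x.B u ((x.T ^ i) v) := by
  induction i generalizing u v with
  | zero => rfl
  | succ i ih => rw [pow_succ, Module.End.mul_apply, ih, x.B_T, ← Module.End.mul_apply, ← pow_succ', pow_succ]

theorem B_T_pow_self (i : ℕ) (u : V) : x.B ((x.T ^ i) u) u = 0 := by
  rcases Nat.even_or_odd' i with ⟨k, rfl | rfl⟩
  · rw [two_mul, pow_add, Module.End.mul_apply, x.B_T_pow, x.alt]
  · rw [show 2 * k + 1 = k + (1 + k) by ring, pow_add, pow_add, Module.End.mul_apply, Module.End.mul_apply, pow_one,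
      x.B_T_pow, T_apply, map_add, LinearMap.add_apply, x.B_g_left, x.B_comm _ ((x.T ^ k) u)]
    exact CharTwo.add_self_eq_zero _

theorem N_mul_N : x.N * x.N = x.T * x.g := by
  have h1 : x.N * x.N = x.g * x.g + (x.g + x.g) + 1 := by
    simp only [N, add_mul, mul_add, one_mul, mul_one]; abel
  rw [h1, add_self_end, add_zero]
  simp only [T, add_mul, x.gi_mul]

theorem NN_apply (v : V) : x.N (x.N v) = x.T v + x.T (x.N v) := by
  rw [← Module.End.mul_apply, x.N_mul_N, Module.End.mul_apply, x.N_apply, map_add, add_comm (x.T (x.g v)), ← add_assoc,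
    add_self_vec F (x.T v), zero_add]

/-- `T + N = g⁻¹ + 1` is the adjoint of `N`. -/
theorem TN_apply (v : V) : x.T v + x.N v = x.gi v + v := by
  rw [T_apply, N_apply, show x.g v + x.gi v + (x.g v + v) = (x.g v + x.g v) + (x.gi v + v) by abel,
    add_self_vec F, zero_add]

theorem B_N_left (u v : V) : x.B (x.N u) v = x.B u (x.T v + x.N v) := by
  rw [TN_apply, N_apply, map_add, map_add, LinearMap.add_apply, x.B_g_left]

theorem B_N_N (u v : V) : x.B (x.N u) (x.N v) = x.B (x.T u) v := by
  rw [x.B_N_left, NN_apply, x.B_T,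
    show x.T (x.N v) + (x.T v + x.T (x.N v)) = x.T v + (x.T (x.N v) + x.T (x.N v)) by abel,
    add_self_vec F, add_zero]

theorem T_pow_N (i : ℕ) (v : V) : (x.T ^ i) (x.N v) = x.N ((x.T ^ i) v) := by
  rw [← Module.End.mul_apply, ← Module.End.mul_apply, (x.commute_N_T.pow_right i).eq]

theorem T_pow_g (i : ℕ) (v : V) : (x.T ^ i) (x.g v) = x.g ((x.T ^ i) v) := by
  rw [← Module.End.mul_apply, ← Module.End.mul_apply, (x.commute_g_T.pow_right i).eq]

theorem T_pow_T_pow (i k : ℕ) (v : V) : (x.T ^ i) ((x.T ^ k) v) = (x.T ^ (i + k)) v := by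
  rw [← Module.End.mul_apply, ← pow_add]

theorem T_nilpotent : IsNilpotent x.T := by
  have h : x.T = x.gi * (x.N * x.N) := by
    rw [x.N_mul_N, ← mul_assoc, x.commute_gi_T.eq, mul_assoc, x.gi_mul, mul_one]
  have hc : Commute x.gi (x.N * x.N) :=
    (x.commute_g_gi.symm.add_right (Commute.one_right _)).mul_right (x.commute_g_gi.symm.add_right (Commute.one_right _))
  rw [h]
  exact hc.isNilpotent_mul_left ((Commute.refl x.N).isNilpotent_mul_left x.nil)

/-- The quadratic forms attached to the isometry. -/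
noncomputable def lev : ℕ → V → F
  | 0 => x.Q
  | i + 1 => fun u => x.B (x.N ((x.T ^ i) u)) u

theorem lev_zero (u : V) : x.lev 0 u = x.Q u := rfl

theorem lev_succ (i : ℕ) (u : V) : x.lev (i + 1) u = x.B (x.N ((x.T ^ i) u)) u := rfl

theorem lev_smul (j : ℕ) (c : F) (u : V) : x.lev j (c • u) = c ^ 2 * x.lev j u := by
  cases j with
  | zero => exact x.Q_smul c u
  | succ i => simp only [lev_succ, map_smul, LinearMap.smul_apply, smul_eq_mul]; ring

theorem lev_zero_vec (j : ℕ) : x.lev j 0 = 0 := by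
  simpa using x.lev_smul j 0 0

theorem lev_add (j : ℕ) (u v : V) : x.lev j (u + v) = x.lev j u + x.lev j v + x.B ((x.T ^ j) u) v := by
  cases j with
  | zero => exact x.Q_add u v
  | succ i =>
    have e : x.B (x.N ((x.T ^ i) v)) u = x.B ((x.T ^ (i + 1)) u) v + x.B (x.N ((x.T ^ i) u)) v := by
      rw [x.B_N_left, x.B_T_pow, map_add, x.T_pow_N, ← Module.End.mul_apply, ← pow_succ, map_add, x.B_comm v,
        x.B_comm v]
    simp only [lev_succ, map_add, LinearMap.add_apply, e]
    linear_combination (CharTwo.add_self_eq_zero (x.B (x.N ((x.T ^ i) u)) v))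

theorem lev_N (j : ℕ) (u : V) : x.lev j (x.N u) = x.lev (j + 1) u := by
  cases j with
  | zero =>
    rw [lev_zero, lev_succ, pow_zero, Module.End.one_apply, N_apply, x.Q_add, x.Q_g, CharTwo.add_self_eq_zero, zero_add,
      map_add, LinearMap.add_apply, x.alt, add_zero]
  | succ i =>
    rw [lev_succ, lev_succ, x.B_N_N, x.T_pow_N, pow_succ', Module.End.mul_apply, ← Module.End.mul_apply x.T x.N,
      ← x.commute_N_T.eq, Module.End.mul_apply]

theorem lev_g (j : ℕ) (u : V) : x.lev j (x.g u) = x.lev j u := by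
  cases j with
  | zero => exact x.Q_g u
  | succ i =>
    rw [lev_succ, lev_succ, x.T_pow_g, ← Module.End.mul_apply, ← x.commute_g_N.eq, Module.End.mul_apply, x.inv]

theorem lev_gi (j : ℕ) (u : V) : x.lev j (x.gi u) = x.lev j u := by
  conv_rhs => rw [← x.g_gi u, x.lev_g]

theorem lev_T (j : ℕ) (u : V) : x.lev j (x.T u) = x.lev (j + 2) u := by
  have h : x.T u = x.N (x.gi (x.N u)) := by
    calc x.T u = x.T (x.g (x.gi u)) := by rw [g_gi]
      _ = (x.N * x.N) (x.gi u) := by rw [x.N_mul_N, Module.End.mul_apply]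
      _ = x.N (x.gi (x.N u)) := by
        have hc : Commute x.gi x.N := x.commute_g_gi.symm.add_right (Commute.one_right _)
        rw [Module.End.mul_apply, ← Module.End.mul_apply x.N x.gi, ← hc.eq, Module.End.mul_apply]
  rw [h, x.lev_N, x.lev_gi, x.lev_N]

theorem lev_T_pow (j e : ℕ) (u : V) : x.lev j ((x.T ^ e) u) = x.lev (j + 2 * e) u := by
  induction e generalizing j with
  | zero => rfl
  | succ e ih =>
    rw [pow_succ', Module.End.mul_apply, x.lev_T, ih, show j + 2 + 2 * e = j + 2 * (e + 1) by ring]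

theorem lev_T_pow_N (j e : ℕ) (u : V) : x.lev j ((x.T ^ e) (x.N u)) = x.lev (j + 2 * e + 1) u := by
  rw [x.lev_T_pow, x.lev_N]

theorem T_pow_apply_zero {h i : ℕ} {u : V} (hu : (x.T ^ h) u = 0) (hi : h ≤ i) : (x.T ^ i) u = 0 := by
  rw [← Nat.sub_add_cancel hi, pow_add, Module.End.mul_apply, hu, map_zero]

theorem lev_eq_zero {h j : ℕ} {u : V} (hu : (x.T ^ h) u = 0) (hj : h < j) : x.lev j u = 0 := by
  obtain ⟨i, rfl⟩ : ∃ i, j = i + 1 := ⟨j - 1, by omega⟩
  rw [lev_succ, x.T_pow_apply_zero hu (by omega), map_zero, map_zero, LinearMap.zero_apply]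

theorem B_T_N (i k : ℕ) (u v : V) :
    x.B ((x.T ^ i) u) ((x.T ^ k) v) = x.B ((x.T ^ (i + k)) u) v := by
  rw [← x.B_T_pow, x.T_pow_T_pow, add_comm]

theorem B_NT_NT (i k : ℕ) (u v : V) :
    x.B (x.N ((x.T ^ i) u)) (x.N ((x.T ^ k) v)) = x.B ((x.T ^ (i + k + 1)) u) v := by
  rw [x.B_N_N, ← Module.End.mul_apply, ← pow_succ', x.B_T_N, show i + 1 + k = i + k + 1 by ring]

theorem B_NT_T (i k : ℕ) (u v : V) :
    x.B (x.N ((x.T ^ i) u)) ((x.T ^ k) v) = x.B (x.N ((x.T ^ (i + k)) u)) v := by
  rw [← x.B_T_pow, ← x.T_pow_N, x.T_pow_T_pow, ← x.T_pow_N, add_comm]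

theorem B_T_NT (i k : ℕ) (u v : V) :
    x.B ((x.T ^ i) u) (x.N ((x.T ^ k) v)) = x.B ((x.T ^ (i + k + 1)) u) v + x.B (x.N ((x.T ^ (i + k)) u)) v := by
  rw [x.B_comm, x.B_NT_T, x.B_N_left, map_add, x.B_T_pow, x.B_T_pow, x.B_comm v, x.B_comm v, x.T_pow_N,
    ← Module.End.mul_apply, ← pow_succ, show k + i = i + k by ring]

end QUni

end CfsgLib.Char.EvenClass
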